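import Mathlib
import Cfsg.Agent.Lib.SL2Tori.Borel
import Cfsg.Agent.Lib.SL2Tori.Basic
import Cfsg.Agent.Lib.SL2Tori.Products
import Cfsg.Agent.Lib.Linear.SL2

/-!
Class representatives of SL₂(q), uniformly in the parity of q: scalars, non-scalar elements with
trace squared 4, and regular elements split by whether the trace is of the form a + a⁻¹.
-/

set_option autoImplicit false
set_option linter.unusedSectionVars false

namespace Cfsg.Agent.Lib.SL2Chars49

open Cfsg.Agent.Lib.PSLTwo.Sylow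
open Cfsg.Agent.Lib.SL2Tori.Borel (borel mem_borel)

variable {F : Type*} [Field F]

local notation "SL" => Matrix.SpecialLinearGroup (Fin 2) F
local notation "M2" => Matrix (Fin 2) (Fin 2) F

/-- Roots of unity of order dividing two. -/
def Rt (z : F) : Prop := z * z = 1

theorem Rt.ne_zero {z : F} (h : Rt z) : z ≠ 0 := by
  rintro rfl; simp [Rt] at h

theorem Rt.inv_eq {z : F} (h : Rt z) : z⁻¹ = z := inv_eq_of_mul_eq_one_right h

theorem rt_one : Rt (1 : F) := one_mul 1

theorem rt_neg_one : Rt (-1 : F) := by simp [Rt]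

theorem rt_iff {z : F} : Rt z ↔ z = 1 ∨ z = -1 := mul_self_eq_one_iff

/-- `!![z, x; 0, z]` for a sign `z`. -/
def nu (z : F) (hz : Rt z) (x : F) : Matrix.SpecialLinearGroup (Fin 2) F :=
  mk2 z x 0 z (by rw [mul_zero, sub_zero]; exact hz)

/-- `diag(a, a⁻¹)`. -/
def dg : Fˣ →* Matrix.SpecialLinearGroup (Fin 2) F where
  toFun a := mk2 (a : F) 0 0 ((a⁻¹ : Fˣ) : F) (by simp)
  map_one' := by apply slExt <;> simp [one_apply']
  map_mul' a b := by apply slExt <;> simp [mul_apply']; ring

@[simp] theorem dg_00 (a : Fˣ) : (dg a).1 0 0 = (a : F) := rfl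
@[simp] theorem dg_01 (a : Fˣ) : (dg a).1 0 1 = 0 := rfl
@[simp] theorem dg_10 (a : Fˣ) : (dg a).1 1 0 = 0 := rfl
@[simp] theorem dg_11 (a : Fˣ) : (dg a).1 1 1 = ((a⁻¹ : Fˣ) : F) := rfl
@[simp] theorem nu_00 (z : F) (hz : Rt z) (x : F) : (nu z hz x).1 0 0 = z := rfl
@[simp] theorem nu_01 (z : F) (hz : Rt z) (x : F) : (nu z hz x).1 0 1 = x := rfl
@[simp] theorem nu_10 (z : F) (hz : Rt z) (x : F) : (nu z hz x).1 1 0 = 0 := rfl
@[simp] theorem nu_11 (z : F) (hz : Rt z) (x : F) : (nu z hz x).1 1 1 = z := rfl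

theorem dg_injective : Function.Injective (dg (F := F)) := fun a b h =>
  Units.ext (congrArg (fun g : SL => g.1 0 0) h)

theorem nu_congr {z z' : F} (h : z = z') (hz : Rt z) (hz' : Rt z') (x : F) :
    nu z hz x = nu z' hz' x := by subst h; rfl

theorem nu_mul (z w : F) (hz : Rt z) (hw : Rt w) (x y : F) (hzw : Rt (z * w)) :
    nu z hz x * nu w hw y = nu (z * w) hzw (z * y + x * w) := by
  apply slExt <;> simp [mul_apply']

theorem nu_one_zero : nu (1 : F) rt_one 0 = 1 := by apply slExt <;> simp [one_apply']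

theorem nu_neg_one_zero : nu (-1 : F) rt_neg_one 0 = negOne := by apply slExt <;> simp

/-- The trace takes the form `a + a⁻¹`. -/
def Split (g : Matrix.SpecialLinearGroup (Fin 2) F) : Prop :=
  ∃ a : Fˣ, slTr g = (a : F) + ((a⁻¹ : Fˣ) : F)

theorem Split.conj_iff (g h : SL) : Split (h * g * h⁻¹) ↔ Split g := by
  rw [Split, Split, slTr_conj]

theorem slTr_nu (z : F) (hz : Rt z) (x : F) : slTr (nu z hz x) = 2 * z := by
  simp [slTr]; ring

theorem slTr_dg (a : Fˣ) : slTr (dg a) = (a : F) + ((a⁻¹ : Fˣ) : F) := rfl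

theorem split_dg (a : Fˣ) : Split (dg a) := ⟨a, rfl⟩

theorem nu_tr_sq (z : F) (hz : Rt z) (x : F) : slTr (nu z hz x) ^ 2 = 4 := by
  rw [slTr_nu]; have hz' : z * z = 1 := hz; linear_combination 4 * hz'

theorem nonScalar_nu {z : F} (hz : Rt z) {x : F} (hx : x ≠ 0) : NonScalar (nu z hz x) :=
  Or.inl (by simpa using hx)

theorem dg_regular_iff (a : Fˣ) : SL2Tori.Regular (dg a) ↔ (a : F) * a ≠ 1 := by
  rw [SL2Tori.regular_iff_disc]
  simp only [dg_00, dg_01, dg_10, dg_11, Units.val_inv_eq_inv_val, mul_zero, add_zero, ne_eq,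
    sq_eq_zero_iff, sub_eq_zero]
  constructor
  · intro h h1
    exact h (eq_inv_of_mul_eq_one_left h1)
  · intro h h1
    exact h (by nth_rewrite 2 [h1]; exact mul_inv_cancel₀ a.ne_zero)

theorem nonScalar_dg_iff (a : Fˣ) : NonScalar (dg a) ↔ (a : F) * a ≠ 1 := by
  simp only [PSLTwo.Sylow.NonScalar, dg_01, dg_10, dg_00, dg_11, ne_eq, not_true_eq_false, false_or,
    Units.val_inv_eq_inv_val]
  constructor
  · exact fun h h1 => h (eq_inv_of_mul_eq_one_left h1)
  · intro h h1
    exact h (by nth_rewrite 2 [h1]; exact mul_inv_cancel₀ a.ne_zero)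

theorem scalar_eq_nu {g : SL} (h : ¬ NonScalar g) :
    ∃ (z : F) (hz : Rt z), g = nu z hz 0 := by
  rcases scalar_cases h with rfl | rfl
  · exact ⟨1, rt_one, nu_one_zero.symm⟩
  · exact ⟨-1, rt_neg_one, nu_neg_one_zero.symm⟩

theorem not_nonScalar_nu_zero (z : F) (hz : Rt z) : ¬ NonScalar (nu z hz 0) := by
  simp [PSLTwo.Sylow.NonScalar]

theorem nu_zero_central (z : F) (hz : Rt z) (g : SL) : g * nu z hz 0 = nu z hz 0 * g := by
  apply slExt <;> simp [mul_apply', mul_comm]

theorem conj_nu_zero (z : F) (hz : Rt z) (g : SL) : g * nu z hz 0 * g⁻¹ = nu z hz 0 := by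
  rw [nu_zero_central, mul_inv_cancel_right]

theorem nonScalar_conj {g : SL} (h : NonScalar g) (P : SL) : NonScalar (P * g * P⁻¹) := by
  by_contra hn
  obtain ⟨z, hz, e⟩ := scalar_eq_nu hn
  have : g = nu z hz 0 := by
    rw [← conj_nu_zero z hz P⁻¹, ← e]; group
  exact not_nonScalar_nu_zero z hz (this ▸ h)

/-- A non-scalar element with trace squared 4 is conjugate to some `nu z x`. -/
theorem exists_conj_nu {g : SL} (hg : NonScalar g) (h4 : slTr g ^ 2 = 4) :
    ∃ (z : F) (hz : Rt z) (x : F) (P : SL), x ≠ 0 ∧ P * nu z hz x * P⁻¹ = g := by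
  obtain ⟨z, hz, ht⟩ : ∃ z : F, Rt z ∧ slTr g = 2 * z := by
    have : (slTr g - 2) * (slTr g + 2) = 0 := by linear_combination h4
    rcases mul_eq_zero.mp this with h | h
    · exact ⟨1, rt_one, by linear_combination h⟩
    · exact ⟨-1, rt_neg_one, by linear_combination h⟩
  have hd := det_eq g
  simp only [slTr] at ht
  have main : ∀ k : SL, k.1 1 0 = 0 → k.1 0 0 + k.1 1 1 = 2 * z → NonScalar k →
      ∃ x, x ≠ 0 ∧ k = nu z hz x := by
    intro k k10 ktr kns
    have kd := det_eq k
    rw [k10, mul_zero, sub_zero] at kd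
    have k00 : k.1 0 0 = z := by
      have hzz : z * z = 1 := hz
      have : (k.1 0 0 - z) ^ 2 = 0 := by
        linear_combination hzz - kd + k.1 0 0 * ktr
      exact sub_eq_zero.mp (sq_eq_zero_iff.mp this)
    have k11 : k.1 1 1 = z := by linear_combination ktr - k00
    refine ⟨k.1 0 1, ?_, slExt k00 rfl k10 k11⟩
    intro h
    rcases kns with h1 | h1 | h1
    · exact h1 h
    · exact h1 k10
    · exact h1 (k00.trans k11.symm)
  by_cases h10 : g.1 1 0 = 0
  · obtain ⟨x, hx, e⟩ := main g h10 ht hg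
    exact ⟨z, hz, x, 1, hx, by rw [e]; group⟩
  · let P : SL := mk2 (g.1 0 0 - z) (-(g.1 1 0)⁻¹) (g.1 1 0) 0 (by field_simp; ring)
    have hPi : P⁻¹ = mk2 0 (g.1 1 0)⁻¹ (-g.1 1 0) (g.1 0 0 - z) (by field_simp; ring) := by
      refine inv_eq_of_mul_eq_one_right ?_
      apply slExt <;> simp [P, mul_apply', one_apply', h10] <;> ring
    have e10 : (P⁻¹ * g * P).1 1 0 = 0 := by
      rw [hPi]
      simp [P, mul_apply']
      have hzz : z * z = 1 := hz
      linear_combination (g.1 1 0) * (hd - z * ht - hzz)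
    have etr : slTr (P⁻¹ * g * P) = slTr g := by
      have := slTr_conj g P⁻¹
      rwa [inv_inv] at this
    obtain ⟨x, hx, e⟩ := main (P⁻¹ * g * P) e10 (by
      simpa [slTr] using etr.trans ht) (by
        have := nonScalar_conj hg P⁻¹
        rwa [inv_inv] at this)
    exact ⟨z, hz, x, P, hx, by rw [← e]; group⟩

variable [Fintype F]

/-- Regular elements of equal trace are conjugate. -/
theorem exists_conj_of_regular {a b : SL} (ha : SL2Tori.Regular a) (hab : slTr b = slTr a) :
    ∃ P : SL, P * a * P⁻¹ = b := by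
  by_cases h2 : (2 : F) = 0
  · have : CharP F 2 := CharTwo.of_one_ne_zero_of_two_eq_zero one_ne_zero h2
    have hb : SL2Tori.Regular b := by rwa [SL2Tori.Regular, hab]
    exact SL2Tori.Products.exists_conj_of_slTr_eq (Or.inr ⟨this, ha.nonScalar, hb.nonScalar⟩) hab
  · refine SL2Tori.Products.exists_conj_of_slTr_eq (Or.inl ⟨?_, h2, ha⟩) hab
    rcases Nat.mod_two_eq_zero_or_one (Fintype.card F) with h | h
    · exfalso
      have := FiniteField.even_card_iff_char_two.mpr h
      have : CharP F 2 := ringChar.of_eq this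
      exact h2 CharTwo.two_eq_zero
    · exact h

omit [Fintype F] in
/-- Commuting elements of equal trace with a regular element. -/
theorem eq_or_eq_inv' {a b : SL} (ha : SL2Tori.Regular a) (hb : b * a = a * b)
    (htr : slTr b = slTr a) : b = a ∨ b = a⁻¹ := by
  by_cases h2 : (2 : F) = 0
  · obtain ⟨y, y1, y2, y3⟩ := commute_param ha.nonScalar hb
    have d1 := det_eq a
    have d2 := det_eq b
    rw [y1, y2] at d2
    simp only [slTr] at htr
    have hA : a.1 0 0 + a.1 1 1 ≠ 0 := by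
      intro h
      apply ha
      rw [slTr, h]
      linear_combination (-2 : F) * h2
    have hy : y = 1 := by
      have : (y - 1) * (a.1 0 0 + a.1 1 1) = 0 := by
        linear_combination -y3 + htr - b.1 1 1 * h2 + y * a.1 1 1 * h2
      exact sub_eq_zero.mp ((mul_eq_zero.mp this).resolve_right hA)
    subst hy
    have e11 : b.1 1 1 = b.1 0 0 - a.1 0 0 + a.1 1 1 := by linear_combination -y3
    have hc : (b.1 0 0 - a.1 0 0) * (b.1 0 0 - a.1 0 0 + (a.1 0 0 + a.1 1 1)) = 0 := by
      rw [e11] at d2; linear_combination d2 - d1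
    rcases mul_eq_zero.mp hc with h | h
    · left
      exact slExt (sub_eq_zero.mp h) (by rw [y1, one_mul]) (by rw [y2, one_mul])
        (by rw [e11]; linear_combination h)
    · right
      refine slExt ?_ ?_ ?_ ?_ <;> rw [inv_apply'] <;>
        simp only [Matrix.of_apply, Matrix.cons_val', Matrix.cons_val_zero, Matrix.cons_val_one,
          Matrix.cons_val_fin_one, Matrix.empty_val']
      · linear_combination h - a.1 1 1 * h2
      · rw [y1]; linear_combination a.1 0 1 * h2
      · rw [y2]; linear_combination a.1 1 0 * h2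
      · linear_combination e11 + h - a.1 0 0 * h2
  · exact eq_or_eq_inv h2 ha.nonScalar ha hb htr

/-- A regular element with split trace is conjugate to a diagonal one. -/
theorem exists_conj_dg {g : SL} (hg : SL2Tori.Regular g) (hs : Split g) :
    ∃ (a : Fˣ) (P : SL), (a : F) * a ≠ 1 ∧ P * dg a * P⁻¹ = g := by
  obtain ⟨a, ha⟩ := hs
  have hd : SL2Tori.Regular (dg a) := by
    rw [SL2Tori.Regular, slTr_dg, ← ha]; exact hg
  obtain ⟨P, hP⟩ := exists_conj_of_regular hd (b := g) ha
  exact ⟨a, P, (dg_regular_iff a).mp hd, hP⟩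

omit [Fintype F] in
theorem mem_torus_dg_iff {a : Fˣ} (ha : (a : F) * a ≠ 1) (g : SL) :
    g ∈ SL2Tori.torus (dg a) ↔ g ∈ (dg (F := F)).range := by
  constructor
  · intro h
    obtain ⟨y, y1, y2, -⟩ := commute_param ((nonScalar_dg_iff a).mpr ha) (SL2Tori.mem_torus.mp h)
    simp only [dg_01, dg_10, mul_zero] at y1 y2
    have hd := det_eq g
    rw [y1, zero_mul, sub_zero] at hd
    refine ⟨⟨g.1 0 0, g.1 1 1, hd, by rw [mul_comm]; exact hd⟩, ?_⟩
    exact slExt rfl y1.symm y2.symm rfl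
  · rintro ⟨b, rfl⟩
    rw [SL2Tori.mem_torus, ← map_mul, ← map_mul, mul_comm]

omit [Fintype F] in
theorem card_range_dg [Finite F] : Nat.card (dg (F := F)).range = Nat.card Fˣ :=
  Nat.card_congr (MonoidHom.ofInjective dg_injective).toEquiv.symm

/-- No fixed line for non-split elements. -/
theorem nonsplit_01 {g : SL} (hg : ¬ Split g) : g.1 0 1 ≠ 0 := by
  intro h
  have hd := det_eq g
  rw [h, zero_mul, sub_zero] at hd
  exact hg ⟨⟨g.1 0 0, g.1 1 1, hd, by rw [mul_comm]; exact hd⟩, rfl⟩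

theorem nonsplit_quad {g : SL} (hg : ¬ Split g) (c : F) :
    g.1 1 0 + c * (g.1 1 1 - g.1 0 0) - c ^ 2 * g.1 0 1 ≠ 0 := by
  intro h
  have hd := det_eq g
  apply hg
  have hl : (g.1 0 0 + g.1 0 1 * c) * (g.1 1 1 - g.1 0 1 * c) = 1 := by
    linear_combination hd + g.1 0 1 * h
  refine ⟨⟨g.1 0 0 + g.1 0 1 * c, g.1 1 1 - g.1 0 1 * c, hl, by rw [mul_comm]; exact hl⟩, ?_⟩
  simp [slTr]

theorem not_split_iff_noEigen (g : SL) :
    ¬ Split g ↔ ∀ (c : F) (v : Fin 2 → F), v ≠ 0 → (g : M2).mulVec v ≠ c • v := by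
  constructor
  · intro hg c v hv h
    have h0 := congrFun h 0
    have h1 := congrFun h 1
    simp only [Matrix.mulVec, dotProduct, Fin.sum_univ_two, Pi.smul_apply, smul_eq_mul] at h0 h1
    by_cases hv0 : v 0 = 0
    · refine nonsplit_01 hg ?_
      rw [hv0, mul_zero, zero_add, mul_zero] at h0
      refine (mul_eq_zero.mp h0).resolve_right fun hv1 => hv ?_
      funext i; fin_cases i <;> assumption
    · refine nonsplit_quad hg (v 1 / v 0) ?_
      field_simp
      linear_combination v 0 * h1 - v 1 * h0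
  · rintro h ⟨a, ha⟩
    have hd := det_eq g
    simp only [slTr] at ha
    have hai : (a : F) * ((a⁻¹ : Fˣ) : F) = 1 := by simp
    by_cases h01 : g.1 0 1 = 0
    · refine h (g.1 1 1) ![0, 1] (fun e => by simpa using congrFun e 1) ?_
      funext i
      fin_cases i <;> simp [Matrix.mulVec, dotProduct, Fin.sum_univ_two, h01]
    · refine h (a : F) ![g.1 0 1, (a : F) - g.1 0 0] (fun e => h01 (by simpa using congrFun e 0)) ?_
      funext i
      fin_cases i <;>
        simp only [Fin.zero_eta, Fin.mk_one, Matrix.mulVec, dotProduct, Fin.sum_univ_two,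
          Matrix.cons_val_zero, Matrix.cons_val_one, Matrix.cons_val_fin_one, Pi.smul_apply, smul_eq_mul]
      · ring
      · linear_combination (a : F) * ha - hd + hai

end Cfsg.Agent.Lib.SL2Chars49
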