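import Mathlib
import Cfsg.Agent.Lib.SL2Chars49.Classes

/-!
Summation over SL₂(q) by class types, for a given cyclic subgroup of order q + 1.
-/

set_option autoImplicit false
set_option linter.unusedSectionVars false

namespace Cfsg.Agent.Lib.SL2Chars49

open Cfsg.Agent.Lib.PSLTwo.Sylow
open Cfsg.Agent.Lib.SL2Tori.Borel (borel mem_borel borelEquiv rep rep_bijective card_borel)
open Cfsg.Agent.Lib.SL2Tori (Regular torus mem_torus)

section Generic

variable {G : Type*} [Group G] [Fintype G] [DecidableEq G]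

open scoped Classical in
/-- Class sums over the conjugates of a finite family of representatives, when every fibre of
`(g, i) ↦ g rᵢ g⁻¹` over the family has size `k`. -/
theorem sum_cover {ι : Type*} (s : Finset ι) (r : ι → G) (P : G → Prop) (k : ℕ)
    (hP : ∀ y, P y ↔ ∃ i ∈ s, ∃ g : G, g * r i * g⁻¹ = y)
    (hk : ∀ i ∈ s, ((Finset.univ ×ˢ s).filter fun p : G × ι => p.1 * r p.2 * p.1⁻¹ = r i).card = k)
    {φ : G → ℂ} (hφ : Cfsg.IsClassFunction G φ) :
    (k : ℂ) * ∑ y ∈ Finset.univ.filter P, φ y = (Nat.card G : ℂ) * ∑ i ∈ s, φ (r i) := by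
  have e1 : ∑ p ∈ Finset.univ ×ˢ s, φ (p.1 * r p.2 * p.1⁻¹) =
      (Nat.card G : ℂ) * ∑ i ∈ s, φ (r i) := by
    rw [Finset.sum_product, Finset.sum_congr rfl fun g _ => Finset.sum_congr rfl fun i _ => hφ (r i) g,
      Finset.sum_const, Finset.card_univ, nsmul_eq_mul, Nat.card_eq_fintype_card]
  rw [← e1, Finset.mul_sum,
    ← Finset.sum_fiberwise_of_maps_to (t := Finset.univ.filter P)
      (g := fun p : G × ι => p.1 * r p.2 * p.1⁻¹)
      (fun p hp => Finset.mem_filter.mpr ⟨Finset.mem_univ _,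
        (hP _).mpr ⟨p.2, (Finset.mem_product.mp hp).2, p.1, rfl⟩⟩)]
  refine Finset.sum_congr rfl fun y hy => ?_
  rw [Finset.sum_congr rfl (g := fun _ => φ y) fun p hp => by rw [(Finset.mem_filter.mp hp).2],
    Finset.sum_const, nsmul_eq_mul]
  congr 2
  obtain ⟨i, hi, g, rfl⟩ := (hP y).mp (Finset.mem_filter.mp hy).2
  rw [← hk i hi]
  refine Finset.card_equiv ((Equiv.mulLeft g).prodCongr (Equiv.refl ι)) fun p => ?_
  simp only [Finset.mem_filter, Finset.mem_product, Finset.mem_univ, true_and, Equiv.prodCongr_apply,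
    Prod.map, Equiv.coe_mulLeft, Equiv.refl_apply]
  refine and_congr_right fun _ => ⟨fun h => ?_, fun h => ?_⟩
  · rw [← h]; group
  · calc p.1 * r p.2 * p.1⁻¹ = g⁻¹ * (g * p.1 * r p.2 * (g * p.1)⁻¹) * g := by group
      _ = r i := by rw [h]; group

end Generic

variable {F : Type*} [Field F] [Fintype F] [DecidableEq F]

local notation "SL" => Matrix.SpecialLinearGroup (Fin 2) F

instance decidablePredRt : DecidablePred (Rt (F := F)) := fun z => inferInstanceAs (Decidable (z * z = 1))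

/-- The signs of `F`. -/
abbrev RtT (F : Type*) [Field F] := {z : F // Rt z}

/-- A sign as a unit. -/
def rtU (z : RtT F) : Fˣ := ⟨z.1, z.1, z.2, z.2⟩

@[simp] theorem rtU_val (z : RtT F) : ((rtU z : Fˣ) : F) = z.1 := rfl

/-- The scalar matrix of a sign. -/
def sc (z : RtT F) : Matrix.SpecialLinearGroup (Fin 2) F := nu z.1 z.2 0

theorem sc_eq_dg (z : RtT F) : sc z = dg (rtU z) := by
  apply slExt <;> simp [sc, z.2.inv_eq]

theorem dg_rtU_not_nonScalar (z : RtT F) : ¬ NonScalar (dg (rtU z)) := by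
  rw [← sc_eq_dg]; exact not_nonScalar_nu_zero _ _

theorem sc_injective : Function.Injective (sc (F := F)) := fun a b h =>
  Subtype.ext (by simpa [sc] using congrArg (fun g : SL => g.1 0 0) h)

theorem card_rtT_le : Fintype.card (RtT F) ≤ 2 := by
  rw [Fintype.card_subtype]
  refine (Finset.card_le_card (fun z hz => ?_) : _ ≤ ({1, -1} : Finset F).card).trans Finset.card_le_two
  rcases rt_iff.mp (Finset.mem_filter.mp hz).2 with h | h <;> simp [h]

theorem card_rtT_pos : 0 < Fintype.card (RtT F) := Fintype.card_pos_iff.mpr ⟨⟨1, rt_one⟩⟩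

theorem card_sq_eq_four : Fintype.card (RtT F) ≤ (Finset.univ.filter fun t : F => t ^ 2 = 4).card := by
  by_cases h2 : (2 : F) = 0
  · have hle : Fintype.card (RtT F) ≤ 1 := by
      rw [Fintype.card_le_one_iff]
      rintro ⟨a, ha⟩ ⟨b, hb⟩
      have : ∀ z : F, Rt z → z = 1 := fun z hz => by
        rcases rt_iff.mp hz with h | h
        · exact h
        · rw [h]; linear_combination -h2
      exact Subtype.ext ((this a ha).trans (this b hb).symm)
    refine hle.trans (Finset.card_pos.mpr ⟨0, ?_⟩)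
    simp only [Finset.mem_filter, Finset.mem_univ, true_and]
    linear_combination (-2 : F) * h2
  · rw [Fintype.card_subtype]
    refine Finset.card_le_card_of_injOn (fun z => 2 * z) (fun z hz => ?_) (fun a _ b _ h => mul_left_cancel₀ h2 h)
    simp only [Finset.coe_filter, Finset.mem_univ, true_and, Set.mem_ofPred_eq] at hz ⊢
    have hz' : z * z = 1 := hz
    linear_combination 4 * hz'

theorem two_le_q : 2 ≤ Fintype.card F := Fintype.one_lt_card

theorem card_SL :
    Nat.card SL = (Fintype.card F + 1) * ((Fintype.card F - 1) * Fintype.card F) := by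
  rw [← Nat.card_eq_of_bijective _ (rep_bijective (F := F)), Nat.card_prod, card_borel]
  congr 1
  simp [Fintype.card_option]

theorem card_SL_cast :
    (Nat.card SL : ℂ) = (Fintype.card F : ℂ) * ((Fintype.card F : ℂ) ^ 2 - 1) := by
  rw [card_SL]
  push_cast [Nat.cast_sub Fintype.card_pos]
  ring

/-- A torus: a subgroup that is the centraliser of each of its non-scalar elements, all regular. -/
def IsTorus (T : Subgroup (Matrix.SpecialLinearGroup (Fin 2) F)) : Prop :=
  ∀ t ∈ T, NonScalar t → Regular t ∧ torus t = T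

omit [Fintype F] [DecidableEq F] in
theorem inv_ne_self_of_regular {t : SL} (hreg : Regular t) : t⁻¹ ≠ t := by
  have hn := hreg.nonScalar
  intro e
  have h2 : t * t = 1 := by nth_rewrite 2 [← e]; rw [mul_inv_cancel]
  have hA := congrArg (fun g : SL => g.1 0 1) h2
  have hB := congrArg (fun g : SL => g.1 1 0) h2
  have hC := congrArg (fun g : SL => g.1 0 0) h2
  have hD := congrArg (fun g : SL => g.1 1 1) h2
  simp [mul_apply'] at hA hB hC hD
  by_cases htr : slTr t = 0
  · have hd := det_eq t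
    simp only [slTr] at htr
    refine hreg ?_
    have h2' : (2 : F) = 0 := by linear_combination -hd - hC + t.1 0 0 * htr
    simp only [slTr]
    linear_combination (t.1 0 0 + t.1 1 1) * htr - 2 * h2'
  · simp only [slTr] at htr
    have e01 : t.1 0 1 = 0 := by
      refine (mul_eq_zero.mp (?_ : t.1 0 1 * (t.1 0 0 + t.1 1 1) = 0)).resolve_right htr
      linear_combination hA
    have e10 : t.1 1 0 = 0 := by
      refine (mul_eq_zero.mp (?_ : t.1 1 0 * (t.1 0 0 + t.1 1 1) = 0)).resolve_right htr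
      linear_combination hB
    rcases hn with h | h | h
    · exact h e01
    · exact h e10
    · apply h
      refine sub_eq_zero.mp ((mul_eq_zero.mp
        (?_ : (t.1 0 0 - t.1 1 1) * (t.1 0 0 + t.1 1 1) = 0)).resolve_right htr)
      linear_combination hC - hD

open scoped Classical in
theorem torus_fibre (T : Subgroup SL) (hT : IsTorus T) {t : SL} (ht : t ∈ T) (hn : NonScalar t)
    {ι : Type*} (s : Finset ι) (r : ι → SL) (hr : Set.InjOn r s)
    (hs : ∀ g, g ∈ s.image r ↔ g ∈ T ∧ NonScalar g) :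
    ((Finset.univ ×ˢ s).filter fun p : SL × ι => p.1 * r p.2 * p.1⁻¹ = t).card = 2 * Nat.card T := by
  obtain ⟨hreg, htor⟩ := hT t ht hn
  have hne : t⁻¹ ≠ t := inv_ne_self_of_regular hreg
  have hmemT : t⁻¹ ∈ T ∧ NonScalar t⁻¹ := by
    refine ⟨inv_mem ht, ?_⟩
    exact (Regular.inv hreg).nonScalar
  obtain ⟨i₁, hi₁, e₁⟩ := Finset.mem_image.mp ((hs t).mpr ⟨ht, hn⟩)
  obtain ⟨i₂, hi₂, e₂⟩ := Finset.mem_image.mp ((hs t⁻¹).mpr hmemT)
  obtain ⟨w, hw⟩ := exists_conj_of_regular (Regular.inv hreg) (b := t) (slTr_inv t).symm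
  let f : T ⊕ T → SL × ι := Sum.elim (fun g => (g.1, i₁)) (fun g => (g.1 * w, i₂))
  have hne' : i₁ ≠ i₂ := fun e => hne (e₂.symm.trans ((congrArg r e).symm.trans e₁))
  have hf : Function.Injective f := by
    rintro (a | a) (b | b) h <;>
      simp only [f, Sum.elim_inl, Sum.elim_inr, Prod.mk.injEq] at h
    · rw [Subtype.ext h.1]
    · exact absurd h.2 hne'
    · exact absurd h.2.symm hne'
    · rw [Subtype.ext (mul_right_cancel h.1)]
  have hcomm : ∀ g, g ∈ T ↔ g * t = t * g := fun g => by rw [← htor, mem_torus]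
  have key : ((Finset.univ ×ˢ s).filter fun p : SL × ι => p.1 * r p.2 * p.1⁻¹ = t) =
      Finset.univ.image f := by
    ext ⟨g, i⟩
    simp only [Finset.mem_filter, Finset.mem_product, Finset.mem_univ, true_and, Finset.mem_image]
    constructor
    · rintro ⟨hi, hg⟩
      obtain ⟨hiT, -⟩ := (hs (r i)).mp (Finset.mem_image_of_mem r hi)
      have htr : slTr (r i) = slTr t := by rw [← hg, slTr_conj]
      rcases eq_or_eq_inv' hreg ((hcomm _).mp hiT) htr with e | e
      · obtain rfl : i = i₁ := hr hi hi₁ (e.trans e₁.symm)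
        rw [e] at hg
        exact ⟨Sum.inl ⟨g, (hcomm g).mpr (mul_inv_eq_iff_eq_mul.mp hg)⟩, rfl⟩
      · obtain rfl : i = i₂ := hr hi hi₂ (e.trans e₂.symm)
        refine ⟨Sum.inr ⟨g * w⁻¹, (hcomm _).mpr ?_⟩, by simp [f]⟩
        rw [e] at hg
        calc g * w⁻¹ * t = g * w⁻¹ * (w * t⁻¹ * w⁻¹) := by rw [hw]
          _ = (g * t⁻¹ * g⁻¹) * (g * w⁻¹) := by group
          _ = t * (g * w⁻¹) := by rw [hg]
    · rintro ⟨x | x, hx⟩ <;> obtain ⟨rfl, rfl⟩ := Prod.mk.injEq .. ▸ hx
      · exact ⟨hi₁, by rw [e₁, (hcomm _).mp x.2, mul_inv_cancel_right]⟩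
      · refine ⟨hi₂, ?_⟩
        rw [e₂, show x.1 * w * t⁻¹ * (x.1 * w)⁻¹ = x.1 * (w * t⁻¹ * w⁻¹) * x.1⁻¹ by group, hw,
          (hcomm _).mp x.2, mul_inv_cancel_right]
  rw [key, Finset.card_image_of_injective _ hf, Finset.card_univ, Fintype.card_sum,
    Nat.card_eq_fintype_card, two_mul]

theorem isTorus_range_dg : IsTorus (dg (F := F)).range := by
  rintro _ ⟨a, rfl⟩ hn
  have ha := (nonScalar_dg_iff a).mp hn
  exact ⟨(dg_regular_iff a).mpr ha, Subgroup.ext fun g => mem_torus_dg_iff ha g⟩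

theorem card_torus_split' {g : SL} (hg : Regular g) (hs : Split g) :
    Nat.card (torus g) = Fintype.card F - 1 := by
  obtain ⟨a, P, ha, rfl⟩ := exists_conj_dg hg hs
  rw [SL2Tori.card_torus_conj, Subgroup.ext fun g => mem_torus_dg_iff ha g, card_range_dg,
    Nat.card_units, Nat.card_eq_fintype_card]

theorem mem_centralizer_nu {z : F} (hz : Rt z) {x : F} (hx : x ≠ 0) {g : SL} :
    g * nu z hz x = nu z hz x * g ↔ g.1 1 0 = 0 ∧ g.1 0 0 = g.1 1 1 := by
  constructor
  · intro h
    have e00 := congrArg (fun g : SL => g.1 0 0) h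
    have e01 := congrArg (fun g : SL => g.1 0 1) h
    simp [mul_apply'] at e00 e01
    refine ⟨(mul_eq_zero.mp (?_ : x * g.1 1 0 = 0)).resolve_left hx, mul_left_cancel₀ hx ?_⟩
    · linear_combination -e00
    · linear_combination e01
  · rintro ⟨h10, h⟩
    apply slExt <;> simp [mul_apply', h10, h] <;> ring

theorem card_centralizer_nu {z : F} (hz : Rt z) {x : F} (hx : x ≠ 0) :
    Nat.card (torus (nu z hz x)) = Fintype.card (RtT F) * Fintype.card F := by
  rw [← Fintype.card_prod, ← Nat.card_eq_fintype_card]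
  refine Nat.card_congr ?_
  refine
    { toFun := fun g => (⟨g.1.1 0 0, ?_⟩, g.1.1 0 1)
      invFun := fun p => ⟨nu p.1.1 p.1.2 p.2, ?_⟩
      left_inv := ?_
      right_inv := fun p => by simp }
  · obtain ⟨h10, h⟩ := (mem_centralizer_nu hz hx).mp (mem_torus.mp g.2)
    have hd := det_eq g.1
    rw [h10, mul_zero, sub_zero, ← h] at hd
    exact hd
  · rw [mem_torus, mem_centralizer_nu hz hx]
    simp
  · intro g
    obtain ⟨h10, h⟩ := (mem_centralizer_nu hz hx).mp (mem_torus.mp g.2)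
    exact Subtype.ext (slExt rfl rfl (by simpa using h10.symm) (by simpa using h))

theorem card_torus_le {g : SL} (hg : NonScalar g) : Nat.card (torus g) ≤ 2 * Fintype.card F := by
  classical
  let key : SL → F := fun h =>
    if g.1 0 1 ≠ 0 then h.1 0 1 / g.1 0 1 else
      if g.1 1 0 ≠ 0 then h.1 1 0 / g.1 1 0 else (h.1 0 0 - h.1 1 1) / (g.1 0 0 - g.1 1 1)
  have hkey : ∀ h : SL, h * g = g * h → ∀ y : F, h.1 0 1 = y * g.1 0 1 → h.1 1 0 = y * g.1 1 0 →
      h.1 0 0 - h.1 1 1 = y * (g.1 0 0 - g.1 1 1) → key h = y := by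
    intro h _ y y1 y2 y3
    by_cases h1 : g.1 0 1 ≠ 0
    · simp only [key, if_pos h1, y1, mul_div_cancel_right₀ _ h1]
    · by_cases h2 : g.1 1 0 ≠ 0
      · simp only [key, if_neg h1, if_pos h2, y2, mul_div_cancel_right₀ _ h2]
      · have h3 : g.1 0 0 - g.1 1 1 ≠ 0 := by
          intro h3
          rcases hg with e | e | e
          · exact h1 e
          · exact h2 e
          · exact e (sub_eq_zero.mp h3)
        simp only [key, if_neg h1, if_neg h2, y3, mul_div_cancel_right₀ _ h3]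
  rw [Nat.card_eq_fintype_card, Fintype.card_subtype]
  refine (Finset.card_le_mul_card_image _ 2 (f := key) ?_).trans
    (Nat.mul_le_mul_left 2 (Finset.card_le_univ _))
  intro y _
  by_contra hlt
  obtain ⟨a, ha, b, hb, c, hc, hab, hac, hbc⟩ := Finset.two_lt_card.mp (not_le.mp hlt)
  simp only [Finset.mem_filter, Finset.mem_univ, true_and, mem_torus] at ha hb hc
  have quad : ∀ h : SL, h * g = g * h → key h = y →
      h.1 0 1 = y * g.1 0 1 ∧ h.1 1 0 = y * g.1 1 0 ∧
        h.1 0 0 - h.1 1 1 = y * (g.1 0 0 - g.1 1 1) := by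
    intro h hh he
    obtain ⟨y', y1, y2, y3⟩ := commute_param hg hh
    obtain rfl : y' = y := (hkey h hh y' y1 y2 y3).symm.trans he
    exact ⟨y1, y2, y3⟩
  have step : ∀ h k : SL, h * g = g * h → key h = y → k * g = g * k → key k = y → h ≠ k →
      h.1 0 0 + k.1 0 0 = y * (g.1 0 0 - g.1 1 1) := by
    intro h k hh he hk hke hne
    obtain ⟨a1, a2, a3⟩ := quad h hh he
    obtain ⟨b1, b2, b3⟩ := quad k hk hke
    have dh := det_eq h
    have dk := det_eq k
    rw [a1, a2] at dh
    rw [b1, b2] at dk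
    have hd : h.1 0 0 ≠ k.1 0 0 := fun e =>
      hne (slExt e (a1.trans b1.symm) (a2.trans b2.symm) (by linear_combination b3 - a3 + e))
    refine sub_eq_zero.mp ((mul_eq_zero.mp
      (?_ : (h.1 0 0 - k.1 0 0) * (h.1 0 0 + k.1 0 0 - y * (g.1 0 0 - g.1 1 1)) = 0)).resolve_left
        (sub_ne_zero.mpr hd))
    linear_combination dh - dk + h.1 0 0 * a3 - k.1 0 0 * b3
  obtain ⟨a1, a2, a3⟩ := quad b hb.1 hb.2
  obtain ⟨b1, b2, b3⟩ := quad c hc.1 hc.2
  have e1 := step a b ha.1 ha.2 hb.1 hb.2 hab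
  have e2 := step a c ha.1 ha.2 hc.1 hc.2 hac
  exact hbc (slExt (by linear_combination e1 - e2) (a1.trans b1.symm) (a2.trans b2.symm)
    (by linear_combination b3 - a3 + e1 - e2))

section WithC

variable {C : Subgroup (Matrix.SpecialLinearGroup (Fin 2) F)} (hC : IsCyclic C)
  (hcard : Nat.card C = Fintype.card F + 1)

include hC in
theorem C_le_torus {c : SL} (hc : c ∈ C) : C ≤ torus c := by
  intro g hg
  rw [mem_torus]
  obtain ⟨x, hx⟩ := hC.exists_generator
  obtain ⟨i, hi⟩ := Subgroup.mem_zpowers_iff.mp (hx ⟨g, hg⟩)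
  obtain ⟨j, hj⟩ := Subgroup.mem_zpowers_iff.mp (hx ⟨c, hc⟩)
  have : (⟨g, hg⟩ : C) * ⟨c, hc⟩ = ⟨c, hc⟩ * ⟨g, hg⟩ := by
    rw [← hi, ← hj, ← zpow_add, ← zpow_add, add_comm]
  exact congrArg Subtype.val this

include hC hcard in
theorem C_regular {c : SL} (hc : c ∈ C) (hn : NonScalar c) :
    Regular c ∧ ¬ Split c ∧ torus c = C := by
  have hq := two_le_q (F := F)
  have hdvd := Subgroup.card_dvd_of_le (C_le_torus hC hc)
  rw [hcard] at hdvd
  have hreg : Regular c := by
    by_contra h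
    obtain ⟨z, hz, x, P, hx, rfl⟩ := exists_conj_nu hn (not_not.mp h)
    rw [SL2Tori.card_torus_conj, card_centralizer_nu hz hx] at hdvd
    have hcop : Nat.Coprime (Fintype.card F + 1) (Fintype.card F) := by simp
    have := Nat.le_of_dvd card_rtT_pos (hcop.dvd_of_dvd_mul_right hdvd)
    have := card_rtT_le (F := F)
    omega
  have hns : ¬ Split c := by
    intro hs
    rw [card_torus_split' hreg hs] at hdvd
    have := Nat.le_of_dvd (by omega) hdvd
    omega
  refine ⟨hreg, hns, (Subgroup.eq_of_le_of_card_ge (C_le_torus hC hc) ?_).symm⟩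
  obtain ⟨m, hm⟩ := hdvd
  have hle := card_torus_le hreg.nonScalar
  rw [hm] at hle
  rw [hcard, hm]
  have : m < 2 := by
    by_contra hm2
    have : (Fintype.card F + 1) * 2 ≤ (Fintype.card F + 1) * m :=
      Nat.mul_le_mul_left _ (not_lt.mp hm2)
    omega
  interval_cases m <;> simp

include hC hcard in
theorem isTorus_C : IsTorus C := fun c hc hn =>
  ⟨(C_regular hC hcard hc hn).1, (C_regular hC hcard hc hn).2.2⟩

include hcard in
theorem exists_nonScalar_C : ∃ c ∈ C, NonScalar c := by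
  classical
  by_contra h
  push Not at h
  have hsub : (Finset.univ.filter fun g : SL => g ∈ C) ⊆ Finset.univ.image sc := by
    intro g hg
    obtain ⟨z, hz, rfl⟩ := scalar_eq_nu (h g (Finset.mem_filter.mp hg).2)
    exact Finset.mem_image.mpr ⟨⟨z, hz⟩, Finset.mem_univ _, rfl⟩
  have := (Finset.card_le_card hsub).trans Finset.card_image_le
  rw [← Fintype.card_subtype, ← Nat.card_eq_fintype_card, hcard, Finset.card_univ] at this
  have := two_le_q (F := F)
  have := card_rtT_le (F := F)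
  omega

include hC hcard in
theorem sc_mem_C (z : RtT F) : sc z ∈ C := by
  obtain ⟨c, hc, hn⟩ := exists_nonScalar_C hcard
  rw [← (C_regular hC hcard hc hn).2.2, mem_torus]
  exact (nu_zero_central _ _ c).symm

open scoped Classical in
/-- Non-scalar elements of `C`. -/
noncomputable def cNS (C : Subgroup (Matrix.SpecialLinearGroup (Fin 2) F)) :
    Finset (Matrix.SpecialLinearGroup (Fin 2) F) :=
  Finset.univ.filter fun g => g ∈ C ∧ NonScalar g

/-- Units of square different from one. -/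
def aNS (F : Type*) [Field F] [Fintype F] [DecidableEq F] : Finset Fˣ :=
  Finset.univ.filter fun a => (a : F) * a ≠ 1

theorem mem_cNS {g : SL} : g ∈ cNS C ↔ g ∈ C ∧ NonScalar g := by simp [cNS]

theorem mem_aNS {a : Fˣ} : a ∈ aNS F ↔ (a : F) * a ≠ 1 := by simp [aNS]

theorem card_aNS_add : (aNS F).card + Fintype.card (RtT F) = Fintype.card F - 1 := by
  rw [← Fintype.card_units, ← Finset.card_univ (α := Fˣ),
    ← Finset.card_filter_add_card_filter_not (s := (Finset.univ : Finset Fˣ))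
      (fun a : Fˣ => (a : F) * a ≠ 1)]
  refine congrArg₂ _ rfl ?_
  rw [← Finset.card_univ]
  refine Finset.card_bij' (fun z _ => rtU z) (fun a ha => ⟨(a : F), ?_⟩) ?_ ?_ ?_ ?_
  · exact not_not.mp (Finset.mem_filter.mp ha).2
  · intro z _; simp; exact z.2
  · intro a ha; simp
  · intro z _; simp
  · intro a ha; exact Units.ext rfl

include hC hcard in
theorem card_cNS_add : (cNS C).card + Fintype.card (RtT F) = Fintype.card F + 1 := by
  classical
  have hCc : Fintype.card C = (Finset.univ.filter fun g : SL => g ∈ C).card := Fintype.card_subtype _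
  rw [← hcard, Nat.card_eq_fintype_card, hCc,
    ← Finset.card_filter_add_card_filter_not
      (s := Finset.univ.filter fun g : SL => g ∈ C) (fun g => NonScalar g)]
  refine congrArg₂ _ (by rw [Finset.filter_filter]; rfl) ?_
  rw [← Finset.card_univ]
  refine Finset.card_bij' (fun z _ => sc z) (fun g hg => ⟨g.1 0 0, ?_⟩) ?_ ?_ ?_ ?_
  · obtain ⟨z, hz, rfl⟩ := scalar_eq_nu (Finset.mem_filter.mp hg).2
    simpa using hz
  · intro z _
    simp only [Finset.mem_filter, Finset.mem_univ, true_and]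
    exact ⟨sc_mem_C hC hcard z, not_nonScalar_nu_zero _ _⟩
  · intro g hg; simp
  · intro z _; simp [sc]
  · intro g hg
    obtain ⟨z, hz, rfl⟩ := scalar_eq_nu (Finset.mem_filter.mp hg).2
    exact slExt rfl rfl rfl rfl

include hC hcard in
/-- Every regular non-split element is conjugate into `C`. -/
theorem exists_conj_C {g : SL} (hg : Regular g) (hs : ¬ Split g) :
    ∃ c ∈ cNS C, ∃ P : SL, P * c * P⁻¹ = g := by
  classical
  let TA := (aNS F).image fun a => slTr (dg a)
  let TC := (cNS C).image slTr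
  suffices h : slTr g ∈ TC by
    obtain ⟨c, hc, hct⟩ := Finset.mem_image.mp h
    exact ⟨c, hc, exists_conj_of_regular
      (C_regular hC hcard (mem_cNS.mp hc).1 (mem_cNS.mp hc).2).1 hct.symm⟩
  have hA : (aNS F).card ≤ 2 * TA.card := by
    refine Finset.card_le_mul_card_image _ 2 fun t ht => ?_
    obtain ⟨a, ha, rfl⟩ := Finset.mem_image.mp ht
    refine (Finset.card_le_card (t := {a, a⁻¹}) fun b hb => ?_).trans Finset.card_le_two
    have hb' := (Finset.mem_filter.mp hb).2
    have hr : Regular (dg a) := (dg_regular_iff a).mpr (mem_aNS.mp ha)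
    rcases eq_or_eq_inv' hr (by rw [← map_mul, ← map_mul, mul_comm]) hb' with e | e
    · simp [dg_injective e]
    · rw [← map_inv] at e
      simp [dg_injective e]
  have hCc : (cNS C).card ≤ 2 * TC.card := by
    refine Finset.card_le_mul_card_image _ 2 fun t ht => ?_
    obtain ⟨a, ha, rfl⟩ := Finset.mem_image.mp ht
    refine (Finset.card_le_card (t := {a, a⁻¹}) fun b hb => ?_).trans Finset.card_le_two
    have hb' := Finset.mem_filter.mp hb
    rw [mem_cNS] at ha
    rcases eq_or_eq_inv' (C_regular hC hcard ha.1 ha.2).1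
      (mem_torus.mp (C_le_torus hC ha.1 (mem_cNS.mp hb'.1).1)) hb'.2 with e | e <;> simp [e]
  have hdis : Disjoint TA TC := by
    rw [Finset.disjoint_left]
    intro t h1 h2
    obtain ⟨a, _, rfl⟩ := Finset.mem_image.mp h1
    obtain ⟨c, hc, hct⟩ := Finset.mem_image.mp h2
    exact (C_regular hC hcard (mem_cNS.mp hc).1 (mem_cNS.mp hc).2).2.1 ⟨a, hct⟩
  let T4 := Finset.univ.filter fun t : F => t ^ 2 = 4
  have hsub : TA ∪ TC ⊆ Finset.univ \ T4 := by
    intro t ht
    simp only [T4, Finset.mem_sdiff, Finset.mem_univ, true_and, Finset.mem_filter]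
    rcases Finset.mem_union.mp ht with h | h <;> obtain ⟨a, ha, rfl⟩ := Finset.mem_image.mp h
    · exact (dg_regular_iff a).mpr (mem_aNS.mp ha)
    · exact (C_regular hC hcard (mem_cNS.mp ha).1 (mem_cNS.mp ha).2).1
  have heq : TA ∪ TC = Finset.univ \ T4 := by
    refine Finset.eq_of_subset_of_card_le hsub ?_
    rw [Finset.card_union_of_disjoint hdis, Finset.card_sdiff_of_subset (Finset.subset_univ _),
      Finset.card_univ]
    have h1 := card_aNS_add (F := F)
    have h2 := card_cNS_add hC hcard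
    have h3 : Fintype.card (RtT F) ≤ T4.card := card_sq_eq_four
    omega
  have hmem : slTr g ∈ TA ∪ TC := by
    rw [heq]; simp only [T4, Finset.mem_sdiff, Finset.mem_univ, true_and, Finset.mem_filter]
    exact hg
  refine (Finset.mem_union.mp hmem).resolve_left fun h => hs ?_
  obtain ⟨a, _, hat⟩ := Finset.mem_image.mp h
  exact ⟨a, hat.symm⟩

include hC hcard in
/-- The four types of elements. -/
theorem class_cases (g : SL) :
    (∃ z, g = sc z) ∨
    (∃ (z : RtT F) (x : F) (P : SL), x ≠ 0 ∧ P * nu z.1 z.2 x * P⁻¹ = g) ∨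
    (∃ a ∈ aNS F, ∃ P : SL, P * dg a * P⁻¹ = g) ∨
    (∃ c ∈ cNS C, ∃ P : SL, P * c * P⁻¹ = g) := by
  by_cases hn : NonScalar g
  · by_cases hr : Regular g
    · by_cases hs : Split g
      · obtain ⟨a, P, ha, e⟩ := exists_conj_dg hr hs
        exact Or.inr (Or.inr (Or.inl ⟨a, mem_aNS.mpr ha, P, e⟩))
      · exact Or.inr (Or.inr (Or.inr (exists_conj_C hC hcard hr hs)))
    · obtain ⟨z, hz, x, P, hx, e⟩ := exists_conj_nu hn (not_not.mp hr)
      exact Or.inr (Or.inl ⟨⟨z, hz⟩, x, P, hx, e⟩)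
  · obtain ⟨z, hz, e⟩ := scalar_eq_nu hn
    exact Or.inl ⟨⟨z, hz⟩, e⟩

include hC hcard in
/-- Class functions are determined by their values on the representatives. -/
theorem classFun_ext {φ ψ : SL → ℂ} (hφ : Cfsg.IsClassFunction SL φ)
    (hψ : Cfsg.IsClassFunction SL ψ) (h1 : ∀ z, φ (sc z) = ψ (sc z))
    (h2 : ∀ (z : RtT F) (x : F), x ≠ 0 → φ (nu z.1 z.2 x) = ψ (nu z.1 z.2 x))
    (h3 : ∀ a ∈ aNS F, φ (dg a) = ψ (dg a)) (h4 : ∀ c ∈ cNS C, φ c = ψ c) : φ = ψ := by
  funext g
  rcases class_cases hC hcard g with ⟨z, rfl⟩ | ⟨z, x, P, hx, rfl⟩ | ⟨a, ha, P, rfl⟩ | ⟨c, hc, P, rfl⟩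
  · exact h1 z
  · rw [hφ, hψ, h2 z x hx]
  · rw [hφ, hψ, h3 a ha]
  · rw [hφ, hψ, h4 c hc]

omit [Fintype F] [DecidableEq F] in
/-- Conjugation between two upper unitriangular elements up to sign. -/
theorem conj_nu_eq {z w x y : F} (hz : Rt z) (hw : Rt w) (hy : y ≠ 0) {g : SL}
    (h : g * nu w hw y * g⁻¹ = nu z hz x) : w = z ∧ g.1 1 0 = 0 ∧ y = g.1 1 1 * g.1 1 1 * x := by
  have ht : (2 : F) * w = 2 * z := by
    have := congrArg slTr h
    rwa [slTr_conj, slTr_nu, slTr_nu] at this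
  have hwz : w = z := by
    have hz' : z * z = 1 := hz
    have hw' : w * w = 1 := hw
    have : (w - z) ^ 2 = 0 := by linear_combination hw' - hz' - z * ht
    exact sub_eq_zero.mp (sq_eq_zero_iff.mp this)
  subst hwz
  have e := mul_inv_eq_iff_eq_mul.mp h
  have e11 := congrArg (fun g : SL => g.1 1 1) e
  have e01 := congrArg (fun g : SL => g.1 0 1) e
  simp [mul_apply'] at e11 e01
  have h10 : g.1 1 0 = 0 := by
    refine (mul_eq_zero.mp (?_ : g.1 1 0 * y = 0)).resolve_right hy
    linear_combination e11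
  have hd := det_eq g
  rw [h10, mul_zero, sub_zero] at hd
  refine ⟨rfl, h10, ?_⟩
  linear_combination g.1 1 1 * e01 - y * hd

open scoped Classical in
theorem sum_nu {φ : SL → ℂ} (hφ : Cfsg.IsClassFunction SL φ) :
    ∑ g ∈ Finset.univ.filter (fun g : SL => NonScalar g ∧ ¬ Regular g), φ g =
      ((Fintype.card F : ℂ) + 1) *
        ∑ z : RtT F, ∑ x ∈ Finset.univ.erase (0 : F), φ (nu z.1 z.2 x) := by
  let s : Finset (RtT F × F) := Finset.univ ×ˢ Finset.univ.erase 0
  have hk : ∀ i ∈ s, ((Finset.univ ×ˢ s).filter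
      fun p : SL × (RtT F × F) => p.1 * nu p.2.1.1 p.2.1.2 p.2.2 * p.1⁻¹ = nu i.1.1 i.1.2 i.2).card =
        (Fintype.card F - 1) * Fintype.card F := by
    rintro ⟨z, x⟩ hi
    have hx : x ≠ 0 := (Finset.mem_erase.mp (Finset.mem_product.mp hi).2).1
    rw [← card_borel (F := F), Nat.card_eq_fintype_card, ← Finset.card_univ]
    refine (Finset.card_bij'
      (fun (b : (borel : Subgroup SL)) _ => ((b : SL), (z, b.1.1 1 1 * b.1.1 1 1 * x)))
      (fun p hp => (⟨p.1, mem_borel.mpr ?_⟩ : (borel : Subgroup SL))) ?_ ?_ ?_ ?_).symm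
    · exact (conj_nu_eq z.2 p.2.1.2 (Finset.mem_erase.mp (Finset.mem_product.mp
        (Finset.mem_product.mp (Finset.mem_filter.mp hp).1).2).2).1
          (Finset.mem_filter.mp hp).2).2.1
    · intro b _
      have hb := mem_borel.mp b.2
      have hd := Cfsg.Agent.Lib.SL2Tori.Borel.det_borel b.2
      have hb11 : b.1.1 1 1 ≠ 0 := fun h => by simp [h] at hd
      simp only [s, Finset.mem_filter, Finset.mem_product, Finset.mem_univ, true_and,
        Finset.mem_erase, and_true]
      refine ⟨mul_ne_zero (mul_ne_zero hb11 hb11) hx, ?_⟩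
      rw [mul_inv_eq_iff_eq_mul]
      apply slExt <;> simp [mul_apply', hb, mul_comm]
      linear_combination x * b.1.1 1 1 * hd
    · intro p hp; exact Finset.mem_univ _
    · intro b _; rfl
    · intro p hp
      obtain ⟨g, ⟨w, y⟩⟩ := p
      obtain ⟨hw, -, hy⟩ := conj_nu_eq z.2 w.2 (Finset.mem_erase.mp (Finset.mem_product.mp
        (Finset.mem_product.mp (Finset.mem_filter.mp hp).1).2).2).1 (Finset.mem_filter.mp hp).2
      simp only [Prod.mk.injEq, true_and]
      exact ⟨(Subtype.ext hw).symm, hy.symm⟩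
  have hmain := sum_cover s (fun i => nu i.1.1 i.1.2 i.2) (fun g : SL => NonScalar g ∧ ¬ Regular g)
    ((Fintype.card F - 1) * Fintype.card F) ?_ hk hφ
  · rw [Finset.sum_product] at hmain
    have hq : (((Fintype.card F - 1) * Fintype.card F : ℕ) : ℂ) ≠ 0 := by
      have := two_le_q (F := F)
      exact Nat.cast_ne_zero.mpr (Nat.mul_ne_zero (by omega) (by omega))
    apply mul_left_cancel₀ hq
    refine Eq.trans (Eq.trans (by congr! 3) hmain) ?_
    rw [card_SL]
    push_cast
    ring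
  · intro y
    constructor
    · rintro ⟨hy, hr⟩
      obtain ⟨z, hz, x, P, hx, e⟩ := exists_conj_nu hy (not_not.mp hr)
      exact ⟨(⟨z, hz⟩, x), by simp [s, hx], P, e⟩
    · rintro ⟨⟨z, x⟩, hi, P, rfl⟩
      have hx : x ≠ 0 := (Finset.mem_erase.mp (Finset.mem_product.mp hi).2).1
      exact ⟨nonScalar_conj (nonScalar_nu z.2 hx) P,
        fun h => h (by rw [slTr_conj]; exact nu_tr_sq _ _ _)⟩

open scoped Classical in
theorem sum_split {φ : SL → ℂ} (hφ : Cfsg.IsClassFunction SL φ) :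
    ∑ g ∈ Finset.univ.filter (fun g : SL => Regular g ∧ Split g), φ g =
      (Fintype.card F : ℂ) * ((Fintype.card F : ℂ) + 1) / 2 * ∑ a ∈ aNS F, φ (dg a) := by
  have h := sum_cover (aNS F) dg (fun g : SL => Regular g ∧ Split g)
    (2 * Nat.card (dg (F := F)).range) ?_ ?_ hφ
  · rw [card_range_dg, Nat.card_units, Nat.card_eq_fintype_card, card_SL] at h
    have hq : (((2 * (Fintype.card F - 1)) : ℕ) : ℂ) ≠ 0 := by
      have := two_le_q (F := F)
      exact Nat.cast_ne_zero.mpr (by omega)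
    apply mul_left_cancel₀ hq
    refine Eq.trans (Eq.trans (by congr! 3) h) ?_
    push_cast
    ring
  · intro y
    constructor
    · rintro ⟨hy, hs⟩
      obtain ⟨a, P, ha, e⟩ := exists_conj_dg hy hs
      exact ⟨a, mem_aNS.mpr ha, P, e⟩
    · rintro ⟨a, ha, P, rfl⟩
      exact ⟨Regular.conj ((dg_regular_iff a).mpr (mem_aNS.mp ha)) P,
        (Split.conj_iff _ _).mpr (split_dg a)⟩
  · intro a ha
    refine torus_fibre _ isTorus_range_dg ⟨a, rfl⟩ ((nonScalar_dg_iff a).mpr (mem_aNS.mp ha))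
      (aNS F) dg dg_injective.injOn fun g => ?_
    simp only [Finset.mem_image]
    constructor
    · rintro ⟨b, hb, rfl⟩
      exact ⟨⟨b, rfl⟩, (nonScalar_dg_iff b).mpr (mem_aNS.mp hb)⟩
    · rintro ⟨⟨b, rfl⟩, hb⟩
      exact ⟨b, mem_aNS.mpr ((nonScalar_dg_iff b).mp hb), rfl⟩

include hC hcard in
open scoped Classical in
theorem sum_nonsplit {φ : SL → ℂ} (hφ : Cfsg.IsClassFunction SL φ) :
    ∑ g ∈ Finset.univ.filter (fun g : SL => Regular g ∧ ¬ Split g), φ g =
      (Fintype.card F : ℂ) * ((Fintype.card F : ℂ) - 1) / 2 * ∑ c ∈ cNS C, φ c := by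
  have h := sum_cover (cNS C) id (fun g : SL => Regular g ∧ ¬ Split g) (2 * Nat.card C) ?_ ?_ hφ
  · rw [hcard, card_SL] at h
    have hq : (((2 * (Fintype.card F + 1)) : ℕ) : ℂ) ≠ 0 := Nat.cast_ne_zero.mpr (by omega)
    apply mul_left_cancel₀ hq
    refine Eq.trans (Eq.trans (by congr! 3) h) ?_
    push_cast [Nat.cast_sub Fintype.card_pos]
    simp only [id_eq]
    ring
  · intro y
    constructor
    · rintro ⟨hy, hs⟩
      exact exists_conj_C hC hcard hy hs
    · rintro ⟨c, hc, P, rfl⟩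
      obtain ⟨h1, h2, -⟩ := C_regular hC hcard (mem_cNS.mp hc).1 (mem_cNS.mp hc).2
      exact ⟨Regular.conj h1 P, fun h => h2 ((Split.conj_iff _ _).mp h)⟩
  · intro c hc
    exact torus_fibre C (isTorus_C hC hcard) (mem_cNS.mp hc).1 (mem_cNS.mp hc).2 (cNS C) id
      (Set.injOn_id _) fun g => by rw [Finset.image_id, mem_cNS]

include hC hcard in
/-- Summation of a class function over SL₂(q). -/
theorem sum_univ {φ : SL → ℂ} (hφ : Cfsg.IsClassFunction SL φ) :
    ∑ g : SL, φ g = ∑ z : RtT F, φ (sc z) +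
      ((Fintype.card F : ℂ) + 1) * ∑ z : RtT F, ∑ x ∈ Finset.univ.erase (0 : F), φ (nu z.1 z.2 x) +
      (Fintype.card F : ℂ) * ((Fintype.card F : ℂ) + 1) / 2 * ∑ a ∈ aNS F, φ (dg a) +
      (Fintype.card F : ℂ) * ((Fintype.card F : ℂ) - 1) / 2 * ∑ c ∈ cNS C, φ c := by
  classical
  rw [← sum_nu hφ, ← sum_split hφ, ← sum_nonsplit hC hcard hφ,
    ← Finset.sum_filter_add_sum_filter_not Finset.univ (fun g : SL => ¬ NonScalar g) φ]
  simp only [not_not]
  rw [← Finset.sum_filter_add_sum_filter_not (Finset.univ.filter fun g : SL => NonScalar g)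
      (fun g : SL => ¬ Regular g) φ,
    ← Finset.sum_filter_add_sum_filter_not ((Finset.univ.filter fun g : SL => NonScalar g).filter
      fun g : SL => ¬¬ Regular g) (fun g : SL => Split g) φ]
  simp only [Finset.filter_filter, not_not]
  have e0 : (Finset.univ.filter fun g : SL => ¬ NonScalar g) = Finset.univ.image sc := by
    ext g
    simp only [Finset.mem_filter, Finset.mem_univ, true_and, Finset.mem_image]
    constructor
    · intro h
      obtain ⟨z, hz, e⟩ := scalar_eq_nu h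
      exact ⟨⟨z, hz⟩, e.symm⟩
    · rintro ⟨z, rfl⟩; exact not_nonScalar_nu_zero _ _
  rw [e0, Finset.sum_image sc_injective.injOn]
  have e1 : (Finset.univ.filter fun g : SL => (NonScalar g ∧ Regular g) ∧ Split g) =
      Finset.univ.filter fun g : SL => Regular g ∧ Split g :=
    Finset.filter_congr fun g _ =>
      ⟨fun h => ⟨h.1.2, h.2⟩, fun h => ⟨⟨h.1.nonScalar, h.1⟩, h.2⟩⟩
  have e2 : (Finset.univ.filter fun g : SL => (NonScalar g ∧ Regular g) ∧ ¬ Split g) =
      Finset.univ.filter fun g : SL => Regular g ∧ ¬ Split g :=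
    Finset.filter_congr fun g _ =>
      ⟨fun h => ⟨h.1.2, h.2⟩, fun h => ⟨⟨h.1.nonScalar, h.1⟩, h.2⟩⟩
  rw [e1, e2]
  ring

end WithC

/-- A cyclic subgroup of order `q + 1` exists. -/
theorem exists_C : ∃ C : Subgroup SL, IsCyclic C ∧ Nat.card C = Fintype.card F + 1 := by
  obtain ⟨x, hx⟩ := Cfsg.Agent.Lib.Linear.exists_orderOf_eq_card_add_one (F := F)
  exact ⟨Subgroup.zpowers x, Subgroup.isCyclic_zpowers x, by rw [Nat.card_zpowers, hx]⟩

end Cfsg.Agent.Lib.SL2Chars49
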