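import Mathlib
import Cfsg.Agent.Lib.SL2Chars49.Sum
import Cfsg.Agent.Lib.Characters.Complete
import Cfsg.Agent.Lib.Induced.Generalized
import Cfsg.Agent.Lib.Induced.Character
import Cfsg.Agent.Lib.Characters.Diag

/-!
Principal series, Steinberg and discrete series functions of SL₂(q): values and inner products.
-/

set_option autoImplicit false
set_option linter.unusedSectionVars false

namespace Cfsg.Agent.Lib.SL2Chars49

open Cfsg.Agent.Lib.PSLTwo.Sylow
open Cfsg.Agent.Lib.SL2Tori.Borel (borel mem_borel lin lin_mul ind_eq)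
open Cfsg.Agent.Lib.SL2Tori (Regular torus mem_torus)
open Cfsg.Agent.Lib.Induced.Basic (extendByZero_of_mem extendByZero_of_not_mem isClassFunction_indFun
  classInner_sub_left classInner_sub_right classInner_conj_symm)
open scoped ComplexConjugate

variable {F : Type*} [Field F] [Fintype F] [DecidableEq F]

local notation "SL" => Matrix.SpecialLinearGroup (Fin 2) F

variable {C : Subgroup (Matrix.SpecialLinearGroup (Fin 2) F)}

/-- A scalar as an element of `C`. -/
def scC (hC : IsCyclic C) (hcard : Nat.card C = Fintype.card F + 1) (z : RtT F) : C :=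
  ⟨sc z, sc_mem_C hC hcard z⟩

omit [DecidableEq F] in
theorem rt_inv_unit (z : RtT F) : ((rtU z)⁻¹ : Fˣ) = rtU z := Units.ext rfl

open scoped Classical in
theorem sum_aNS_eq (f : Fˣ → ℂ) :
    ∑ a ∈ aNS F, f a = ∑ a : Fˣ, f a - ∑ z : RtT F, f (rtU z) := by
  rw [eq_sub_iff_add_eq,
    ← Finset.sum_filter_add_sum_filter_not Finset.univ (fun a : Fˣ => (a : F) * a ≠ 1) f]
  refine congrArg₂ _ rfl ?_
  refine Finset.sum_bij' (fun z _ => rtU z)
    (fun a ha => ⟨(a : F), not_not.mp (Finset.mem_filter.mp ha).2⟩) ?_ ?_ ?_ ?_ ?_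
  · intro z _; simp; exact z.2
  · intro a ha; exact Finset.mem_univ _
  · intro z _; simp
  · intro a ha; exact Units.ext rfl
  · intro z _; rfl

open scoped Classical in
theorem sum_cNS_eq (hC : IsCyclic C) (hcard : Nat.card C = Fintype.card F + 1) (g : C → ℂ)
    (φ : SL → ℂ) (h : ∀ c : C, NonScalar (c : SL) → φ c = g c) :
    ∑ c ∈ cNS C, φ c = ∑ c : C, g c - ∑ z : RtT F, g (scC hC hcard z) := by
  rw [eq_sub_iff_add_eq,
    ← Finset.sum_filter_add_sum_filter_not Finset.univ (fun c : C => NonScalar (c : SL)) g]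
  refine congrArg₂ _ ?_ ?_
  · refine Finset.sum_bij' (fun c hc => ⟨c, (mem_cNS.mp hc).1⟩) (fun c _ => (c : SL)) ?_ ?_ ?_ ?_ ?_
    · intro c hc; simp [(mem_cNS.mp hc).2]
    · intro c hc; exact mem_cNS.mpr ⟨c.2, (Finset.mem_filter.mp hc).2⟩
    · intro c _; rfl
    · intro c _; rfl
    · intro c hc; exact h ⟨c, (mem_cNS.mp hc).1⟩ (mem_cNS.mp hc).2
  · refine Finset.sum_bij' (fun z _ => scC hC hcard z)
      (fun c hc => ⟨(c : SL).1 0 0, ?_⟩) ?_ ?_ ?_ ?_ ?_
    · obtain ⟨z, hz, e⟩ := scalar_eq_nu (Finset.mem_filter.mp hc).2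
      rw [e]; simpa using hz
    · intro z _
      simp only [Finset.mem_filter, Finset.mem_univ, true_and, scC]
      exact not_nonScalar_nu_zero _ _
    · intro c hc; exact Finset.mem_univ _
    · intro z _; apply Subtype.ext; simp [scC, sc]
    · intro c hc
      obtain ⟨z, hz, e⟩ := scalar_eq_nu (Finset.mem_filter.mp hc).2
      apply Subtype.ext
      apply slExt <;> simp [scC, sc, e]
    · intro z _; rfl

open scoped Classical in
/-- Summation when the scalar parts are proportional to a single function. -/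
theorem sum_std (hC : IsCyclic C) (hcard : Nat.card C = Fintype.card F + 1) {P : SL → ℂ}
    (hP : Cfsg.IsClassFunction SL P) (w : RtT F → ℂ) (A M f0 g0 : ℂ) (f : Fˣ → ℂ) (g : C → ℂ)
    (h1 : ∀ z, P (sc z) = A * w z)
    (h2 : ∀ (z : RtT F) (x : F), x ≠ 0 → P (nu z.1 z.2 x) = M * w z)
    (h3 : ∀ a ∈ aNS F, P (dg a) = f a) (h4 : ∀ c : C, NonScalar (c : SL) → P c = g c)
    (h5 : ∀ z, f (rtU z) = f0 * w z) (h6 : ∀ z, g (scC hC hcard z) = g0 * w z) :
    ∑ x : SL, P x =
      (A + ((Fintype.card F : ℂ) ^ 2 - 1) * M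
        - (Fintype.card F : ℂ) * ((Fintype.card F : ℂ) + 1) / 2 * f0
        - (Fintype.card F : ℂ) * ((Fintype.card F : ℂ) - 1) / 2 * g0) * ∑ z, w z +
      (Fintype.card F : ℂ) * ((Fintype.card F : ℂ) + 1) / 2 * ∑ a : Fˣ, f a +
      (Fintype.card F : ℂ) * ((Fintype.card F : ℂ) - 1) / 2 * ∑ c : C, g c := by
  classical
  rw [sum_univ hC hcard hP, Finset.sum_congr rfl fun z _ => h1 z,
    Finset.sum_congr rfl h3, sum_aNS_eq, sum_cNS_eq hC hcard g P h4,
    Finset.sum_congr rfl (fun z _ => h5 z), Finset.sum_congr rfl (fun z _ => h6 z),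
    Finset.sum_congr rfl (fun z (_ : z ∈ (Finset.univ : Finset (RtT F))) =>
      Finset.sum_congr rfl (fun x hx => h2 z x (Finset.mem_erase.mp hx).1))]
  simp only [Finset.sum_const, nsmul_eq_mul, Finset.card_erase_of_mem (Finset.mem_univ (0 : F)),
    Finset.card_univ, ← Finset.mul_sum]
  push_cast [Nat.cast_sub (Fintype.card_pos (α := F))]
  ring

section Hom

theorem conj_mulChar (α : MulChar F ℂ) (a : Fˣ) : conj (α a) = α ((a⁻¹ : Fˣ) : F) := by
  have hn : (Fintype.card Fˣ) ≠ 0 := Fintype.card_ne_zero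
  have hp : α a ^ Fintype.card Fˣ = 1 := by
    rw [← map_pow, ← Units.val_pow_eq_pow_val, pow_card_eq_one, Units.val_one, map_one]
  rw [Characters.Diag.conj_eq_inv_of_pow hn hp]
  refine inv_eq_of_mul_eq_one_right ?_
  rw [← map_mul, ← Units.val_mul, mul_inv_cancel, Units.val_one, map_one]

theorem conj_hom {H : Type*} [Group H] [Finite H] (θ : H →* ℂˣ) (c : H) :
    conj (θ c : ℂ) = (θ c⁻¹ : ℂ) := by
  have hp : (θ c : ℂ) ^ Nat.card H = 1 := by
    rw [← Units.val_pow_eq_pow_val, ← map_pow, pow_card_eq_one', map_one, Units.val_one]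
  rw [Characters.Diag.conj_eq_inv_of_pow Nat.card_pos.ne' hp, map_inv, Units.val_inv_eq_inv_val]

theorem sum_mulChar (α : MulChar F ℂ) [Decidable (α = 1)] :
    ∑ a : Fˣ, α a = if α = 1 then (Fintype.card F : ℂ) - 1 else 0 := by
  split_ifs with h
  · subst h
    simp only [MulChar.one_apply_coe, Finset.sum_const, Finset.card_univ, nsmul_eq_mul, mul_one,
      Fintype.card_units]
    rw [Nat.cast_sub Fintype.card_pos, Nat.cast_one]
  · refine sum_hom_units_eq_zero (α.toMonoidHom.comp (Units.coeHom F)) fun e => h ?_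
    refine MulChar.ext fun a => ?_
    rw [MulChar.one_apply_coe]
    exact DFunLike.congr_fun e a

theorem sum_mulChar_inv (α : MulChar F ℂ) [Decidable (α = 1)] :
    ∑ a : Fˣ, α ((a⁻¹ : Fˣ) : F) = if α = 1 then (Fintype.card F : ℂ) - 1 else 0 := by
  rw [← sum_mulChar α]
  exact Fintype.sum_equiv (Equiv.inv Fˣ) _ _ fun a => rfl

open scoped Classical in
theorem sum_hom (θ : C →* ℂˣ) (hcard : Nat.card C = Fintype.card F + 1) :
    ∑ c : C, (θ c : ℂ) = if θ = 1 then (Fintype.card F : ℂ) + 1 else 0 := by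
  split_ifs with h
  · subst h
    simp [← Nat.card_eq_fintype_card, hcard]
  · refine sum_hom_units_eq_zero ((Units.coeHom ℂ).comp θ) fun e => h ?_
    exact MonoidHom.ext fun c => Units.ext (DFunLike.congr_fun e c)

open scoped Classical in
theorem sum_hom_inv (θ : C →* ℂˣ) (hcard : Nat.card C = Fintype.card F + 1) :
    ∑ c : C, (θ c⁻¹ : ℂ) = if θ = 1 then (Fintype.card F : ℂ) + 1 else 0 := by
  rw [← sum_hom θ hcard]
  exact Fintype.sum_equiv (Equiv.inv C) _ _ fun a => rfl

theorem mulChar_rtU_inv (α : MulChar F ℂ) (z : RtT F) : conj (α z.1) = α z.1 := by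
  have := conj_mulChar α (rtU z)
  rwa [rt_inv_unit] at this

theorem scC_inv (hC : IsCyclic C) (hcard : Nat.card C = Fintype.card F + 1) (z : RtT F) :
    (scC hC hcard z)⁻¹ = scC hC hcard z := by
  refine inv_eq_of_mul_eq_one_right (Subtype.ext ?_)
  apply slExt <;> simp [scC, sc, mul_apply', one_apply'] <;> exact z.2

end Hom

/-! ### Principal series and Steinberg -/

/-- The linear character of the Borel subgroup. -/
noncomputable def linHom (α : MulChar F ℂ) :
    (borel : Subgroup (Matrix.SpecialLinearGroup (Fin 2) F)) →* ℂˣ :=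
  MonoidHom.toHomUnits
    { toFun := lin α
      map_one' := by simp [lin]
      map_mul' := lin_mul α }

/-- The principal series function. -/
noncomputable def pi (α : MulChar F ℂ) : Matrix.SpecialLinearGroup (Fin 2) F → ℂ :=
  Cfsg.indFun borel (lin α)

/-- The Steinberg function. -/
noncomputable def st : Matrix.SpecialLinearGroup (Fin 2) F → ℂ := fun g => pi 1 g - 1

theorem isCharacter_pi (α : MulChar F ℂ) : Cfsg.IsCharacter SL (pi α) :=
  Induced.Character.isCharacter_indFun borel (θ := lin α)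
    (Induced.Character.isCharacter_hom (linHom α))

theorem classFun_pi (α : MulChar F ℂ) : Cfsg.IsClassFunction SL (pi α) := isClassFunction_indFun _ _

theorem classFun_st : Cfsg.IsClassFunction SL (st (F := F)) := fun g h => by
  simp only [st, classFun_pi 1 g h]

theorem pi_sc (α : MulChar F ℂ) (z : RtT F) :
    pi α (sc z) = ((Fintype.card F : ℂ) + 1) * α z.1 := by
  rw [pi, ind_eq]
  simp [sc, Finset.sum_const, Finset.card_univ]
  ring

theorem pi_nu (α : MulChar F ℂ) (z : RtT F) {x : F} (hx : x ≠ 0) : pi α (nu z.1 z.2 x) = α z.1 := by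
  rw [pi, ind_eq]
  simp [hx, Finset.sum_ite_eq']

theorem pi_dg (α : MulChar F ℂ) {a : Fˣ} (ha : (a : F) * a ≠ 1) :
    pi α (dg a) = α a + α ((a⁻¹ : Fˣ) : F) := by
  rw [pi, ind_eq]
  have hne : ((a⁻¹ : Fˣ) : F) - a ≠ 0 := by
    rw [sub_ne_zero, Units.val_inv_eq_inv_val]
    exact fun e => ha (by nth_rewrite 1 [← e]; exact inv_mul_cancel₀ a.ne_zero)
  simp only [dg_01, dg_10, dg_00, dg_11, if_true, mul_zero, sub_zero, zero_add, zero_mul, add_zero,
    mul_eq_zero, hne, or_false, Finset.sum_ite_eq', Finset.mem_univ]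
  ring

theorem pi_nonsplit (α : MulChar F ℂ) {g : SL} (hg : ¬ Split g) : pi α g = 0 := by
  rw [pi, ind_eq, if_neg (nonsplit_01 hg), zero_add]
  exact Finset.sum_eq_zero fun c _ => if_neg (nonsplit_quad hg c)

theorem rt_apply_one (z : RtT F) : (1 : MulChar F ℂ) z.1 = 1 := MulChar.one_apply_coe (rtU z)

theorem st_sc (z : RtT F) : st (sc z) = (Fintype.card F : ℂ) := by
  rw [st, pi_sc, rt_apply_one]; ring

theorem st_nu (z : RtT F) {x : F} (hx : x ≠ 0) : st (nu z.1 z.2 x) = 0 := by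
  rw [st, pi_nu _ _ hx, rt_apply_one]; ring

theorem st_dg {a : Fˣ} (ha : (a : F) * a ≠ 1) : st (dg a) = 1 := by
  rw [st, pi_dg _ ha, MulChar.one_apply_coe, MulChar.one_apply_coe]; ring

theorem st_nonsplit {g : SL} (hg : ¬ Split g) : st g = -1 := by
  rw [st, pi_nonsplit _ hg]; ring

open scoped Classical in
theorem mulChar_mul_conj_eq_one_iff (α β : MulChar F ℂ) : α * β⁻¹ = 1 ↔ α = β := mul_inv_eq_one

open scoped Classical in
theorem inner_pi_pi (α β : MulChar F ℂ) :
    Cfsg.classInner (pi α) (pi β) =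
      (if α = β then 1 else 0) + (if α * β = 1 then 1 else 0) := by
  obtain ⟨C, hC, hcard⟩ := exists_C (F := F)
  have hP : Cfsg.IsClassFunction SL (fun x => pi α x * conj (pi β x)) := fun g h => by
    simp only [classFun_pi α g h, classFun_pi β g h]
  have hs := sum_std hC hcard hP (fun z => α z.1 * conj (β z.1))
    (((Fintype.card F : ℂ) + 1) ^ 2) 1 4 0
    (fun a => (α a + α ((a⁻¹ : Fˣ) : F)) * (β ((a⁻¹ : Fˣ) : F) + β a)) (fun _ => 0)
    (fun z => by simp only [pi_sc, map_mul, map_add, map_natCast, map_one]; ring)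
    (fun z x hx => by simp only [pi_nu _ _ hx]; ring)
    (fun a ha => by
      simp only [pi_dg _ (mem_aNS.mp ha), map_add, conj_mulChar, inv_inv])
    (fun c hc => by
      simp only [pi_nonsplit _ (C_regular hC hcard c.2 hc).2.1, zero_mul])
    (fun z => by simp only [rt_inv_unit, rtU_val, mulChar_rtU_inv]; ring)
    (fun z => by simp)
  have hf : ∑ a : Fˣ, (α a + α ((a⁻¹ : Fˣ) : F)) * (β ((a⁻¹ : Fˣ) : F) + β a) =
      2 * ((Fintype.card F : ℂ) - 1) * ((if α = β then 1 else 0) + (if α * β = 1 then 1 else 0)) := by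
    have e1 : ∀ a : Fˣ, α a * β ((a⁻¹ : Fˣ) : F) = (α * β⁻¹) a := fun a => by
      rw [MulChar.mul_apply, MulChar.inv_apply' β, Units.val_inv_eq_inv_val]
    have e2 : ∀ a : Fˣ, α ((a⁻¹ : Fˣ) : F) * β a = (α * β⁻¹) ((a⁻¹ : Fˣ) : F) := fun a => by
      rw [MulChar.mul_apply, MulChar.inv_apply' β, Units.val_inv_eq_inv_val, inv_inv]
    simp only [add_mul, mul_add, Finset.sum_add_distrib, e1, e2,
      ← MulChar.mul_apply, sum_mulChar, sum_mulChar_inv, mulChar_mul_conj_eq_one_iff]
    split_ifs <;> ring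
  rw [Cfsg.classInner, hs, hf, Finset.sum_const_zero, card_SL_cast]
  have hq : (Fintype.card F : ℂ) * ((Fintype.card F : ℂ) ^ 2 - 1) ≠ 0 := by
    rw [← card_SL_cast]; exact Induced.Basic.natCard_ne_zero
  rw [inv_mul_eq_iff_eq_mul₀ hq]
  ring

theorem classInner_one_one : Cfsg.classInner (fun _ : SL => (1 : ℂ)) (fun _ => 1) = 1 := by
  simp only [Cfsg.classInner, map_one, mul_one, Finset.sum_const, Finset.card_univ, nsmul_eq_mul,
    ← Nat.card_eq_fintype_card]
  exact inv_mul_cancel₀ Induced.Basic.natCard_ne_zero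

open scoped Classical in
theorem inner_pi_one (α : MulChar F ℂ) :
    Cfsg.classInner (pi α) (fun _ => 1) = if α = 1 then 1 else 0 := by
  obtain ⟨C, hC, hcard⟩ := exists_C (F := F)
  have hs := sum_std hC hcard (classFun_pi α) (fun z => α z.1)
    ((Fintype.card F : ℂ) + 1) 1 2 0
    (fun a => α a + α ((a⁻¹ : Fˣ) : F)) (fun _ => 0)
    (fun z => pi_sc α z) (fun z x hx => by rw [pi_nu _ _ hx, one_mul])
    (fun a ha => pi_dg α (mem_aNS.mp ha))
    (fun c hc => pi_nonsplit _ (C_regular hC hcard c.2 hc).2.1)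
    (fun z => by simp only [rt_inv_unit, rtU_val]; ring)
    (fun z => by simp)
  rw [Finset.sum_add_distrib, sum_mulChar, sum_mulChar_inv, Finset.sum_const_zero] at hs
  simp only [Cfsg.classInner, map_one, mul_one, hs, card_SL_cast]
  have hq : (Fintype.card F : ℂ) * ((Fintype.card F : ℂ) ^ 2 - 1) ≠ 0 := by
    rw [← card_SL_cast]; exact Induced.Basic.natCard_ne_zero
  rw [inv_mul_eq_iff_eq_mul₀ hq]
  split_ifs <;> ring

theorem st_eq_sub : (st (F := F)) = pi 1 - fun _ => 1 := rfl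

open scoped Classical in
theorem inner_pi_st (α : MulChar F ℂ) :
    Cfsg.classInner (pi α) st = if α = 1 then 1 else 0 := by
  rw [st_eq_sub, classInner_sub_right, inner_pi_pi, inner_pi_one, mul_one]
  split_ifs <;> ring

theorem inner_one_st : Cfsg.classInner (fun _ => 1) (st (F := F)) = 0 := by
  classical
  rw [← classInner_conj_symm, st_eq_sub, classInner_sub_left, inner_pi_one, classInner_one_one,
    if_pos rfl, sub_self, map_zero]

theorem inner_st_st : Cfsg.classInner (st (F := F)) st = 1 := by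
  classical
  nth_rewrite 1 [st_eq_sub]
  rw [classInner_sub_left, inner_pi_st, inner_one_st, if_pos rfl, sub_zero]

theorem isGen_pi (α : MulChar F ℂ) : Cfsg.IsGeneralizedCharacter SL (pi α) :=
  Induced.Generalized.of_isCharacter (isCharacter_pi α)

theorem isGen_st : Cfsg.IsGeneralizedCharacter SL (st (F := F)) := by
  rw [st_eq_sub]
  exact Induced.Generalized.isGen_sub (isGen_pi 1)
    (by simpa using Induced.Generalized.isGen_const (G := SL) 1)

theorem one_eq_sc : (1 : SL) = sc ⟨1, rt_one⟩ := nu_one_zero.symm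

theorem pi_one (α : MulChar F ℂ) : pi α 1 = (Fintype.card F : ℂ) + 1 := by
  rw [one_eq_sc, pi_sc]; simp

theorem st_one : st (1 : SL) = (Fintype.card F : ℂ) := by rw [one_eq_sc, st_sc]

theorem isIrr_st : Cfsg.IsIrrCharacter SL (st (F := F)) :=
  Induced.Generalized.isIrrCharacter_of_norm_one isGen_st inner_st_st
    (by rw [st_one, Complex.natCast_re]; exact_mod_cast Fintype.card_pos)

theorem isIrr_pi {α : MulChar F ℂ} (hα : α ^ 2 ≠ 1) : Cfsg.IsIrrCharacter SL (pi α) := by
  classical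
  rw [Characters.Basic.isIrrCharacter_iff_classInner_self (isCharacter_pi α), inner_pi_pi,
    if_pos rfl, ← pow_two, if_neg hα, add_zero]

/-! ### Discrete series -/

/-- Induction from `C`. -/
noncomputable def indC (θ : C →* ℂˣ) : Matrix.SpecialLinearGroup (Fin 2) F → ℂ :=
  Cfsg.indFun C (fun c => (θ c : ℂ))

theorem exists_compat (θ : C →* ℂˣ) (hC : IsCyclic C) (hcard : Nat.card C = Fintype.card F + 1) :
    ∃ α : MulChar F ℂ, ∀ z : RtT F, α z.1 = (θ (scC hC hcard z) : ℂ) := by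
  classical
  have h1 : ∀ h : Rt (1 : F), (θ (scC hC hcard ⟨1, h⟩) : ℂ) = 1 := fun h => by
    have : scC hC hcard ⟨1, h⟩ = 1 := Subtype.ext nu_one_zero
    simp [this]
  by_cases hm : (θ (scC hC hcard ⟨-1, rt_neg_one⟩) : ℂ) = 1
  · refine ⟨1, fun z => ?_⟩
    rw [rt_apply_one]
    obtain ⟨z, hz⟩ := z
    rcases rt_iff.mp hz with rfl | rfl
    · exact (h1 hz).symm
    · exact hm.symm
  · have hne : (-1 : Fˣ) ≠ 1 := by
      intro e
      apply hm
      have : (-1 : F) = 1 := congrArg Units.val e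
      have : (⟨-1, rt_neg_one⟩ : RtT F) = ⟨1, rt_one⟩ := Subtype.ext this
      rw [this]; exact h1 rt_one
    obtain ⟨φ, hφ⟩ := CommGroup.exists_apply_ne_one_of_hasEnoughRootsOfUnity Fˣ ℂ hne
    refine ⟨MulChar.ofUnitHom φ, fun z => ?_⟩
    have sq1 : ∀ u : ℂ, u * u = 1 → u ≠ 1 → u = -1 := fun u h1 h2 =>
      (mul_self_eq_one_iff.mp h1).resolve_left h2
    obtain ⟨z, hz⟩ := z
    rcases rt_iff.mp hz with rfl | rfl
    · rw [map_one, h1]
    · have e1 : MulChar.ofUnitHom φ ((-1 : Fˣ) : F) = -1 := by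
        rw [MulChar.ofUnitHom_coe]
        refine sq1 _ ?_ fun e => hφ (Units.ext e)
        rw [← Units.val_mul, ← map_mul, neg_mul_neg, one_mul, map_one, Units.val_one]
      have e2 : (θ (scC hC hcard ⟨-1, rt_neg_one⟩) : ℂ) = -1 := by
        refine sq1 _ ?_ hm
        rw [← Units.val_mul, ← map_mul]
        have : scC hC hcard ⟨-1, rt_neg_one⟩ * scC hC hcard ⟨-1, rt_neg_one⟩ = 1 := by
          nth_rewrite 1 [← scC_inv hC hcard ⟨-1, rt_neg_one⟩]
          exact inv_mul_cancel _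
        rw [this, map_one, Units.val_one]
      exact (by simpa using e1 : MulChar.ofUnitHom φ (-1 : F) = -1).trans e2.symm

/-- The discrete series function. -/
noncomputable def dX (hC : IsCyclic C) (hcard : Nat.card C = Fintype.card F + 1) (θ : C →* ℂˣ) :
    Matrix.SpecialLinearGroup (Fin 2) F → ℂ :=
  st * pi (exists_compat θ hC hcard).choose - pi (exists_compat θ hC hcard).choose - indC θ

theorem isGen_indC (θ : C →* ℂˣ) : Cfsg.IsGeneralizedCharacter SL (indC θ) :=
  Induced.Generalized.of_isCharacter (Induced.Character.isCharacter_indFun C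
    (θ := fun c => (θ c : ℂ)) (Induced.Character.isCharacter_hom θ))

theorem isGen_dX (hC : IsCyclic C) (hcard : Nat.card C = Fintype.card F + 1) (θ : C →* ℂˣ) :
    Cfsg.IsGeneralizedCharacter SL (dX hC hcard θ) :=
  Induced.Generalized.isGen_sub
    (Induced.Generalized.isGen_sub (Induced.Generalized.isGen_mul isGen_st (isGen_pi _)) (isGen_pi _))
    (isGen_indC θ)

theorem classFun_dX (hC : IsCyclic C) (hcard : Nat.card C = Fintype.card F + 1) (θ : C →* ℂˣ) :
    Cfsg.IsClassFunction SL (dX hC hcard θ) :=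
  Induced.Generalized.isClassFunction_of_isGen (isGen_dX hC hcard θ)

theorem indC_not_mem (θ : C →* ℂˣ) {g : SL} (h : ∀ x : SL, x⁻¹ * g * x ∉ C) : indC θ g = 0 := by
  simp only [indC, Cfsg.indFun]
  rw [Finset.sum_eq_zero fun x _ => extendByZero_of_not_mem C _ (h x), mul_zero]

theorem indC_sc (hC : IsCyclic C) (hcard : Nat.card C = Fintype.card F + 1) (θ : C →* ℂˣ)
    (z : RtT F) :
    indC θ (sc z) =
      (Fintype.card F : ℂ) * ((Fintype.card F : ℂ) - 1) * (θ (scC hC hcard z) : ℂ) := by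
  simp only [indC, Cfsg.indFun]
  have e : ∀ x : SL, Cfsg.extendByZero C (fun c => (θ c : ℂ)) (x⁻¹ * sc z * x) =
      (θ (scC hC hcard z) : ℂ) := by
    intro x
    have : x⁻¹ * sc z * x = sc z := by
      have := conj_nu_zero z.1 z.2 x⁻¹
      rwa [inv_inv] at this
    rw [this, extendByZero_of_mem C _ (sc_mem_C hC hcard z)]
    rfl
  rw [Finset.sum_congr rfl fun x _ => e x, Finset.sum_const, Finset.card_univ, nsmul_eq_mul,
    ← Nat.card_eq_fintype_card, card_SL_cast, hcard]
  push_cast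
  have : (Fintype.card F : ℂ) + 1 ≠ 0 := Nat.cast_add_one_ne_zero _
  field_simp
  ring

theorem indC_nu (hC : IsCyclic C) (hcard : Nat.card C = Fintype.card F + 1) (θ : C →* ℂˣ)
    (z : RtT F) {x : F} (hx : x ≠ 0) : indC θ (nu z.1 z.2 x) = 0 := by
  refine indC_not_mem θ fun y hy => ?_
  have hn : NonScalar (y⁻¹ * nu z.1 z.2 x * y) := by
    have := nonScalar_conj (nonScalar_nu z.2 hx) y⁻¹
    rwa [inv_inv] at this
  refine (C_regular hC hcard hy hn).1 ?_
  have := slTr_conj (nu z.1 z.2 x) y⁻¹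
  rw [inv_inv] at this
  rw [this]; exact nu_tr_sq _ _ _

theorem indC_dg (hC : IsCyclic C) (hcard : Nat.card C = Fintype.card F + 1) (θ : C →* ℂˣ)
    {a : Fˣ} (ha : (a : F) * a ≠ 1) : indC θ (dg a) = 0 := by
  refine indC_not_mem θ fun y hy => ?_
  have hn : NonScalar (y⁻¹ * dg a * y) := by
    have := nonScalar_conj ((nonScalar_dg_iff a).mpr ha) y⁻¹
    rwa [inv_inv] at this
  refine (C_regular hC hcard hy hn).2.1 ?_
  have := (Split.conj_iff (dg a) y⁻¹).mpr (split_dg a)
  rwa [inv_inv] at this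

theorem indC_C (hC : IsCyclic C) (hcard : Nat.card C = Fintype.card F + 1) (θ : C →* ℂˣ)
    (c : C) (hc : NonScalar (c : SL)) : indC θ (c : SL) = (θ c : ℂ) + (θ c⁻¹ : ℂ) := by
  classical
  obtain ⟨hreg, -, htor⟩ := C_regular hC hcard c.2 hc
  have hne := inv_ne_self_of_regular hreg
  have key : ∀ x : SL, Cfsg.extendByZero C (fun c => (θ c : ℂ)) (x⁻¹ * (c : SL) * x) =
      (if x⁻¹ * (c : SL) * x = c then (θ c : ℂ) else 0) +
        (if x⁻¹ * (c : SL) * x = (c : SL)⁻¹ then (θ c⁻¹ : ℂ) else 0) := by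
    intro x
    have htr : slTr (x⁻¹ * (c : SL) * x) = slTr (c : SL) := by
      have := slTr_conj (c : SL) x⁻¹
      rwa [inv_inv] at this
    by_cases hm : x⁻¹ * (c : SL) * x ∈ C
    · rcases eq_or_eq_inv' hreg (mem_torus.mp (C_le_torus hC c.2 hm)) htr with e | e <;>
        rw [e] at hm ⊢ <;> rw [extendByZero_of_mem C _ hm]
      · rw [if_pos rfl, if_neg hne.symm, add_zero]
      · rw [if_neg hne, if_pos rfl, zero_add]
        rfl
    · rw [extendByZero_of_not_mem C _ hm, if_neg (fun e : x⁻¹ * (c : SL) * x = c => hm (by rw [e]; exact c.2)),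
        if_neg (fun e : x⁻¹ * (c : SL) * x = (c : SL)⁻¹ => hm (by rw [e]; exact inv_mem c.2)), add_zero]
  have hmemiff : ∀ x : SL, x⁻¹ * (c : SL) * x = c ↔ x ∈ C := by
    intro x
    conv_rhs => rw [← htor]
    rw [mem_torus, mul_assoc, inv_mul_eq_iff_eq_mul]
    exact eq_comm
  have h1 : (Finset.univ.filter fun x : SL => x⁻¹ * (c : SL) * x = c).card = Fintype.card F + 1 := by
    rw [Finset.filter_congr fun x _ => hmemiff x, ← Fintype.card_subtype, ← Nat.card_eq_fintype_card]
    exact hcard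
  obtain ⟨P, hP⟩ := exists_conj_of_regular hreg (b := (c : SL)⁻¹) (slTr_inv _)
  have h2 : (Finset.univ.filter fun x : SL => x⁻¹ * (c : SL) * x = (c : SL)⁻¹).card =
      Fintype.card F + 1 := by
    rw [← h1]
    refine Finset.card_equiv (Equiv.mulRight P) fun x => ?_
    simp only [Finset.mem_filter, Finset.mem_univ, true_and, Equiv.coe_mulRight]
    rw [← hP, show (x * P)⁻¹ * (c : SL) * (x * P) = P⁻¹ * (x⁻¹ * (c : SL) * x) * P by group]
    constructor
    · intro h; rw [h]; group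
    · intro h
      calc x⁻¹ * (c : SL) * x = P * (P⁻¹ * (x⁻¹ * (c : SL) * x) * P) * P⁻¹ := by group
        _ = _ := by rw [h]
  simp only [indC, Cfsg.indFun]
  rw [Finset.sum_congr rfl fun x _ => key x, Finset.sum_add_distrib, ← Finset.sum_filter,
    ← Finset.sum_filter, Finset.sum_const, Finset.sum_const, h1, h2, hcard, nsmul_eq_mul, nsmul_eq_mul]
  have : ((Fintype.card F + 1 : ℕ) : ℂ) ≠ 0 := Nat.cast_ne_zero.mpr (by omega)
  field_simp

theorem dX_sc (hC : IsCyclic C) (hcard : Nat.card C = Fintype.card F + 1) (θ : C →* ℂˣ)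
    (z : RtT F) :
    dX hC hcard θ (sc z) = ((Fintype.card F : ℂ) - 1) * (θ (scC hC hcard z) : ℂ) := by
  simp only [dX, Pi.sub_apply, Pi.mul_apply, st_sc, pi_sc, indC_sc hC hcard,
    (exists_compat θ hC hcard).choose_spec z]
  ring

theorem dX_nu (hC : IsCyclic C) (hcard : Nat.card C = Fintype.card F + 1) (θ : C →* ℂˣ)
    (z : RtT F) {x : F} (hx : x ≠ 0) :
    dX hC hcard θ (nu z.1 z.2 x) = -(θ (scC hC hcard z) : ℂ) := by
  simp only [dX, Pi.sub_apply, Pi.mul_apply, st_nu z hx, pi_nu _ z hx, indC_nu hC hcard θ z hx,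
    (exists_compat θ hC hcard).choose_spec z]
  ring

theorem dX_dg (hC : IsCyclic C) (hcard : Nat.card C = Fintype.card F + 1) (θ : C →* ℂˣ)
    {a : Fˣ} (ha : (a : F) * a ≠ 1) : dX hC hcard θ (dg a) = 0 := by
  simp only [dX, Pi.sub_apply, Pi.mul_apply, st_dg ha, indC_dg hC hcard θ ha]
  ring

theorem dX_C (hC : IsCyclic C) (hcard : Nat.card C = Fintype.card F + 1) (θ : C →* ℂˣ)
    (c : C) (hc : NonScalar (c : SL)) :
    dX hC hcard θ (c : SL) = -((θ c : ℂ) + (θ c⁻¹ : ℂ)) := by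
  simp only [dX, Pi.sub_apply, Pi.mul_apply, pi_nonsplit _ (C_regular hC hcard c.2 hc).2.1,
    indC_C hC hcard θ c hc]
  ring

theorem dX_one (hC : IsCyclic C) (hcard : Nat.card C = Fintype.card F + 1) (θ : C →* ℂˣ) :
    dX hC hcard θ 1 = (Fintype.card F : ℂ) - 1 := by
  have : scC hC hcard ⟨1, rt_one⟩ = 1 := Subtype.ext nu_one_zero
  rw [one_eq_sc, dX_sc, this, map_one, Units.val_one, mul_one]

open scoped Classical in
theorem inner_dX_one (hC : IsCyclic C) (hcard : Nat.card C = Fintype.card F + 1) (θ : C →* ℂˣ) :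
    Cfsg.classInner (dX hC hcard θ) (fun _ => 1) = if θ = 1 then -1 else 0 := by
  have hs := sum_std hC hcard (classFun_dX hC hcard θ) (fun z => (θ (scC hC hcard z) : ℂ))
    ((Fintype.card F : ℂ) - 1) (-1) 0 (-2)
    (fun _ => 0) (fun c => -((θ c : ℂ) + (θ c⁻¹ : ℂ)))
    (fun z => dX_sc hC hcard θ z) (fun z x hx => by rw [dX_nu _ _ _ _ hx]; ring)
    (fun a ha => dX_dg hC hcard θ (mem_aNS.mp ha))
    (fun c hc => dX_C hC hcard θ c hc)
    (fun z => by simp)
    (fun z => by simp only [scC_inv]; ring)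
  rw [Finset.sum_neg_distrib, Finset.sum_add_distrib, sum_hom θ hcard, sum_hom_inv θ hcard,
    Finset.sum_const_zero] at hs
  simp only [Cfsg.classInner, map_one, mul_one, hs, card_SL_cast]
  have hq : (Fintype.card F : ℂ) * ((Fintype.card F : ℂ) ^ 2 - 1) ≠ 0 := by
    rw [← card_SL_cast]; exact Induced.Basic.natCard_ne_zero
  rw [inv_mul_eq_iff_eq_mul₀ hq]
  split_ifs <;> ring

theorem inner_dX_pi (hC : IsCyclic C) (hcard : Nat.card C = Fintype.card F + 1) (θ : C →* ℂˣ)
    (α : MulChar F ℂ) : Cfsg.classInner (dX hC hcard θ) (pi α) = 0 := by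
  have hP : Cfsg.IsClassFunction SL (fun x => dX hC hcard θ x * conj (pi α x)) := fun g h => by
    simp only [classFun_dX hC hcard θ g h, classFun_pi α g h]
  have hs := sum_std hC hcard hP (fun z => (θ (scC hC hcard z) : ℂ) * conj (α z.1))
    ((Fintype.card F : ℂ) ^ 2 - 1) (-1) 0 0 (fun _ => 0) (fun _ => 0)
    (fun z => by simp only [dX_sc, pi_sc, map_mul, map_add, map_natCast, map_one]; ring)
    (fun z x hx => by simp only [dX_nu _ _ _ _ hx, pi_nu _ _ hx]; ring)
    (fun a ha => by simp only [dX_dg hC hcard θ (mem_aNS.mp ha), zero_mul])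
    (fun c hc => by
      simp only [pi_nonsplit _ (C_regular hC hcard c.2 hc).2.1, map_zero, mul_zero])
    (fun z => by simp) (fun z => by simp)
  rw [Cfsg.classInner, hs, Finset.sum_const_zero, Finset.sum_const_zero]
  ring

open scoped Classical in
theorem inner_dX_dX (hC : IsCyclic C) (hcard : Nat.card C = Fintype.card F + 1)
    (θ η : C →* ℂˣ) :
    Cfsg.classInner (dX hC hcard θ) (dX hC hcard η) =
      (if θ = η then 1 else 0) + (if θ * η = 1 then 1 else 0) := by
  have hP : Cfsg.IsClassFunction SL (fun x => dX hC hcard θ x * conj (dX hC hcard η x)) :=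
    fun g h => by simp only [classFun_dX hC hcard θ g h, classFun_dX hC hcard η g h]
  have hs := sum_std hC hcard hP
    (fun z => (θ (scC hC hcard z) : ℂ) * conj (η (scC hC hcard z) : ℂ))
    (((Fintype.card F : ℂ) - 1) ^ 2) 1 0 4 (fun _ => 0)
    (fun c => ((θ c : ℂ) + (θ c⁻¹ : ℂ)) * ((η c⁻¹ : ℂ) + (η c : ℂ)))
    (fun z => by simp only [dX_sc, map_mul, map_sub, map_natCast, map_one]; ring)
    (fun z x hx => by simp only [dX_nu _ _ _ _ hx, map_neg]; ring)
    (fun a ha => by simp only [dX_dg hC hcard θ (mem_aNS.mp ha), zero_mul])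
    (fun c hc => by
      simp only [dX_C hC hcard _ c hc, map_neg, map_add, conj_hom, inv_inv]; ring)
    (fun z => by simp)
    (fun z => by simp only [scC_inv, conj_hom]; ring)
  have hf : ∑ c : C, ((θ c : ℂ) + (θ c⁻¹ : ℂ)) * ((η c⁻¹ : ℂ) + (η c : ℂ)) =
      2 * ((Fintype.card F : ℂ) + 1) *
        ((if θ = η then 1 else 0) + (if θ * η = 1 then 1 else 0)) := by
    have e1 : ∀ c : C, (θ c : ℂ) * (η c⁻¹ : ℂ) = ((θ * η⁻¹) c : ℂ) := fun c => by
      simp [MonoidHom.mul_apply]
    have e2 : ∀ c : C, (θ c⁻¹ : ℂ) * (η c : ℂ) = ((θ * η⁻¹) c⁻¹ : ℂ) := fun c => by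
      simp [MonoidHom.mul_apply]
    have e3 : ∀ (x : C), (θ x : ℂ) * (η x : ℂ) = ((θ * η) x : ℂ) := fun c => by
      simp [MonoidHom.mul_apply]
    simp only [add_mul, mul_add, Finset.sum_add_distrib, e1, e2, e3, sum_hom _ hcard,
      sum_hom_inv _ hcard]
    have hmi : θ * η⁻¹ = 1 ↔ θ = η := by
      simp only [DFunLike.ext_iff, MonoidHom.mul_apply, MonoidHom.inv_apply, MonoidHom.one_apply,
        mul_inv_eq_one]
    split_ifs <;> first
      | ring1
      | (exfalso; rename_i h1 h2 h3; first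
          | exact h3 (hmi.mp h1) | exact h1 (hmi.mpr h3) | exact h2 (hmi.mpr h3) | exact h3 (hmi.mp h2))
      | (exfalso; rename_i h1 h2; first | exact h2 (hmi.mp h1) | exact h1 (hmi.mpr h2))
  rw [Cfsg.classInner, hs, hf, Finset.sum_const_zero, card_SL_cast]
  have hq : (Fintype.card F : ℂ) * ((Fintype.card F : ℂ) ^ 2 - 1) ≠ 0 := by
    rw [← card_SL_cast]; exact Induced.Basic.natCard_ne_zero
  rw [inv_mul_eq_iff_eq_mul₀ hq]
  ring

theorem inner_dX_st (hC : IsCyclic C) (hcard : Nat.card C = Fintype.card F + 1) {θ : C →* ℂˣ}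
    (hθ : θ ≠ 1) : Cfsg.classInner (dX hC hcard θ) st = 0 := by
  classical
  rw [st_eq_sub, classInner_sub_right, inner_dX_pi, inner_dX_one, if_neg hθ, sub_zero]

theorem two_le_q' : (2 : ℂ).re ≤ (Fintype.card F : ℂ).re := by
  simp only [Complex.re_ofNat, Complex.natCast_re]
  exact_mod_cast two_le_q

theorem isIrr_dX (hC : IsCyclic C) (hcard : Nat.card C = Fintype.card F + 1) {θ : C →* ℂˣ}
    (hθ : θ ^ 2 ≠ 1) : Cfsg.IsIrrCharacter SL (dX hC hcard θ) := by
  classical
  refine Induced.Generalized.isIrrCharacter_of_norm_one (isGen_dX hC hcard θ) ?_ ?_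
  · rw [inner_dX_dX, if_pos rfl, if_neg fun e => hθ ((pow_two θ).trans e), add_zero]
  · rw [dX_one]
    have := two_le_q' (F := F)
    simp only [Complex.re_ofNat] at this
    simp only [Complex.sub_re, Complex.one_re]
    linarith

end Cfsg.Agent.Lib.SL2Chars49
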