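import Mathlib
import Cfsg.Agent.Lib.SL2Chars49.Chars
import Cfsg.Agent.Lib.Clifford.Rep

/-!
The irreducible characters of SL₂(q) outside the halves: counting, and the sum of squares left over.
-/

set_option autoImplicit false
set_option linter.unusedSectionVars false

namespace Cfsg.Agent.Lib.SL2Chars49

open Cfsg.Agent.Lib.PSLTwo.Sylow
open scoped ComplexConjugate

section General

variable {G : Type*} [Group G] [Finite G]

/-- A central element scales an irreducible character. -/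
theorem central_apply {χ : G → ℂ} (hχ : Cfsg.IsIrrCharacter G χ) {z : G}
    (hz : ∀ g, g * z = z * g) :
    ∃ c : ℂ, ∀ g, χ (z * g) = c * χ g := by
  obtain ⟨n, ρ, hρ, rfl⟩ := hχ
  have := hρ
  obtain ⟨c, hc⟩ := Clifford.Rep.schur ρ (ρ z) fun g => by rw [← map_mul, ← map_mul, hz]
  refine ⟨c, fun g => ?_⟩
  simp only [Representation.character, map_mul, hc, smul_mul_assoc, one_mul, map_smul, smul_eq_mul]

/-- A central involution takes the values `±degree`. -/
theorem central_involution {χ : G → ℂ} (hχ : Cfsg.IsIrrCharacter G χ) {z : G}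
    (hz : ∀ g, g * z = z * g) (hz2 : z * z = 1) :
    ∃ c : ℂ, c * c = 1 ∧ χ z = c * χ 1 ∧ ∀ g, χ (z * g) = c * χ g := by
  obtain ⟨c, hc⟩ := central_apply hχ hz
  have h1 : χ 1 ≠ 0 := Characters.Basic.apply_one_ne_zero (⟨χ, hχ⟩ : Cfsg.IrrCharacter G)
  refine ⟨c, ?_, by rw [← hc 1, mul_one], hc⟩
  have := hc (z * 1)
  rw [← mul_assoc, hz2, one_mul, hc 1] at this
  exact mul_right_cancel₀ h1 (by linear_combination -this)

/-- Square-one homomorphisms of a finite cyclic group. -/
theorem card_hom_mul_self [IsCyclic G] :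
    Nat.card {f : G →* ℂˣ // f * f = 1} = Nat.card {x : G // x * x = 1} := by
  letI : CommGroup G := IsCyclic.commGroup
  obtain ⟨e⟩ := CommGroup.monoidHom_mulEquiv_of_hasEnoughRootsOfUnity G ℂ
  exact Nat.card_congr (e.toEquiv.subtypeEquiv fun f => by
    rw [MulEquiv.toEquiv_eq_coe, MulEquiv.coe_toEquiv, ← map_mul, ← e.map_eq_one_iff])

theorem card_hom [IsCyclic G] : Nat.card (G →* ℂˣ) = Nat.card G := by
  letI : CommGroup G := IsCyclic.commGroup
  exact CommGroup.card_monoidHom_of_hasEnoughRootsOfUnity G ℂ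

/-- Two-to-one counting for a map identifying exactly inverse pairs. -/
theorem two_mul_card_image {A X : Type*} [Group A] [DecidableEq A] [DecidableEq X] (s : Finset A)
    (f : A → X) (hinv : ∀ a ∈ s, a⁻¹ ∈ s) (h2 : ∀ a ∈ s, a * a ≠ 1)
    (hf : ∀ a ∈ s, ∀ b ∈ s, f b = f a ↔ b = a ∨ b = a⁻¹) :
    2 * (s.image f).card = s.card := by
  rw [Finset.card_eq_sum_card_image f s, Finset.sum_const_nat (m := 2) fun x hx => ?_, mul_comm]
  obtain ⟨a, ha, rfl⟩ := Finset.mem_image.mp hx
  have : (s.filter fun b => f b = f a) = {a, a⁻¹} := by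
    ext b
    simp only [Finset.mem_filter, Finset.mem_insert, Finset.mem_singleton]
    refine ⟨fun h => (hf a ha b h.1).mp h.2, fun h => ?_⟩
    have hb : b ∈ s := by rcases h with rfl | rfl; exacts [ha, hinv a ha]
    exact ⟨hb, (hf a ha b hb).mpr h⟩
  rw [this, Finset.card_pair]
  exact fun e => h2 a ha (by nth_rewrite 2 [e]; exact mul_inv_cancel a)

end General

variable {F : Type*} [Field F] [Fintype F] [DecidableEq F]

local notation "SL" => Matrix.SpecialLinearGroup (Fin 2) F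

variable {C : Subgroup (Matrix.SpecialLinearGroup (Fin 2) F)}

theorem card_units_sq_one :
    Nat.card {u : Fˣ // u * u = 1} = Fintype.card (RtT F) := by
  rw [← Nat.card_eq_fintype_card]
  exact Nat.card_congr
    { toFun := fun u => ⟨(u.1 : F), by
        show (u.1 : F) * u.1 = 1
        rw [← Units.val_mul, u.2, Units.val_one]⟩
      invFun := fun z => ⟨rtU z, Units.ext z.2⟩
      left_inv := fun u => Subtype.ext (Units.ext rfl)
      right_inv := fun z => rfl }

theorem card_C_sq_one (hC : IsCyclic C) (hcard : Nat.card C = Fintype.card F + 1) :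
    Nat.card {c : C // c * c = 1} = Fintype.card (RtT F) := by
  rw [← Nat.card_eq_fintype_card]
  symm
  refine Nat.card_congr (Equiv.ofBijective
    (fun z => (⟨scC hC hcard z, by
      nth_rewrite 1 [← scC_inv hC hcard z]; exact inv_mul_cancel _⟩ : {c : C // c * c = 1})) ⟨?_, ?_⟩)
  · intro a b h
    exact sc_injective (congrArg (fun c => ((c.1 : C) : SL)) h)
  · rintro ⟨c, hc⟩
    have hn : ¬ NonScalar (c : SL) := fun h => inv_ne_self_of_regular
      (C_regular hC hcard c.2 h).1 (by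
        exact inv_eq_of_mul_eq_one_right (congrArg Subtype.val hc))
    obtain ⟨z, hz, e⟩ := scalar_eq_nu hn
    exact ⟨⟨z, hz⟩, Subtype.ext (Subtype.ext e.symm)⟩

theorem card_mulChar_sq_one :
    Nat.card {α : MulChar F ℂ // α * α = 1} = Fintype.card (RtT F) := by
  rw [← card_units_sq_one, ← card_hom_mul_self (G := Fˣ)]
  refine Nat.card_congr (MulChar.equivToUnitHom.subtypeEquiv fun α => ?_)
  constructor
  · intro h
    refine MonoidHom.ext fun u => Units.ext ?_
    have := congrArg (fun χ : MulChar F ℂ => χ (u : F)) h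
    simpa [MulChar.mul_apply, MulChar.one_apply_coe] using this
  · intro h
    refine MulChar.ext fun u => ?_
    have := congrArg Units.val (DFunLike.congr_fun h u)
    simpa [MulChar.mul_apply, MulChar.one_apply_coe] using this

theorem card_mulChar : Nat.card (MulChar F ℂ) = Fintype.card F - 1 := by
  rw [Nat.card_congr MulChar.equivToUnitHom, card_hom, Nat.card_units, Nat.card_eq_fintype_card]

theorem card_homC_sq_one (hC : IsCyclic C) (hcard : Nat.card C = Fintype.card F + 1) :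
    Nat.card {θ : C →* ℂˣ // θ * θ = 1} = Fintype.card (RtT F) := by
  rw [card_hom_mul_self, card_C_sq_one hC hcard]

instance finiteHomC : Finite (C →* ℂˣ) := by
  classical
  exact inferInstance

/-- Parameters of the principal series. -/
noncomputable def pSet (F : Type*) [Field F] [Fintype F] : Finset (MulChar F ℂ) := by
  classical
  haveI := Fintype.ofFinite (MulChar F ℂ)
  exact Finset.univ.filter fun α => α * α ≠ 1

/-- Parameters of the discrete series. -/
noncomputable def xSet (C : Subgroup (Matrix.SpecialLinearGroup (Fin 2) F)) : Finset (C →* ℂˣ) := by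
  classical
  haveI := Fintype.ofFinite (C →* ℂˣ)
  exact Finset.univ.filter fun θ => θ * θ ≠ 1

theorem mem_pSet {α : MulChar F ℂ} : α ∈ pSet F ↔ α ^ 2 ≠ 1 := by simp [pSet, pow_two]

theorem mem_xSet {θ : C →* ℂˣ} : θ ∈ xSet C ↔ θ ^ 2 ≠ 1 := by simp [xSet, pow_two]

theorem card_pSet : (pSet F).card + Fintype.card (RtT F) = Fintype.card F - 1 := by
  classical
  haveI := Fintype.ofFinite (MulChar F ℂ)
  rw [← card_mulChar, ← card_mulChar_sq_one, Nat.card_eq_fintype_card, Nat.card_eq_fintype_card,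
    Fintype.card_subtype, ← Finset.card_univ (α := MulChar F ℂ),
    ← Finset.card_filter_add_card_filter_not (s := (Finset.univ : Finset (MulChar F ℂ)))
      (fun α => α * α ≠ 1)]
  simp [pSet]
  congr!

theorem card_xSet (hC : IsCyclic C) (hcard : Nat.card C = Fintype.card F + 1) :
    (xSet C).card + Fintype.card (RtT F) = Fintype.card F + 1 := by
  classical
  haveI := Fintype.ofFinite (C →* ℂˣ)
  rw [← hcard, ← card_hom, ← card_homC_sq_one hC hcard, Nat.card_eq_fintype_card,
    Nat.card_eq_fintype_card, Fintype.card_subtype, ← Finset.card_univ (α := C →* ℂˣ),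
    ← Finset.card_filter_add_card_filter_not (s := (Finset.univ : Finset (C →* ℂˣ)))
      (fun θ => θ * θ ≠ 1)]
  simp [xSet]
  congr!

theorem pi_eq_iff {α β : MulChar F ℂ} (hα : α ^ 2 ≠ 1) :
    pi β = pi α ↔ β = α ∨ β = α⁻¹ := by
  classical
  constructor
  · intro h
    have h1 := inner_pi_pi β α
    rw [h, inner_pi_pi, if_pos rfl, if_neg fun e => hα ((pow_two α).trans e), add_zero] at h1
    by_cases hb : β = α
    · exact Or.inl hb
    · by_cases hb' : β * α = 1
      · exact Or.inr (eq_inv_of_mul_eq_one_left hb')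
      · rw [if_neg hb, if_neg hb'] at h1
        norm_num at h1
  · rintro (rfl | rfl)
    · rfl
    · obtain ⟨C, hC, hcard⟩ := exists_C (F := F)
      refine classFun_ext hC hcard (classFun_pi _) (classFun_pi _) (fun z => ?_) (fun z x hx => ?_)
        (fun a ha => ?_) (fun c hc => ?_)
      · rw [pi_sc, pi_sc, MulChar.inv_apply', z.2.inv_eq]
      · rw [pi_nu _ _ hx, pi_nu _ _ hx, MulChar.inv_apply', z.2.inv_eq]
      · rw [pi_dg _ (mem_aNS.mp ha), pi_dg _ (mem_aNS.mp ha), MulChar.inv_apply', MulChar.inv_apply',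
          Units.val_inv_eq_inv_val, inv_inv, add_comm]
      · obtain ⟨h1, h2⟩ := mem_cNS.mp hc
        rw [pi_nonsplit _ (C_regular hC hcard h1 h2).2.1, pi_nonsplit _ (C_regular hC hcard h1 h2).2.1]

theorem dX_eq_iff (hC : IsCyclic C) (hcard : Nat.card C = Fintype.card F + 1) {θ η : C →* ℂˣ}
    (hθ : θ ^ 2 ≠ 1) : dX hC hcard η = dX hC hcard θ ↔ η = θ ∨ η = θ⁻¹ := by
  classical
  constructor
  · intro h
    have h1 := inner_dX_dX hC hcard η θ
    rw [h, inner_dX_dX, if_pos rfl, if_neg fun e => hθ ((pow_two θ).trans e), add_zero] at h1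
    by_cases hb : η = θ
    · exact Or.inl hb
    · by_cases hb' : η * θ = 1
      · refine Or.inr (MonoidHom.ext fun c => ?_)
        rw [MonoidHom.inv_apply]
        exact eq_inv_of_mul_eq_one_left (DFunLike.congr_fun hb' c)
      · rw [if_neg hb, if_neg hb'] at h1
        norm_num at h1
  · rintro (rfl | rfl)
    · rfl
    · have hi : ∀ c : C, (θ⁻¹) c = θ c⁻¹ := fun c => by rw [MonoidHom.inv_apply, map_inv]
      refine classFun_ext hC hcard (classFun_dX _ _ _) (classFun_dX _ _ _) (fun z => ?_)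
        (fun z x hx => ?_) (fun a ha => ?_) (fun c hc => ?_)
      · rw [dX_sc, dX_sc, hi, scC_inv]
      · rw [dX_nu _ _ _ _ hx, dX_nu _ _ _ _ hx, hi, scC_inv]
      · rw [dX_dg hC hcard _ (mem_aNS.mp ha), dX_dg hC hcard _ (mem_aNS.mp ha)]
      · obtain ⟨h1, h2⟩ := mem_cNS.mp hc
        rw [dX_C hC hcard _ ⟨c, h1⟩ h2, dX_C hC hcard _ ⟨c, h1⟩ h2, hi, hi, inv_inv, add_comm]

theorem ne_one_of_sq {θ : C →* ℂˣ} (hθ : θ ^ 2 ≠ 1) : θ ≠ 1 := fun h => hθ (by
  subst h; exact MonoidHom.ext fun c => by simp)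

/-- The characters already known: trivial, Steinberg, principal and discrete series. -/
def IsBase (hC : IsCyclic C) (hcard : Nat.card C = Fintype.card F + 1)
    (f : Matrix.SpecialLinearGroup (Fin 2) F → ℂ) : Prop :=
  f = (fun _ => 1) ∨ f = st ∨ (∃ α : MulChar F ℂ, α ^ 2 ≠ 1 ∧ f = pi α) ∨
    (∃ θ : C →* ℂˣ, θ ^ 2 ≠ 1 ∧ f = dX hC hcard θ)

open scoped Classical in
/-- The irreducible characters not among the known ones. -/
noncomputable def rest [Fintype (Cfsg.IrrCharacter (Matrix.SpecialLinearGroup (Fin 2) F))]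
    (hC : IsCyclic C) (hcard : Nat.card C = Fintype.card F + 1) :
    Finset (Cfsg.IrrCharacter (Matrix.SpecialLinearGroup (Fin 2) F)) :=
  Finset.univ.filter fun χ => ¬ IsBase hC hcard (χ : Matrix.SpecialLinearGroup (Fin 2) F → ℂ)

/-- Sum of squares of the degrees of the remaining characters. -/
theorem sum_sq_rest [Fintype (Cfsg.IrrCharacter SL)] (hC : IsCyclic C)
    (hcard : Nat.card C = Fintype.card F + 1) :
    ∑ χ ∈ rest hC hcard, (χ : SL → ℂ) 1 ^ 2 =
      ((Fintype.card (RtT F) : ℂ) - 1) * ((Fintype.card F : ℂ) ^ 2 + 1) := by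
  classical
  let q : ℂ := Fintype.card F
  have htot : ∑ χ : Cfsg.IrrCharacter SL, (χ : SL → ℂ) 1 ^ 2 = (Nat.card SL : ℂ) := by
    rw [← finsum_eq_sum_of_fintype]; exact Characters.Complete.finsum_degree_sq
  rw [← Finset.sum_filter_add_sum_filter_not Finset.univ
    (fun χ : Cfsg.IrrCharacter SL => IsBase hC hcard (χ : SL → ℂ))] at htot
  let one' : Cfsg.IrrCharacter SL := Characters.Basic.oneChar SL
  let st' : Cfsg.IrrCharacter SL := ⟨st, isIrr_st⟩
  let P : Finset (Cfsg.IrrCharacter SL) :=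
    (pSet F).attach.image fun α => ⟨pi α.1, isIrr_pi (mem_pSet.mp α.2)⟩
  let X : Finset (Cfsg.IrrCharacter SL) :=
    (xSet C).attach.image fun θ => ⟨dX hC hcard θ.1, isIrr_dX hC hcard (mem_xSet.mp θ.2)⟩
  have hP : 2 * P.card = (pSet F).card := by
    have h := two_mul_card_image (pSet F) (fun α => pi α) (fun a ha => ?_) (fun a ha => ?_)
      (fun a ha b _ => pi_eq_iff (mem_pSet.mp ha))
    · rw [← h]
      congr 1
      refine Finset.card_bij (fun χ _ => (χ : SL → ℂ)) ?_ (fun a _ b _ e => Subtype.ext e) ?_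
      · intro χ hχ
        obtain ⟨α, -, rfl⟩ := Finset.mem_image.mp hχ
        exact Finset.mem_image.mpr ⟨α.1, α.2, rfl⟩
      · intro f hf
        obtain ⟨α, hα, rfl⟩ := Finset.mem_image.mp hf
        exact ⟨_, Finset.mem_image.mpr ⟨⟨α, hα⟩, Finset.mem_attach _ _, rfl⟩, rfl⟩
    · rw [mem_pSet] at ha ⊢
      rwa [inv_pow, Ne, inv_eq_one]
    · rw [mem_pSet, pow_two] at ha; exact ha
  have hX : 2 * X.card = (xSet C).card := by
    have h := two_mul_card_image (xSet C) (fun θ => dX hC hcard θ) (fun a ha => ?_) (fun a ha => ?_)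
      (fun a ha b _ => dX_eq_iff hC hcard (mem_xSet.mp ha))
    · rw [← h]
      congr 1
      refine Finset.card_bij (fun χ _ => (χ : SL → ℂ)) ?_ (fun a _ b _ e => Subtype.ext e) ?_
      · intro χ hχ
        obtain ⟨α, -, rfl⟩ := Finset.mem_image.mp hχ
        exact Finset.mem_image.mpr ⟨α.1, α.2, rfl⟩
      · intro f hf
        obtain ⟨α, hα, rfl⟩ := Finset.mem_image.mp hf
        exact ⟨_, Finset.mem_image.mpr ⟨⟨α, hα⟩, Finset.mem_attach _ _, rfl⟩, rfl⟩
    · rw [mem_xSet] at ha ⊢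
      rwa [inv_pow, Ne, inv_eq_one]
    · rw [mem_xSet, pow_two] at ha; exact ha
  have hbase : (Finset.univ.filter fun χ : Cfsg.IrrCharacter SL => IsBase hC hcard (χ : SL → ℂ)) =
      {one', st'} ∪ P ∪ X := by
    ext χ
    rw [Finset.mem_filter]
    simp only [Finset.mem_univ, true_and, Finset.mem_union, Finset.mem_insert,
      Finset.mem_singleton, P, X, Finset.mem_image, Finset.mem_attach, IsBase]
    constructor
    · rintro (h | h | ⟨α, hα, h⟩ | ⟨θ, hθ, h⟩)
      · exact Or.inl (Or.inl (Or.inl (Subtype.ext h)))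
      · exact Or.inl (Or.inl (Or.inr (Subtype.ext h)))
      · exact Or.inl (Or.inr ⟨⟨α, mem_pSet.mpr hα⟩, Subtype.ext h.symm⟩)
      · exact Or.inr ⟨⟨θ, mem_xSet.mpr hθ⟩, Subtype.ext h.symm⟩
    · rintro (((rfl | rfl) | ⟨α, rfl⟩) | ⟨θ, rfl⟩)
      · exact Or.inl rfl
      · exact Or.inr (Or.inl rfl)
      · exact Or.inr (Or.inr (Or.inl ⟨α.1, mem_pSet.mp α.2, rfl⟩))
      · exact Or.inr (Or.inr (Or.inr ⟨θ.1, mem_xSet.mp θ.2, rfl⟩))
  have h1 : (one' : SL → ℂ) 1 = 1 := rfl
  have h2 : (st' : SL → ℂ) 1 = q := st_one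
  have hq2 : (2 : ℝ) ≤ (Fintype.card F : ℝ) := by exact_mod_cast two_le_q
  have hqn : ∀ n : ℕ, n < 2 → q ≠ (n : ℂ) := fun n hn e => by
    have : Fintype.card F = n := Nat.cast_injective (R := ℂ) e
    have := two_le_q (F := F)
    omega
  have hPd : ∀ χ ∈ P, (χ : SL → ℂ) 1 = q + 1 := by
    intro χ hχ
    obtain ⟨α, -, rfl⟩ := Finset.mem_image.mp hχ
    exact pi_one _
  have hXd : ∀ χ ∈ X, (χ : SL → ℂ) 1 = q - 1 ∧
      Cfsg.classInner (χ : SL → ℂ) (fun _ => 1) = 0 := by
    intro χ hχ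
    obtain ⟨θ, -, rfl⟩ := Finset.mem_image.mp hχ
    exact ⟨dX_one hC hcard _, by
      rw [inner_dX_one, if_neg (ne_one_of_sq (mem_xSet.mp θ.2))]⟩
  have hne : one' ≠ st' := fun e => hqn 1 one_lt_two (by rw [← h2, ← e, h1, Nat.cast_one])
  have d1 : Disjoint {one', st'} P := by
    rw [Finset.disjoint_left]
    intro χ hχ hP'
    have h3 := hPd χ hP'
    rcases Finset.mem_insert.mp hχ with rfl | hχ
    · exact hqn 0 two_pos (by rw [Nat.cast_zero]; linear_combination -h3 + h1)
    · rw [Finset.mem_singleton.mp hχ, h2] at h3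
      exact one_ne_zero (α := ℂ) (by linear_combination -h3)
  have d2 : Disjoint ({one', st'} ∪ P) X := by
    rw [Finset.disjoint_left]
    intro χ hχ hX'
    obtain ⟨h3, h4⟩ := hXd χ hX'
    rcases Finset.mem_union.mp hχ with hχ | hχ
    · rcases Finset.mem_insert.mp hχ with rfl | hχ
      · rw [show ((one' : SL → ℂ)) = fun _ => 1 from rfl, classInner_one_one] at h4
        exact one_ne_zero h4
      · rw [Finset.mem_singleton.mp hχ, h2] at h3
        exact one_ne_zero (α := ℂ) (by linear_combination h3)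
    · rw [hPd χ hχ] at h3
      exact two_ne_zero (α := ℂ) (by linear_combination h3)
  rw [hbase, Finset.sum_union d2, Finset.sum_union d1, Finset.sum_pair hne, h1, h2,
    Finset.sum_congr rfl (fun χ hχ => by rw [hPd χ hχ] : ∀ χ ∈ P, _ = (q + 1) ^ 2),
    Finset.sum_congr rfl (fun χ hχ => by rw [(hXd χ hχ).1] : ∀ χ ∈ X, _ = (q - 1) ^ 2),
    Finset.sum_const, Finset.sum_const, nsmul_eq_mul, nsmul_eq_mul, card_SL_cast] at htot
  have hp' : 2 * (P.card : ℂ) + Fintype.card (RtT F) + 1 = q := by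
    have h1 := card_pSet (F := F)
    have h2 := two_le_q (F := F)
    have : 2 * P.card + Fintype.card (RtT F) + 1 = Fintype.card F := by omega
    simp only [q]
    exact_mod_cast this
  have hx' : 2 * (X.card : ℂ) + Fintype.card (RtT F) = q + 1 := by
    have h1 := card_xSet hC hcard
    have : 2 * X.card + Fintype.card (RtT F) = Fintype.card F + 1 := by omega
    simp only [q]
    exact_mod_cast this
  change ∑ χ ∈ Finset.univ.filter (fun χ : Cfsg.IrrCharacter SL =>
    ¬ IsBase hC hcard (χ : SL → ℂ)), (χ : SL → ℂ) 1 ^ 2 = _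
  linear_combination htot - (q + 1) ^ 2 / 2 * hp' - (q - 1) ^ 2 / 2 * hx'

/-- A bound for a set of characters outside the known ones. -/
theorem sum_sq_le [Fintype (Cfsg.IrrCharacter SL)] (hC : IsCyclic C)
    (hcard : Nat.card C = Fintype.card F + 1) {s : Finset (Cfsg.IrrCharacter SL)}
    (hs : s ⊆ rest hC hcard) (d : Cfsg.IrrCharacter SL → ℕ) (hd : ∀ χ : Cfsg.IrrCharacter SL, (χ : SL → ℂ) 1 = d χ)
    (hd0 : ∀ χ, 0 < d χ) :
    ∑ χ ∈ s, d χ ^ 2 ≤ (Fintype.card (RtT F) - 1) * (Fintype.card F ^ 2 + 1) ∧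
    ((Fintype.card (RtT F) - 1) * (Fintype.card F ^ 2 + 1) ≤ ∑ χ ∈ s, d χ ^ 2 → s = rest hC hcard) := by
  classical
  have h := sum_sq_rest hC hcard
  have hn : ∑ χ ∈ rest hC hcard, d χ ^ 2 = (Fintype.card (RtT F) - 1) * (Fintype.card F ^ 2 + 1) := by
    have hr := card_rtT_pos (F := F)
    apply Nat.cast_injective (R := ℂ)
    push_cast [Nat.cast_sub hr]
    rw [← h]
    exact Finset.sum_congr rfl fun χ _ => by rw [hd]
  refine ⟨hn ▸ Finset.sum_le_sum_of_subset hs, fun hle => ?_⟩
  by_contra hne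
  obtain ⟨χ, hχ, hχs⟩ := Finset.exists_of_ssubset (lt_of_le_of_ne hs hne)
  have := Finset.sum_lt_sum_of_subset (f := fun χ => d χ ^ 2) hs hχ hχs (pow_pos (hd0 χ) 2)
    (fun _ _ _ => Nat.zero_le _)
  omega

/-- In even characteristic nothing remains. -/
theorem isBase_of_card_rtT_eq_one (hC : IsCyclic C) (hcard : Nat.card C = Fintype.card F + 1)
    (hr : Fintype.card (RtT F) = 1) {χ : SL → ℂ} (hχ : Cfsg.IsIrrCharacter SL χ) :
    IsBase hC hcard χ := by
  classical
  have := Fintype.ofFinite (Cfsg.IrrCharacter SL)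
  choose d hd hd0 using fun χ : Cfsg.IrrCharacter SL =>
    (Characters.Basic.exists_degree_pos χ).imp fun _ h => And.intro h.2 h.1
  have h := (sum_sq_le hC hcard (Finset.empty_subset _) d hd hd0).2 (by rw [hr]; simp)
  by_contra hb
  have : (⟨χ, hχ⟩ : Cfsg.IrrCharacter SL) ∈ rest hC hcard :=
    Finset.mem_filter.mpr ⟨Finset.mem_univ _, hb⟩
  rw [← h] at this
  exact Finset.notMem_empty _ this

theorem card_rtT_of_odd (hodd : Odd (Fintype.card F)) : Fintype.card (RtT F) = 2 := by
  have h2 : (2 : F) ≠ 0 := Cfsg.Agent.Lib.Linear.two_ne_zero_of_odd_card hodd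
  refine le_antisymm card_rtT_le ?_
  exact Fintype.one_lt_card_iff.mpr ⟨⟨1, rt_one⟩, ⟨-1, rt_neg_one⟩, fun e =>
    h2 (by have h : (1 : F) = -1 := congrArg Subtype.val e; linear_combination h)⟩

theorem card_rtT_of_char_two [CharP F 2] : Fintype.card (RtT F) = 1 := by
  refine le_antisymm (Fintype.card_le_one_iff.mpr ?_) card_rtT_pos
  rintro ⟨a, ha⟩ ⟨b, hb⟩
  rcases rt_iff.mp ha with rfl | rfl <;> rcases rt_iff.mp hb with rfl | rfl <;>
    simp [CharTwo.neg_eq]

end Cfsg.Agent.Lib.SL2Chars49
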