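import Mathlib
import Cfsg.Agent.Lib.SL2Chars49.Base

/-!
The four characters of degree (q ± 1)/2 of SL₂(q), q odd, and the full classification.
-/

set_option autoImplicit false
set_option linter.unusedSectionVars false

namespace Cfsg.Agent.Lib.SL2Chars49

open Cfsg.Agent.Lib.PSLTwo.Sylow
open Cfsg.Agent.Lib.SL2Tori (Regular)
open scoped ComplexConjugate

section General

variable {G : Type*} [Group G] [Fintype G]

/-- A generalized character of norm two is a signed sum of two distinct irreducible characters. -/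
theorem exists_pair {θ : G → ℂ} (h : Cfsg.IsGeneralizedCharacter G θ)
    (h2 : Cfsg.classInner θ θ = 2) :
    ∃ (χ ψ : Cfsg.IrrCharacter G) (a b : ℤ), χ ≠ ψ ∧ a ^ 2 = 1 ∧ b ^ 2 = 1 ∧
      θ = (a : ℂ) • (χ : G → ℂ) + (b : ℂ) • (ψ : G → ℂ) ∧
      Cfsg.classInner θ (χ : G → ℂ) = a ∧ Cfsg.classInner θ (ψ : G → ℂ) = b ∧
      ∀ ξ : Cfsg.IrrCharacter G, ξ ≠ χ → ξ ≠ ψ → Cfsg.classInner θ (ξ : G → ℂ) = 0 := by
  classical
  have := Fintype.ofFinite (Cfsg.IrrCharacter G)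
  obtain ⟨c, hc, hθ, hn⟩ := Induced.Generalized.exists_coeff h
  rw [h2] at hn
  have hn' : ∑ χ, c χ ^ 2 = 2 := by exact_mod_cast hn.symm
  obtain ⟨χ, hχ⟩ : ∃ χ, c χ ≠ 0 := by
    by_contra hall
    push Not at hall
    simp [hall] at hn'
  have small : ∀ z : ℤ, z ≠ 0 → z ^ 2 ≤ 2 → z ^ 2 = 1 := by
    intro z hz hz2
    have h1 : -1 ≤ z := by nlinarith
    have h2 : z ≤ 1 := by nlinarith
    interval_cases z <;> first | rfl | exact absurd rfl hz
  have hχ1 : c χ ^ 2 = 1 :=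
    small _ hχ (hn' ▸ Finset.single_le_sum (fun i _ => sq_nonneg (c i)) (Finset.mem_univ χ))
  rw [← Finset.add_sum_erase _ _ (Finset.mem_univ χ), hχ1] at hn'
  obtain ⟨ψ, hψm, hψ⟩ : ∃ ψ ∈ Finset.univ.erase χ, c ψ ≠ 0 := by
    by_contra hall
    push Not at hall
    rw [Finset.sum_eq_zero fun i hi => by rw [hall i hi]; rfl] at hn'
    norm_num at hn'
  have hψ1 : c ψ ^ 2 = 1 :=
    small _ hψ ((Finset.single_le_sum (fun i _ => sq_nonneg (c i)) hψm).trans (by omega))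
  rw [← Finset.add_sum_erase _ _ hψm, hψ1] at hn'
  have hne : χ ≠ ψ := (Finset.mem_erase.mp hψm).1.symm
  have hrest : ∀ ξ, ξ ≠ χ → ξ ≠ ψ → c ξ = 0 := by
    intro ξ h1 h2
    have h0 : ∑ i ∈ (Finset.univ.erase χ).erase ψ, c i ^ 2 = 0 := by omega
    exact pow_eq_zero_iff two_ne_zero |>.mp
      ((Finset.sum_eq_zero_iff_of_nonneg fun i _ => sq_nonneg _).mp h0 ξ (by simp [h1, h2]))
  refine ⟨χ, ψ, c χ, c ψ, hne, hχ1, hψ1, ?_, hc χ, hc ψ, fun ξ h1 h2 => by
    rw [hc ξ, hrest ξ h1 h2, Int.cast_zero]⟩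
  conv_lhs => rw [hθ]
  rw [← Finset.sum_pair hne (f := fun ξ => (c ξ : ℂ) • (ξ : G → ℂ))]
  refine (Finset.sum_subset (Finset.subset_univ _) fun ξ _ hξ => ?_).symm
  simp only [Finset.mem_insert, Finset.mem_singleton, not_or] at hξ
  rw [hrest ξ hξ.1 hξ.2, Int.cast_zero, zero_smul]

/-- The order-two homomorphism of a finite cyclic group. -/
theorem hom_sq_one_apply [IsCyclic G] [DecidableEq G] {f : G →* ℂˣ} (h2 : ∀ x, f x * f x = 1) (h1 : f ≠ 1) (x : G) :
    (f x : ℂ) = if x ^ (Nat.card G / 2) = 1 then 1 else -1 := by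
  obtain ⟨g, hg⟩ := IsCyclic.exists_monoid_generator (α := G)
  have hsq : ∀ y, (f y : ℂ) = 1 ∨ (f y : ℂ) = -1 := fun y =>
    mul_self_eq_one_iff.mp (by rw [← Units.val_mul, h2, Units.val_one])
  have hfg : (f g : ℂ) = -1 := by
    refine (hsq g).resolve_left fun e => h1 (MonoidHom.ext fun y => ?_)
    obtain ⟨k, rfl⟩ := Submonoid.mem_powers_iff _ _ |>.mp (hg y)
    rw [map_pow, (Units.ext e : f g = 1), one_pow, MonoidHom.one_apply]
  have hord : orderOf g = Nat.card G := by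
    refine orderOf_eq_card_of_forall_mem_powers fun y => hg y
  have hev : Even (Nat.card G) := by
    rw [← neg_one_pow_eq_one_iff_even (R := ℂ) (by norm_num), ← hfg, ← Units.val_pow_eq_pow_val,
      ← map_pow, pow_card_eq_one', map_one, Units.val_one]
  obtain ⟨k, rfl⟩ := Submonoid.mem_powers_iff _ _ |>.mp (hg x)
  rw [map_pow, Units.val_pow_eq_pow_val, hfg, ← pow_mul]
  have hiff : g ^ (k * (Nat.card G / 2)) = 1 ↔ Even k := by
    rw [← orderOf_dvd_iff_pow_eq_one, hord]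
    obtain ⟨m, hm⟩ := hev
    have hm0 : 0 < m := by have := Nat.card_pos (α := G); omega
    rw [hm, show (m + m) / 2 = m by omega, ← two_mul, Nat.mul_dvd_mul_iff_right hm0]
    exact even_iff_two_dvd.symm
  by_cases hk : Even k
  · rw [if_pos (hiff.mpr hk), hk.neg_one_pow]
  · rw [if_neg (hiff.not.mpr hk), (Nat.not_even_iff_odd.mp hk).neg_one_pow]

theorem classInner_add_right' (φ ψ ψ' : G → ℂ) :
    Cfsg.classInner φ (ψ + ψ') = Cfsg.classInner φ ψ + Cfsg.classInner φ ψ' :=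
  Induced.Basic.classInner_add_right φ ψ ψ'

/-- The difference of the two constituents from a class function orthogonal to everything else. -/
theorem half_diff {F : G → ℂ} (hF : Cfsg.IsClassFunction G F) {χ ψ : Cfsg.IrrCharacter G}
    (hne : χ ≠ ψ) (hsum : Cfsg.classInner F ((χ : G → ℂ) + (ψ : G → ℂ)) = 0)
    (hrest : ∀ ξ : Cfsg.IrrCharacter G, ξ ≠ χ → ξ ≠ ψ → Cfsg.classInner F (ξ : G → ℂ) = 0)
    {m : ℂ} (hm : m ≠ 0) (hn : Cfsg.classInner F F = 2 / m) :
    ∃ d : ℂ, d * conj d = m ∧ (χ : G → ℂ) - (ψ : G → ℂ) = d • F := by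
  classical
  have := Fintype.ofFinite (Cfsg.IrrCharacter G)
  set a := Cfsg.classInner F (χ : G → ℂ)
  have hb : Cfsg.classInner F (ψ : G → ℂ) = -a := by
    rw [classInner_add_right'] at hsum
    exact eq_neg_of_add_eq_zero_right hsum
  have hexp : F = a • ((χ : G → ℂ) - (ψ : G → ℂ)) := by
    conv_lhs => rw [Characters.Complete.classFunction_eq_sum hF]
    rw [← Finset.sum_subset (Finset.subset_univ {χ, ψ}) fun ξ _ hξ => by
      simp only [Finset.mem_insert, Finset.mem_singleton, not_or] at hξ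
      rw [hrest ξ hξ.1 hξ.2, zero_smul], Finset.sum_pair hne, hb, smul_sub, neg_smul, sub_eq_add_neg]
  have hD : Cfsg.classInner ((χ : G → ℂ) - (ψ : G → ℂ)) ((χ : G → ℂ) - (ψ : G → ℂ)) = 2 := by
    simp only [Induced.Basic.classInner_sub_left, Induced.Basic.classInner_sub_right,
      Characters.Basic.classInner_self_irr, Characters.Basic.classInner_irr_of_ne hne,
      Characters.Basic.classInner_irr_of_ne hne.symm]
    norm_num
  rw [hexp, Induced.Basic.classInner_smul_left, Induced.Basic.classInner_smul_right, hD] at hn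
  have ha : a * conj a = m⁻¹ := by linear_combination hn / 2
  have ha0 : a ≠ 0 := fun h => inv_ne_zero hm (by rw [← ha, h, zero_mul])
  refine ⟨a⁻¹, ?_, ?_⟩
  · rw [map_inv₀, ← mul_inv, ha, inv_inv]
  · conv_rhs => rw [hexp]
    rw [smul_smul, inv_mul_cancel₀ ha0, one_smul]

end General

variable {F : Type*} [Field F] [Fintype F] [DecidableEq F]

local notation "SL" => Matrix.SpecialLinearGroup (Fin 2) F

variable {C : Subgroup (Matrix.SpecialLinearGroup (Fin 2) F)}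

theorem exists_eps (hodd : Odd (Fintype.card F)) : ∃ ε : MulChar F ℂ, ε ^ 2 = 1 ∧ ε ≠ 1 := by
  have h := card_mulChar_sq_one (F := F)
  rw [card_rtT_of_odd hodd] at h
  by_contra hall
  push Not at hall
  have hsub : Subsingleton {α : MulChar F ℂ // α * α = 1} :=
    ⟨fun a b => Subtype.ext ((hall a ((pow_two a.1).trans a.2)).trans
      (hall b ((pow_two b.1).trans b.2)).symm)⟩
  have := Finite.card_le_one_iff_subsingleton.mpr hsub
  omega

theorem exists_theta0 (hC : IsCyclic C) (hcard : Nat.card C = Fintype.card F + 1)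
    (hodd : Odd (Fintype.card F)) : ∃ θ : C →* ℂˣ, θ ^ 2 = 1 ∧ θ ≠ 1 := by
  have h := card_homC_sq_one hC hcard
  rw [card_rtT_of_odd hodd] at h
  by_contra hall
  push Not at hall
  have hsub : Subsingleton {θ : C →* ℂˣ // θ * θ = 1} :=
    ⟨fun a b => Subtype.ext ((hall a ((pow_two a.1).trans a.2)).trans
      (hall b ((pow_two b.1).trans b.2)).symm)⟩
  have := Finite.card_le_one_iff_subsingleton.mpr hsub
  omega

theorem mulChar_sq_one_apply {ε : MulChar F ℂ} (hε : ε ^ 2 = 1) (a : Fˣ) : ε a * ε a = 1 := by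
  rw [← MulChar.mul_apply, ← pow_two, hε, MulChar.one_apply_coe]

/-- The quadratic character as a square test. -/
theorem eps_apply {ε : MulChar F ℂ} (hε : ε ^ 2 = 1) (hε1 : ε ≠ 1) (hodd : Odd (Fintype.card F))
    {a : F} (ha : a ≠ 0) : (IsSquare a → ε a = 1) ∧ (¬ IsSquare a → ε a = -1) := by
  have h2 : (2 : F) ≠ 0 := Cfsg.Agent.Lib.Linear.two_ne_zero_of_odd_card hodd
  have hch : ringChar F ≠ 2 := fun h => h2 (by
    have : CharP F 2 := ringChar.of_eq h
    exact CharTwo.two_eq_zero)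
  let f : Fˣ →* ℂˣ := ε.toUnitHom
  have hf : ∀ x, f x * f x = 1 := fun x => Units.ext (by
    rw [Units.val_mul, MulChar.coe_toUnitHom, Units.val_one]; exact mulChar_sq_one_apply hε x)
  have hf1 : f ≠ 1 := fun e => hε1 (MulChar.ext fun x => by
    rw [MulChar.one_apply_coe, ← MulChar.coe_toUnitHom]
    show (f x : ℂ) = 1
    rw [e]; rfl)
  have key := hom_sq_one_apply hf hf1 (Units.mk0 a ha)
  rw [MulChar.coe_toUnitHom, Units.val_mk0] at key
  have hn : Nat.card Fˣ / 2 = Fintype.card F / 2 := by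
    rw [Nat.card_units, Nat.card_eq_fintype_card]
    obtain ⟨k, hk⟩ := hodd
    omega
  have hiff : Units.mk0 a ha ^ (Nat.card Fˣ / 2) = 1 ↔ IsSquare a := by
    rw [FiniteField.isSquare_iff hch ha, hn, Units.ext_iff, Units.val_pow_eq_pow_val, Units.val_mk0,
      Units.val_one]
  exact ⟨fun h => by rw [key, if_pos (hiff.mpr h)], fun h => by rw [key, if_neg (hiff.not.mpr h)]⟩

theorem eps_neg_one {ε : MulChar F ℂ} (hε : ε ^ 2 = 1) (hε1 : ε ≠ 1) (hodd : Odd (Fintype.card F)) :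
    ε (-1 : F) = (-1 : ℂ) ^ ((Fintype.card F - 1) / 2) := by
  obtain ⟨h1, h2⟩ := eps_apply hε hε1 hodd (a := (-1 : F)) (neg_ne_zero.mpr one_ne_zero)
  have h : IsSquare (-1 : F) ↔ Even ((Fintype.card F - 1) / 2) := by
    rw [FiniteField.isSquare_neg_one_iff, Nat.even_iff]
    obtain ⟨k, hk⟩ := hodd
    omega
  by_cases he : Even ((Fintype.card F - 1) / 2)
  · rw [h1 (h.mpr he), he.neg_one_pow]
  · rw [h2 (h.not.mpr he), (Nat.not_even_iff_odd.mp he).neg_one_pow]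

theorem homC_sq_one_apply {θ : C →* ℂˣ} (hC : IsCyclic C) (hcard : Nat.card C = Fintype.card F + 1)
    (hθ : θ ^ 2 = 1) (hθ1 : θ ≠ 1) (c : C) :
    (θ c : ℂ) = if ((c : SL) ^ ((Fintype.card F + 1) / 2) = 1) then 1 else -1 := by
  haveI := hC
  have := Fintype.ofFinite C
  have h2 : ∀ x, θ x * θ x = 1 := fun x => DFunLike.congr_fun ((pow_two θ).symm.trans hθ) x
  rw [hom_sq_one_apply h2 hθ1 c, hcard]
  by_cases h : c ^ ((Fintype.card F + 1) / 2) = 1
  · rw [if_pos h, if_pos (by rw [← SubmonoidClass.coe_pow, h]; rfl)]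
  · rw [if_neg h, if_neg]
    exact fun e => h (Subtype.ext (by simpa using e))

theorem theta0_neg_one {θ : C →* ℂˣ} (hC : IsCyclic C) (hcard : Nat.card C = Fintype.card F + 1)
    (hθ : θ ^ 2 = 1) (hθ1 : θ ≠ 1) (hodd : Odd (Fintype.card F)) {ε : MulChar F ℂ} (hε : ε ^ 2 = 1)
    (hε1 : ε ≠ 1) :
    (θ (scC hC hcard ⟨-1, rt_neg_one⟩) : ℂ) = -ε (-1 : F) := by
  have h2 : (2 : F) ≠ 0 := Cfsg.Agent.Lib.Linear.two_ne_zero_of_odd_card hodd
  rw [homC_sq_one_apply hC hcard hθ hθ1, eps_neg_one hε hε1 hodd]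
  obtain ⟨k, hk⟩ := hodd
  rw [show (Fintype.card F - 1) / 2 = k by omega, show (Fintype.card F + 1) / 2 = k + 1 by omega]
  have hn : ((scC hC hcard ⟨-1, rt_neg_one⟩ : C) : SL) = negOne := nu_neg_one_zero
  rw [hn]
  rcases Nat.even_or_odd k with he | ho
  · rw [he.neg_one_pow, if_neg]
    obtain ⟨m, rfl⟩ := he
    rw [pow_succ, ← two_mul, pow_mul, pow_two, negOne_sq, one_pow, one_mul]
    exact negOne_ne_one h2
  · rw [ho.neg_one_pow, if_pos, neg_neg]
    obtain ⟨m, rfl⟩ := ho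
    rw [show 2 * m + 1 + 1 = 2 * (m + 1) by omega, pow_mul, pow_two, negOne_sq, one_pow]

/-- The antisymmetric class function on the non-scalar, non-regular classes. -/
noncomputable def halfFun (ε : MulChar F ℂ) (s : ℂ) (g : Matrix.SpecialLinearGroup (Fin 2) F) : ℂ :=
  if slTr g ^ 2 = 4 then
    (if slTr g = 2 then 1 else s) * (if g.1 0 1 ≠ 0 then ε (g.1 0 1) else ε (-g.1 1 0))
  else 0

theorem halfFun_conj_nu {ε : MulChar F ℂ} (hε : ε ^ 2 = 1) (h2 : (2 : F) ≠ 0) (s : ℂ) (z : RtT F)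
    {x : F} (hx : x ≠ 0) (P : SL) :
    halfFun ε s (P * nu z.1 z.2 x * P⁻¹) = (if z.1 = 1 then 1 else s) * ε x := by
  have ht : slTr (P * nu z.1 z.2 x * P⁻¹) = 2 * z.1 := by rw [slTr_conj, slTr_nu]
  have e01 : (P * nu z.1 z.2 x * P⁻¹).1 0 1 = x * (P.1 0 0 * P.1 0 0) := by
    rw [mul_apply', mul_apply', mul_apply', inv_apply']
    simp
    ring
  have e10 : (P * nu z.1 z.2 x * P⁻¹).1 1 0 = -(x * (P.1 1 0 * P.1 1 0)) := by
    rw [mul_apply', mul_apply', mul_apply', inv_apply']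
    simp
    ring
  have hsq : ∀ y : F, y ≠ 0 → ε (x * (y * y)) = ε x := fun y hy => by
    rw [map_mul, map_mul, show ε y * ε y = 1 from mulChar_sq_one_apply hε (Units.mk0 y hy), mul_one]
  rw [halfFun, if_pos (by rw [ht]; have hz : z.1 * z.1 = 1 := z.2; linear_combination 4 * hz), ht,
    if_congr (mul_eq_left₀ h2) rfl rfl, e01, e10, neg_neg]
  congr 1
  by_cases h0 : P.1 0 0 = 0
  · have h1 : P.1 1 0 ≠ 0 := fun h1 => by
      have := det_eq P
      rw [h0, h1] at this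
      simp at this
    rw [if_neg (by simp [h0]), hsq _ h1]
  · rw [if_pos (mul_ne_zero hx (mul_ne_zero h0 h0)), hsq _ h0]

theorem halfFun_nu {ε : MulChar F ℂ} (hε : ε ^ 2 = 1) (h2 : (2 : F) ≠ 0) (s : ℂ) (z : RtT F)
    {x : F} (hx : x ≠ 0) : halfFun ε s (nu z.1 z.2 x) = (if z.1 = 1 then 1 else s) * ε x := by
  have := halfFun_conj_nu hε h2 s z hx 1
  simpa using this

theorem halfFun_sc (ε : MulChar F ℂ) (s : ℂ) (z : RtT F) : halfFun ε s (sc z) = 0 := by
  have : ε (0 : F) = 0 := MulChar.map_nonunit ε not_isUnit_zero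
  simp [halfFun, sc, this]

theorem halfFun_regular (ε : MulChar F ℂ) (s : ℂ) {g : SL} (hg : Regular g) :
    halfFun ε s g = 0 := if_neg hg

theorem classFun_halfFun {ε : MulChar F ℂ} (hε : ε ^ 2 = 1) (h2 : (2 : F) ≠ 0) (s : ℂ) :
    Cfsg.IsClassFunction SL (halfFun ε s) := by
  intro g P
  by_cases hr : Regular g
  · rw [halfFun_regular ε s (hr.conj P), halfFun_regular ε s hr]
  · by_cases hn : NonScalar g
    · obtain ⟨z, hz, x, Q, hx, rfl⟩ := exists_conj_nu hn (not_not.mp hr)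
      rw [show P * (Q * nu z hz x * Q⁻¹) * P⁻¹ = (P * Q) * nu z hz x * (P * Q)⁻¹ by group,
        halfFun_conj_nu hε h2 s ⟨z, hz⟩ hx, halfFun_conj_nu hε h2 s ⟨z, hz⟩ hx]
    · obtain ⟨z, hz, rfl⟩ := scalar_eq_nu hn
      rw [conj_nu_zero]

/-- The trace-four functions pair to zero with functions constant along `nu z ·`. -/
theorem inner_halfFun_sym {ε : MulChar F ℂ} (hε : ε ^ 2 = 1) (hε1 : ε ≠ 1) (h2 : (2 : F) ≠ 0) (s : ℂ)
    {φ : SL → ℂ} (hφ : Cfsg.IsClassFunction SL φ) (v : RtT F → ℂ)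
    (hv : ∀ (z : RtT F) (x : F), x ≠ 0 → φ (nu z.1 z.2 x) = v z) :
    Cfsg.classInner (halfFun ε s) φ = 0 := by
  obtain ⟨C, hC, hcard⟩ := exists_C (F := F)
  have hP : Cfsg.IsClassFunction SL (fun g => halfFun ε s g * conj (φ g)) := fun g h => by
    simp only [classFun_halfFun hε h2 s g h, hφ g h]
  rw [Cfsg.classInner, sum_univ hC hcard hP]
  have hsum : ∑ x ∈ Finset.univ.erase (0 : F), ε x = 0 := by
    rw [Finset.sum_erase _ (MulChar.map_nonunit ε not_isUnit_zero)]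
    exact MulChar.sum_eq_zero_of_ne_one hε1
  have e1 : ∀ z : RtT F, halfFun ε s (sc z) * conj (φ (sc z)) = 0 := fun z => by
    rw [halfFun_sc, zero_mul]
  have e2 : ∀ z : RtT F, ∑ x ∈ Finset.univ.erase (0 : F),
      halfFun ε s (nu z.1 z.2 x) * conj (φ (nu z.1 z.2 x)) = 0 := by
    intro z
    rw [Finset.sum_congr rfl fun x hx => by
      rw [halfFun_nu hε h2 s z (Finset.mem_erase.mp hx).1, hv z x (Finset.mem_erase.mp hx).1],
      ← Finset.sum_mul, ← Finset.mul_sum, hsum, mul_zero, zero_mul]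
  have e3 : ∀ a ∈ aNS F, halfFun ε s (dg a) * conj (φ (dg a)) = 0 := fun a ha => by
    rw [halfFun_regular _ _ ((dg_regular_iff a).mpr (mem_aNS.mp ha)), zero_mul]
  have e4 : ∀ c ∈ cNS C, halfFun ε s c * conj (φ c) = 0 := fun c hc => by
    rw [halfFun_regular _ _ (C_regular hC hcard (mem_cNS.mp hc).1 (mem_cNS.mp hc).2).1, zero_mul]
  rw [Finset.sum_congr rfl fun z _ => e1 z, Finset.sum_congr rfl fun z _ => e2 z,
    Finset.sum_congr rfl e3, Finset.sum_congr rfl e4]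
  simp

theorem inner_halfFun_self {ε : MulChar F ℂ} (hε : ε ^ 2 = 1) (hodd : Odd (Fintype.card F)) {s : ℂ}
    (hs : s = 1 ∨ s = -1) :
    Cfsg.classInner (halfFun ε s) (halfFun ε s) = 2 / (Fintype.card F : ℂ) := by
  have h2 : (2 : F) ≠ 0 := Cfsg.Agent.Lib.Linear.two_ne_zero_of_odd_card hodd
  obtain ⟨C, hC, hcard⟩ := exists_C (F := F)
  have hcl := classFun_halfFun hε h2 s
  have hP : Cfsg.IsClassFunction SL (fun g => halfFun ε s g * conj (halfFun ε s g)) := fun g h => by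
    simp only [hcl g h]
  rw [Cfsg.classInner, sum_univ hC hcard hP]
  have e2 : ∀ z : RtT F, ∑ x ∈ Finset.univ.erase (0 : F),
      halfFun ε s (nu z.1 z.2 x) * conj (halfFun ε s (nu z.1 z.2 x)) =
      (Fintype.card F : ℂ) - 1 := by
    intro z
    rw [Finset.sum_congr rfl (g := fun _ => (1 : ℂ)) fun x hx => ?_, Finset.sum_const,
      Finset.card_erase_of_mem (Finset.mem_univ _), Finset.card_univ, nsmul_eq_mul, mul_one,
      Nat.cast_sub Fintype.card_pos, Nat.cast_one]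
    have hx0 := (Finset.mem_erase.mp hx).1
    rw [halfFun_nu hε h2 s z hx0]
    have hεx := mulChar_sq_one_apply hε (Units.mk0 x hx0)
    rw [Units.val_mk0] at hεx
    rcases mul_self_eq_one_iff.mp hεx with e | e <;> rcases hs with rfl | rfl <;>
      split_ifs <;> simp [e]
  rw [Finset.sum_congr rfl fun z _ => e2 z,
    Finset.sum_eq_zero fun z _ => (by rw [halfFun_sc, zero_mul] :
      halfFun ε s (sc z) * conj (halfFun ε s (sc z)) = 0),
    Finset.sum_eq_zero fun a ha => (by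
      rw [halfFun_regular _ _ ((dg_regular_iff a).mpr (mem_aNS.mp ha)), zero_mul] :
      halfFun ε s (dg a) * conj (halfFun ε s (dg a)) = 0),
    Finset.sum_eq_zero fun c hc => (by
      rw [halfFun_regular _ _ (C_regular hC hcard (mem_cNS.mp hc).1 (mem_cNS.mp hc).2).1, zero_mul] :
      halfFun ε s c * conj (halfFun ε s c) = 0),
    Finset.sum_const, Finset.card_univ, card_rtT_of_odd hodd, card_SL_cast, nsmul_eq_mul]
  have h1 : (Fintype.card F : ℂ) ≠ 0 := Nat.cast_ne_zero.mpr Fintype.card_ne_zero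
  have hq : (Fintype.card F : ℂ) * ((Fintype.card F : ℂ) ^ 2 - 1) ≠ 0 := by
    rw [← card_SL_cast]; exact Induced.Basic.natCard_ne_zero
  rw [inv_mul_eq_iff_eq_mul₀ hq]
  field_simp
  push_cast
  ring

/-- The data of the four half-degree characters. -/
structure Halves (hC : IsCyclic C) (hcard : Nat.card C = Fintype.card F + 1) (ε : MulChar F ℂ)
    (θ : C →* ℂˣ) where
  /-- the constituents -/
  p1 : Cfsg.IrrCharacter (Matrix.SpecialLinearGroup (Fin 2) F)
  /-- the constituents -/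
  p2 : Cfsg.IrrCharacter (Matrix.SpecialLinearGroup (Fin 2) F)
  /-- the constituents -/
  m1 : Cfsg.IrrCharacter (Matrix.SpecialLinearGroup (Fin 2) F)
  /-- the constituents -/
  m2 : Cfsg.IrrCharacter (Matrix.SpecialLinearGroup (Fin 2) F)
  eq_p : pi ε = (p1 : Matrix.SpecialLinearGroup (Fin 2) F → ℂ) + p2
  eq_m : dX hC hcard θ = (m1 : Matrix.SpecialLinearGroup (Fin 2) F → ℂ) + m2
  deg_p1 : 2 * (p1 : Matrix.SpecialLinearGroup (Fin 2) F → ℂ) 1 = (Fintype.card F : ℂ) + 1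
  deg_p2 : 2 * (p2 : Matrix.SpecialLinearGroup (Fin 2) F → ℂ) 1 = (Fintype.card F : ℂ) + 1
  deg_m1 : 2 * (m1 : Matrix.SpecialLinearGroup (Fin 2) F → ℂ) 1 = (Fintype.card F : ℂ) - 1
  deg_m2 : 2 * (m2 : Matrix.SpecialLinearGroup (Fin 2) F → ℂ) 1 = (Fintype.card F : ℂ) - 1
  ne_p : p1 ≠ p2
  ne_m : m1 ≠ m2
  ne_pm : p1 ≠ m1 ∧ p1 ≠ m2 ∧ p2 ≠ m1 ∧ p2 ≠ m2
  not_base : ∀ χ ∈ [p1, p2, m1, m2], ¬ IsBase hC hcard (χ : Matrix.SpecialLinearGroup (Fin 2) F → ℂ)
  all : ∀ χ : Cfsg.IrrCharacter (Matrix.SpecialLinearGroup (Fin 2) F),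
    IsBase hC hcard (χ : Matrix.SpecialLinearGroup (Fin 2) F → ℂ) ∨ χ = p1 ∨ χ = p2 ∨ χ = m1 ∨ χ = m2
  central_p : ∀ χ ∈ [p1, p2], ∀ g, (χ : Matrix.SpecialLinearGroup (Fin 2) F → ℂ) (negOne * g) =
    ε (-1 : F) * (χ : Matrix.SpecialLinearGroup (Fin 2) F → ℂ) g
  central_m : ∀ χ ∈ [m1, m2], ∀ g, (χ : Matrix.SpecialLinearGroup (Fin 2) F → ℂ) (negOne * g) =
    -ε (-1 : F) * (χ : Matrix.SpecialLinearGroup (Fin 2) F → ℂ) g

theorem inner_dX_base (hC : IsCyclic C) (hcard : Nat.card C = Fintype.card F + 1) {θ : C →* ℂˣ}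
    (hθ : θ ^ 2 = 1) (hθ1 : θ ≠ 1) {f : SL → ℂ} (hf : IsBase hC hcard f) :
    Cfsg.classInner (dX hC hcard θ) f = 0 := by
  classical
  rcases hf with rfl | rfl | ⟨α, _, rfl⟩ | ⟨η, hη, rfl⟩
  · rw [inner_dX_one, if_neg hθ1]
  · exact inner_dX_st hC hcard hθ1
  · exact inner_dX_pi hC hcard θ α
  · rw [inner_dX_dX, if_neg, if_neg, add_zero]
    · intro h
      apply hη
      have hh : η = θ := MonoidHom.ext fun c => by
        have h1 : θ c * η c = 1 := DFunLike.congr_fun h c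
        have h2 : θ c * θ c = 1 := DFunLike.congr_fun ((pow_two θ).symm.trans hθ) c
        exact mul_left_cancel (h1.trans h2.symm)
      rw [hh, hθ]
    · rintro rfl; exact hη hθ

theorem inner_pi_base (hC : IsCyclic C) (hcard : Nat.card C = Fintype.card F + 1) {ε : MulChar F ℂ}
    (hε : ε ^ 2 = 1) (hε1 : ε ≠ 1) {f : SL → ℂ} (hf : IsBase hC hcard f) :
    Cfsg.classInner (pi ε) f = 0 := by
  classical
  rcases hf with rfl | rfl | ⟨α, hα, rfl⟩ | ⟨η, hη, rfl⟩
  · rw [inner_pi_one, if_neg hε1]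
  · rw [inner_pi_st, if_neg hε1]
  · rw [inner_pi_pi, if_neg, if_neg, add_zero]
    · intro h
      have : α = ε := by
        have h2 : ε * ε = 1 := (pow_two ε).symm.trans hε
        exact mul_left_cancel (h.trans h2.symm)
      exact hα (this ▸ hε)
    · rintro rfl; exact hα hε
  · rw [← Induced.Basic.classInner_conj_symm, inner_dX_pi, map_zero]

theorem exists_halves (hC : IsCyclic C) (hcard : Nat.card C = Fintype.card F + 1)
    (hodd : Odd (Fintype.card F)) {ε : MulChar F ℂ} (hε : ε ^ 2 = 1) (hε1 : ε ≠ 1) {θ : C →* ℂˣ}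
    (hθ : θ ^ 2 = 1) (hθ1 : θ ≠ 1) : Nonempty (Halves hC hcard ε θ) := by
  classical
  have := Fintype.ofFinite (Cfsg.IrrCharacter SL)
  have hq := two_le_q (F := F)
  have hq3 : 3 ≤ Fintype.card F := by obtain ⟨k, hk⟩ := hodd; omega
  obtain ⟨χ₁, χ₂, a, b, h12, ha, hb, hP, ia, ib, -⟩ := exists_pair (isGen_pi ε)
    (by rw [inner_pi_pi, if_pos rfl, if_pos ((pow_two ε).symm.trans hε)]; norm_num)
  obtain ⟨χ₃, χ₄, a', b', h34, ha', hb', hX, ia', ib', hrest'⟩ := exists_pair (isGen_dX hC hcard θ)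
    (by rw [inner_dX_dX, if_pos rfl, if_pos ((pow_two θ).symm.trans hθ)]; norm_num)
  choose d hd hd0 using fun χ : Cfsg.IrrCharacter SL =>
    (Characters.Basic.exists_degree_pos χ).imp fun _ h => And.intro h.2 h.1
  have hnat : ∀ χ : Cfsg.IrrCharacter SL, ∃ m : ℕ, Cfsg.classInner (pi ε) (χ : SL → ℂ) = m :=
    fun χ => Characters.Basic.exists_classInner_nat (isCharacter_pi ε)
      (Characters.Basic.isCharacter_irr χ)
  have pos : ∀ (z : ℤ) (m : ℕ), z ^ 2 = 1 → (z : ℂ) = m → z = 1 := fun z m h1 h2 => by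
    have h3 : z = (m : ℤ) := Int.cast_injective (α := ℂ) (by rw [Int.cast_natCast]; exact h2)
    rcases sq_eq_one_iff.mp h1 with h | h
    · exact h
    · omega
  obtain ⟨m₁, hm₁⟩ := hnat χ₁
  obtain ⟨m₂, hm₂⟩ := hnat χ₂
  obtain rfl := pos a m₁ ha (ia.symm.trans hm₁)
  obtain rfl := pos b m₂ hb (ib.symm.trans hm₂)
  simp only [Int.cast_one, one_smul] at hP ia ib
  choose e he he1 heg using fun χ : Cfsg.IrrCharacter SL =>
    central_involution χ.2 (z := (negOne : SL)) (fun g => (negOne_central g).symm) negOne_sq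
  have hsumP : (d χ₁ : ℂ) + d χ₂ = (Fintype.card F : ℂ) + 1 := by
    rw [← hd, ← hd, ← pi_one ε, hP]; rfl
  have hm1 : (negOne : SL) = sc ⟨-1, rt_neg_one⟩ := nu_neg_one_zero.symm
  have hεsq : ε (-1 : F) * ε (-1 : F) = 1 := by
    have := mulChar_sq_one_apply hε (-1 : Fˣ)
    simpa using this
  have hPneg : e χ₁ * d χ₁ + e χ₂ * d χ₂ = ((Fintype.card F : ℂ) + 1) * ε (-1 : F) := by
    have h : pi ε (negOne : SL) = ((Fintype.card F : ℂ) + 1) * ε (-1 : F) := by rw [hm1, pi_sc]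
    rw [← h, hP, Pi.add_apply, he1, he1, hd, hd]
  have hd12 : e χ₁ = ε (-1 : F) ∧ e χ₂ = ε (-1 : F) := by
    have n1 : (d χ₁ : ℂ) ≠ 0 := Nat.cast_ne_zero.mpr (hd0 χ₁).ne'
    have n2 : (d χ₂ : ℂ) ≠ 0 := Nat.cast_ne_zero.mpr (hd0 χ₂).ne'
    have hs : ∀ χ, e χ = ε (-1 : F) ∨ e χ = -ε (-1 : F) := fun χ =>
      mul_self_eq_mul_self_iff.mp ((he χ).trans hεsq.symm)
    have hne0 : ε (-1 : F) ≠ 0 := fun h => by simp [h] at hεsq
    rw [← hsumP] at hPneg
    rcases hs χ₁ with h1 | h1 <;> rcases hs χ₂ with h2 | h2 <;> rw [h1, h2] at hPneg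
    · exact ⟨h1, h2⟩
    · exact absurd ((mul_eq_zero.mp (by linear_combination -hPneg / 2 : ε (-1 : F) * (d χ₂ : ℂ) = 0)
        ).resolve_left hne0) n2
    · exact absurd ((mul_eq_zero.mp (by linear_combination -hPneg / 2 : ε (-1 : F) * (d χ₁ : ℂ) = 0)
        ).resolve_left hne0) n1
    · exact absurd ((mul_eq_zero.mp (by push_cast; linear_combination -hPneg / 2 :
        ε (-1 : F) * ((d χ₁ + d χ₂ : ℕ) : ℂ) = 0)).resolve_left hne0)
        (Nat.cast_ne_zero.mpr (by have := hd0 χ₁; omega))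
  have hne : ∀ χ, χ = χ₁ ∨ χ = χ₂ → χ ≠ χ₃ ∧ χ ≠ χ₄ := by
    intro χ hχ
    by_contra hcon
    have hnz : Cfsg.classInner (dX hC hcard θ) (χ : SL → ℂ) ≠ 0 := by
      have hor : χ = χ₃ ∨ χ = χ₄ := by tauto
      rcases hor with rfl | rfl
      · rw [ia']; exact Int.cast_ne_zero.mpr fun h => by simp [h] at ha'
      · rw [ib']; exact Int.cast_ne_zero.mpr fun h => by simp [h] at hb'
    have h0 : Cfsg.classInner (dX hC hcard θ) (χ₁ : SL → ℂ) +
        Cfsg.classInner (dX hC hcard θ) (χ₂ : SL → ℂ) = 0 := by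
      rw [← classInner_add_right', ← hP, inner_dX_pi]
    have hboth : ∀ ξ, ξ = χ₁ ∨ ξ = χ₂ → Cfsg.classInner (dX hC hcard θ) (ξ : SL → ℂ) ≠ 0 := by
      intro ξ hξ h
      rcases hξ with rfl | rfl <;> rw [h] at h0 <;> rcases hχ with rfl | rfl <;>
        simp_all
    have hmem : ∀ ξ, ξ = χ₁ ∨ ξ = χ₂ → ξ = χ₃ ∨ ξ = χ₄ := fun ξ hξ => by
      by_contra h
      exact hboth ξ hξ (hrest' ξ (fun e => h (Or.inl e)) fun e => h (Or.inr e))
    have hcent : ∀ ξ, ξ = χ₃ ∨ ξ = χ₄ → e ξ = ε (-1 : F) := by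
      intro ξ hξ
      have : ξ = χ₁ ∨ ξ = χ₂ := by
        rcases hmem χ₁ (Or.inl rfl) with h1 | h1 <;> rcases hmem χ₂ (Or.inr rfl) with h2 | h2
        · exact absurd (h1.trans h2.symm) h12
        · rcases hξ with rfl | rfl
          exacts [Or.inl h1.symm, Or.inr h2.symm]
        · rcases hξ with rfl | rfl
          exacts [Or.inr h2.symm, Or.inl h1.symm]
        · exact absurd (h1.trans h2.symm) h12
      rcases this with rfl | rfl
      exacts [hd12.1, hd12.2]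
    have h1 : dX hC hcard θ (negOne : SL) = -ε (-1 : F) * ((Fintype.card F : ℂ) - 1) := by
      rw [hm1, dX_sc, theta0_neg_one hC hcard hθ hθ1 hodd hε hε1]; ring
    have h2 : dX hC hcard θ (negOne : SL) = ε (-1 : F) * ((Fintype.card F : ℂ) - 1) := by
      rw [← dX_one hC hcard θ, hX]
      simp only [Pi.add_apply, Pi.smul_apply, smul_eq_mul, he1, hcent χ₃ (Or.inl rfl),
        hcent χ₄ (Or.inr rfl)]
      ring
    have : (ε (-1 : F) * ε (-1 : F)) * ((Fintype.card F : ℂ) - 1) = 0 := by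
      linear_combination (ε (-1 : F) / 2) * (h1.symm.trans h2) * (-1)
    rw [hεsq, one_mul, sub_eq_zero] at this
    have : Fintype.card F = 1 := by exact_mod_cast this
    omega
  obtain ⟨n13, n14⟩ := hne χ₁ (Or.inl rfl)
  obtain ⟨n23, n24⟩ := hne χ₂ (Or.inr rfl)
  have hnb : ∀ χ ∈ [χ₁, χ₂, χ₃, χ₄], ¬ IsBase hC hcard (χ : SL → ℂ) := by
    intro χ hχ hb
    simp only [List.mem_cons, List.not_mem_nil, or_false] at hχ
    rcases hχ with rfl | rfl | rfl | rfl
    · rw [inner_pi_base hC hcard hε hε1 hb] at ia; exact zero_ne_one ia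
    · rw [inner_pi_base hC hcard hε hε1 hb] at ib; exact zero_ne_one ib
    · rw [inner_dX_base hC hcard hθ hθ1 hb] at ia'
      exact Int.cast_ne_zero.mpr (fun h => by simp [h] at ha') ia'.symm
    · rw [inner_dX_base hC hcard hθ hθ1 hb] at ib'
      exact Int.cast_ne_zero.mpr (fun h => by simp [h] at hb') ib'.symm
  let S : Finset (Cfsg.IrrCharacter SL) := {χ₁, χ₂, χ₃, χ₄}
  have hS : S ⊆ rest hC hcard := fun χ hχ => Finset.mem_filter.mpr
    ⟨Finset.mem_univ _, hnb χ (by simpa [S] using hχ)⟩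
  have hsumS : ∑ χ ∈ S, d χ ^ 2 = d χ₁ ^ 2 + d χ₂ ^ 2 + d χ₃ ^ 2 + d χ₄ ^ 2 := by
    simp only [S]
    rw [Finset.sum_insert (by simp [h12, n13, n14]), Finset.sum_insert (by simp [n23, n24]),
      Finset.sum_pair h34]
    ring
  obtain ⟨hle, heq⟩ := sum_sq_le hC hcard hS d hd hd0
  rw [hsumS, card_rtT_of_odd hodd, show (2 - 1) * (Fintype.card F ^ 2 + 1) = Fintype.card F ^ 2 + 1 by
    simp] at hle heq
  have hXd : (a' : ℂ) * d χ₃ + (b' : ℂ) * d χ₄ = (Fintype.card F : ℂ) - 1 := by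
    rw [← dX_one hC hcard θ, hX, Pi.add_apply, Pi.smul_apply, Pi.smul_apply, hd, hd]; rfl
  have hs1 : (d χ₁ : ℤ) + d χ₂ = (Fintype.card F : ℤ) + 1 := by exact_mod_cast hsumP
  have hs2 : a' * (d χ₃ : ℤ) + b' * (d χ₄ : ℤ) = (Fintype.card F : ℤ) - 1 := by exact_mod_cast hXd
  have hle' : (d χ₁ : ℤ) ^ 2 + (d χ₂ : ℤ) ^ 2 + (d χ₃ : ℤ) ^ 2 + (d χ₄ : ℤ) ^ 2 ≤
      (Fintype.card F : ℤ) ^ 2 + 1 := by exact_mod_cast hle
  have hkey : ((d χ₁ : ℤ) - d χ₂) ^ 2 + (a' * d χ₃ - b' * d χ₄) ^ 2 ≤ 0 := by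
    linear_combination 2 * hle' + ((d χ₁ : ℤ) ^ 2 * 0) + (2 * (d χ₃ : ℤ) ^ 2) * ha' +
      (2 * (d χ₄ : ℤ) ^ 2) * hb' - ((d χ₁ : ℤ) + d χ₂ + Fintype.card F + 1) * hs1 -
      (a' * d χ₃ + b' * d χ₄ + Fintype.card F - 1) * hs2
  have e12 : (d χ₁ : ℤ) = d χ₂ := by nlinarith
  have e34 : a' * (d χ₃ : ℤ) = b' * d χ₄ := by nlinarith
  have a1 : a' = 1 := by
    rcases sq_eq_one_iff.mp ha' with h | h
    · exact h
    · exfalso; subst h; omega
  subst a1
  have b1 : b' = 1 := by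
    rcases sq_eq_one_iff.mp hb' with h | h
    · exact h
    · exfalso; subst h; omega
  subst b1
  simp only [Int.cast_one, one_smul] at hX
  have hall := heq (by
    have : (Fintype.card F : ℤ) ^ 2 + 1 ≤
        (d χ₁ : ℤ) ^ 2 + (d χ₂ : ℤ) ^ 2 + (d χ₃ : ℤ) ^ 2 + (d χ₄ : ℤ) ^ 2 := by nlinarith
    exact_mod_cast this)
  have hcm : ∀ χ, χ = χ₃ ∨ χ = χ₄ → e χ = -ε (-1 : F) := by
    have h34' : (d χ₃ : ℂ) = d χ₄ := by exact_mod_cast (by linarith : (d χ₃ : ℤ) = d χ₄)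
    have h1 : e χ₃ * d χ₃ + e χ₄ * d χ₄ = -ε (-1 : F) * ((Fintype.card F : ℂ) - 1) := by
      have h : dX hC hcard θ (negOne : SL) = -ε (-1 : F) * ((Fintype.card F : ℂ) - 1) := by
        rw [hm1, dX_sc, theta0_neg_one hC hcard hθ hθ1 hodd hε hε1]; ring
      rw [← h, hX, Pi.add_apply, he1, he1, hd, hd]
    rw [← h34'] at h1
    rw [← h34', Int.cast_one, one_mul] at hXd
    have n3 : (d χ₃ : ℂ) ≠ 0 := Nat.cast_ne_zero.mpr (hd0 χ₃).ne'
    have hsum : e χ₃ + e χ₄ = -2 * ε (-1 : F) := by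
      apply mul_right_cancel₀ n3
      linear_combination h1 + ε (-1 : F) * hXd
    have hs : ∀ χ, e χ = ε (-1 : F) ∨ e χ = -ε (-1 : F) := fun χ =>
      mul_self_eq_mul_self_iff.mp ((he χ).trans hεsq.symm)
    have hne0 : ε (-1 : F) ≠ 0 := fun h => by simp [h] at hεsq
    rintro χ (rfl | rfl)
    · rcases hs χ with h | h
      · exfalso
        rcases hs χ₄ with h' | h' <;> rw [h, h'] at hsum <;> apply hne0
        · linear_combination hsum / 4
        · linear_combination hsum / 2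
      · exact h
    · rcases hs χ with h | h
      · exfalso
        rcases hs χ₃ with h' | h' <;> rw [h, h'] at hsum <;> apply hne0
        · linear_combination hsum / 4
        · linear_combination hsum / 2
      · exact h
  refine ⟨⟨χ₁, χ₂, χ₃, χ₄, hP, hX, ?_, ?_, ?_, ?_, h12, h34, ⟨n13, n14, n23, n24⟩, hnb, ?_, ?_, ?_⟩⟩
  · rw [hd]; exact_mod_cast (by omega : 2 * (d χ₁ : ℤ) = (Fintype.card F : ℤ) + 1)
  · rw [hd]; exact_mod_cast (by omega : 2 * (d χ₂ : ℤ) = (Fintype.card F : ℤ) + 1)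
  · rw [hd]; exact_mod_cast (by omega : 2 * (d χ₃ : ℤ) = (Fintype.card F : ℤ) - 1)
  · rw [hd]; exact_mod_cast (by omega : 2 * (d χ₄ : ℤ) = (Fintype.card F : ℤ) - 1)
  · intro χ
    by_cases hb : IsBase hC hcard (χ : SL → ℂ)
    · exact Or.inl hb
    · refine Or.inr ?_
      have : χ ∈ S := by rw [hall]; exact Finset.mem_filter.mpr ⟨Finset.mem_univ _, hb⟩
      simpa [S] using this
  · intro χ hχ g
    simp only [List.mem_cons, List.not_mem_nil, or_false] at hχ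
    rw [heg]
    rcases hχ with rfl | rfl
    · rw [hd12.1]
    · rw [hd12.2]
  · intro χ hχ g
    simp only [List.mem_cons, List.not_mem_nil, or_false] at hχ
    rw [heg, hcm χ hχ]

section Values

variable {hC : IsCyclic C} {hcard : Nat.card C = Fintype.card F + 1} {ε : MulChar F ℂ} {θ : C →* ℂˣ}

theorem Halves.inner_halfFun_other (H : Halves hC hcard ε θ) (hε : ε ^ 2 = 1) (hε1 : ε ≠ 1)
    (hodd : Odd (Fintype.card F)) (s : ℂ) (χ : Cfsg.IrrCharacter SL)
    (hχ : IsBase hC hcard (χ : SL → ℂ)) : Cfsg.classInner (halfFun ε s) (χ : SL → ℂ) = 0 := by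
  have h2 : (2 : F) ≠ 0 := Cfsg.Agent.Lib.Linear.two_ne_zero_of_odd_card hodd
  have hcl := Characters.Basic.isClassFunction_irr χ
  rcases hχ with h | h | ⟨α, _, h⟩ | ⟨η, _, h⟩ <;> rw [h] at hcl ⊢
  · exact inner_halfFun_sym hε hε1 h2 s hcl (fun _ => 1) (fun _ _ _ => rfl)
  · exact inner_halfFun_sym hε hε1 h2 s hcl (fun _ => 0) (fun z x hx => st_nu z hx)
  · exact inner_halfFun_sym hε hε1 h2 s hcl (fun z => α z.1) (fun z x hx => pi_nu α z hx)
  · exact inner_halfFun_sym hε hε1 h2 s hcl _ (fun z x hx => dX_nu hC hcard η z hx)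

theorem halfFun_negOne_mul (hε : ε ^ 2 = 1) (hodd : Odd (Fintype.card F)) {s : ℂ} (hs : s * s = 1)
    (g : SL) : halfFun ε s (negOne * g) = s * ε (-1 : F) * halfFun ε s g := by
  have h2 : (2 : F) ≠ 0 := Cfsg.Agent.Lib.Linear.two_ne_zero_of_odd_card hodd
  have ht : slTr ((negOne : SL) * g) = -slTr g := by simp [slTr, mul_apply']; ring
  have e01 : ((negOne : SL) * g).1 0 1 = -g.1 0 1 := by simp [mul_apply']
  have e10 : ((negOne : SL) * g).1 1 0 = -g.1 1 0 := by simp [mul_apply']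
  unfold halfFun
  rw [ht, neg_sq]
  by_cases h4 : slTr g ^ 2 = 4
  · rw [if_pos h4, if_pos h4, e01, e10, neg_neg]
    have hw : (if -slTr g = 2 then (1 : ℂ) else s) = s * (if slTr g = 2 then 1 else s) := by
      have : slTr g = 2 ∨ slTr g = -2 := sq_eq_sq_iff_eq_or_eq_neg.mp (by rw [h4]; norm_num)
      have h4' : (-2 : F) ≠ 2 := fun e => h2 (by
        have : (2 : F) * 2 = 0 := by linear_combination -e
        exact (mul_eq_zero.mp this).elim id id)
      rcases this with e | e <;> rw [e]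
      · rw [if_neg h4', if_pos rfl, mul_one]
      · rw [neg_neg, if_pos rfl, if_neg h4', hs]
    rw [hw]
    have hm : ∀ y : F, ε (-y) = ε (-1 : F) * ε y := fun y => by rw [← map_mul, neg_one_mul]
    have hεsq : ε (-1 : F) * ε (-1 : F) = 1 := by
      simpa using mulChar_sq_one_apply hε (-1 : Fˣ)
    simp only [ne_eq, neg_eq_zero]
    rw [hm (g.1 0 1), hm (g.1 1 0)]
    split_ifs <;> first
      | ring1
      | linear_combination (-(s * ε (g.1 1 0))) * hεsq
      | linear_combination (-(s * s * ε (g.1 1 0))) * hεsq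
  · rw [if_neg h4, if_neg h4, mul_zero]

/-- Pairing with a function of the opposite central sign. -/
theorem inner_halfFun_central (hε : ε ^ 2 = 1) (hodd : Odd (Fintype.card F)) {s : ℂ}
    (hs : s = 1 ∨ s = -1) {φ : SL → ℂ}
    (hφ : ∀ g, φ (negOne * g) = -(s * ε (-1 : F)) * φ g) :
    Cfsg.classInner (halfFun ε s) φ = 0 := by
  have hs' : s * s = 1 := by rcases hs with rfl | rfl <;> ring
  have hc : conj (s * ε (-1 : F)) = s * ε (-1 : F) := by
    rw [map_mul, show conj (ε (-1 : F)) = ε (-1 : F) by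
      simpa using mulChar_rtU_inv ε ⟨-1, rt_neg_one⟩]
    rcases hs with rfl | rfl <;> simp
  have hεsq : ε (-1 : F) * ε (-1 : F) = 1 := by simpa using mulChar_sq_one_apply hε (-1 : Fˣ)
  have h : Cfsg.classInner (halfFun ε s) φ = -Cfsg.classInner (halfFun ε s) φ := by
    unfold Cfsg.classInner
    rw [← mul_neg]
    congr 1
    rw [← Finset.sum_neg_distrib, ← Equiv.sum_comp (Equiv.mulLeft (negOne : SL))]
    refine Finset.sum_congr rfl fun g _ => ?_
    simp only [Equiv.coe_mulLeft, halfFun_negOne_mul hε hodd hs', hφ, map_neg, map_mul, neg_mul] at hc ⊢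
    rw [hc]
    linear_combination (-(halfFun ε s g * conj (φ g))) * hs' -
      (s * s * halfFun ε s g * conj (φ g)) * hεsq
  linear_combination h / 2

theorem Halves.diff_p (H : Halves hC hcard ε θ) (hε : ε ^ 2 = 1) (hε1 : ε ≠ 1)
    (hodd : Odd (Fintype.card F)) :
    ∃ d : ℂ, d ^ 2 = ε (-1 : F) * (Fintype.card F : ℂ) ∧
      (H.p1 : SL → ℂ) - (H.p2 : SL → ℂ) = d • halfFun ε 1 := by
  have h2 : (2 : F) ≠ 0 := Cfsg.Agent.Lib.Linear.two_ne_zero_of_odd_card hodd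
  have hq : (Fintype.card F : ℂ) ≠ 0 := Nat.cast_ne_zero.mpr Fintype.card_ne_zero
  obtain ⟨d, hd, hD⟩ := half_diff (classFun_halfFun hε h2 1) H.ne_p
    (by rw [← H.eq_p]; exact (inner_halfFun_sym hε hε1 h2 1 (classFun_pi ε) (fun z => ε z.1)
      (fun z x hx => pi_nu ε z hx)))
    (fun ξ h1 h2' => by
      rcases H.all ξ with h | h | h | h | h
      · exact H.inner_halfFun_other hε hε1 hodd 1 ξ h
      · exact absurd h h1
      · exact absurd h h2'
      all_goals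
        refine inner_halfFun_central hε hodd (Or.inl rfl) fun g => ?_
        rw [H.central_m ξ (by simp [h]) g, one_mul])
    hq (inner_halfFun_self hε hodd (Or.inl rfl))
  refine ⟨d, ?_, hD⟩
  have hu : (nu (1 : F) rt_one 1)⁻¹ = nu (1 : F) rt_one (-1) :=
    inv_eq_of_mul_eq_one_right (by apply slExt <;> simp [mul_apply', one_apply'])
  have e : ∀ g : SL, ((H.p1 : SL → ℂ) - (H.p2 : SL → ℂ)) g⁻¹ =
      conj (((H.p1 : SL → ℂ) - (H.p2 : SL → ℂ)) g) := fun g => by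
    simp only [Pi.sub_apply, map_sub, Characters.Basic.apply_inv (Characters.Basic.isCharacter_irr _)]
  have e1 := e (nu (1 : F) rt_one 1)
  rw [hu, hD] at e1
  simp only [Pi.smul_apply, smul_eq_mul, halfFun_nu hε h2 _ ⟨1, rt_one⟩ one_ne_zero,
    halfFun_nu hε h2 _ ⟨1, rt_one⟩ (neg_ne_zero.mpr one_ne_zero), if_true, one_mul, map_one,
    mul_one] at e1
  have hεsq : ε (-1 : F) * ε (-1 : F) = 1 := by simpa using mulChar_sq_one_apply hε (-1 : Fˣ)
  rw [← e1] at hd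
  linear_combination (ε (-1 : F)) * hd - d ^ 2 * hεsq

theorem Halves.diff_m (H : Halves hC hcard ε θ) (hε : ε ^ 2 = 1) (hε1 : ε ≠ 1)
    (hodd : Odd (Fintype.card F)) :
    ∃ d : ℂ, d ^ 2 = ε (-1 : F) * (Fintype.card F : ℂ) ∧
      (H.m1 : SL → ℂ) - (H.m2 : SL → ℂ) = d • halfFun ε (-1) := by
  have h2 : (2 : F) ≠ 0 := Cfsg.Agent.Lib.Linear.two_ne_zero_of_odd_card hodd
  have hq : (Fintype.card F : ℂ) ≠ 0 := Nat.cast_ne_zero.mpr Fintype.card_ne_zero
  obtain ⟨d, hd, hD⟩ := half_diff (classFun_halfFun hε h2 (-1)) H.ne_m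
    (by rw [← H.eq_m]; exact (inner_halfFun_sym hε hε1 h2 (-1) (classFun_dX hC hcard θ) _
      (fun z x hx => dX_nu hC hcard θ z hx)))
    (fun ξ h1 h2' => by
      rcases H.all ξ with h | h | h | h | h
      · exact H.inner_halfFun_other hε hε1 hodd _ ξ h
      · refine inner_halfFun_central hε hodd (Or.inr rfl) fun g => ?_
        rw [H.central_p ξ (by simp [h]) g]; ring
      · refine inner_halfFun_central hε hodd (Or.inr rfl) fun g => ?_
        rw [H.central_p ξ (by simp [h]) g]; ring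
      · exact absurd h h1
      · exact absurd h h2')
    hq (inner_halfFun_self hε hodd (Or.inr rfl))
  refine ⟨d, ?_, hD⟩
  have hu : (nu (1 : F) rt_one 1)⁻¹ = nu (1 : F) rt_one (-1) :=
    inv_eq_of_mul_eq_one_right (by apply slExt <;> simp [mul_apply', one_apply'])
  have e : ∀ g : SL, ((H.m1 : SL → ℂ) - (H.m2 : SL → ℂ)) g⁻¹ =
      conj (((H.m1 : SL → ℂ) - (H.m2 : SL → ℂ)) g) := fun g => by
    simp only [Pi.sub_apply, map_sub, Characters.Basic.apply_inv (Characters.Basic.isCharacter_irr _)]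
  have e1 := e (nu (1 : F) rt_one 1)
  rw [hu, hD] at e1
  simp only [Pi.smul_apply, smul_eq_mul, halfFun_nu hε h2 _ ⟨1, rt_one⟩ one_ne_zero,
    halfFun_nu hε h2 _ ⟨1, rt_one⟩ (neg_ne_zero.mpr one_ne_zero), if_true, one_mul, map_one,
    mul_one] at e1
  have hεsq : ε (-1 : F) * ε (-1 : F) = 1 := by simpa using mulChar_sq_one_apply hε (-1 : Fˣ)
  rw [← e1] at hd
  linear_combination (ε (-1 : F)) * hd - d ^ 2 * hεsq

end Values

end Cfsg.Agent.Lib.SL2Chars49
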