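import Mathlib
import Cfsg.Agent.Lib.SL2Chars49.Halves

/-!
Classification of irreducible characters of SL₂(q) by degree, and coordinate forms of class types.
-/

set_option autoImplicit false
set_option linter.unusedSectionVars false

namespace Cfsg.Agent.Lib.SL2Chars49

open Cfsg.Agent.Lib.PSLTwo.Sylow
open Cfsg.Agent.Lib.SL2Tori (Regular)

variable {F : Type*} [Field F] [Fintype F] [DecidableEq F]

local notation "SL" => Matrix.SpecialLinearGroup (Fin 2) F
local notation "M2" => Matrix (Fin 2) (Fin 2) F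

variable {C : Subgroup (Matrix.SpecialLinearGroup (Fin 2) F)}

omit [Fintype F] [DecidableEq F] in
theorem exists_eq_dg {g : SL} (h01 : g.1 0 1 = 0) (h10 : g.1 1 0 = 0) :
    ∃ a : Fˣ, g = dg a ∧ (a : F) = g.1 0 0 := by
  have hd := det_eq g
  rw [h01, zero_mul, sub_zero] at hd
  exact ⟨⟨g.1 0 0, g.1 1 1, hd, by rw [mul_comm]; exact hd⟩, slExt rfl h01 h10 rfl, rfl⟩

omit [Fintype F] [DecidableEq F] in
theorem exists_eq_nu {g : SL} (h10 : g.1 1 0 = 0) (h : g.1 0 0 = g.1 1 1) :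
    ∃ z : RtT F, g = nu z.1 z.2 (g.1 0 1) ∧ z.1 = g.1 0 0 := by
  have hd := det_eq g
  rw [h10, mul_zero, sub_zero, ← h] at hd
  exact ⟨⟨g.1 0 0, hd⟩, slExt rfl rfl h10 h.symm, rfl⟩

theorem exists_conj_of_noEigen (hC : IsCyclic C) (hcard : Nat.card C = Fintype.card F + 1) {g : SL}
    (h : ∀ (c : F) (v : Fin 2 → F), v ≠ 0 → (g : M2).mulVec v ≠ c • v) :
    ∃ (c : C) (P : SL), NonScalar (c : SL) ∧ P * (c : SL) * P⁻¹ = g := by
  have hs := (not_split_iff_noEigen g).mpr h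
  rcases class_cases hC hcard g with ⟨z, rfl⟩ | ⟨z, x, P, _, rfl⟩ | ⟨a, _, P, rfl⟩ | ⟨c, hc, P, e⟩
  · exact absurd (by rw [sc_eq_dg]; exact split_dg _) hs
  · refine absurd ⟨rtU z, ?_⟩ hs
    rw [slTr_conj, slTr_nu, rt_inv_unit, rtU_val]; ring
  · exact absurd ((Split.conj_iff _ _).mpr (split_dg a)) hs
  · exact ⟨⟨c, (mem_cNS.mp hc).1⟩, P, (mem_cNS.mp hc).2, e⟩

/-- The sum over the upper unitriangular group. -/
theorem sum_unip (φ : SL → ℂ) :
    (∑ g : SL, if (g : M2) 1 0 = 0 ∧ (g : M2) 0 0 = 1 ∧ (g : M2) 1 1 = 1 then φ g else 0) =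
      φ 1 + ∑ x ∈ Finset.univ.erase (0 : F), φ (nu 1 rt_one x) := by
  rw [← nu_one_zero, Finset.add_sum_erase _ (fun x => φ (nu 1 rt_one x)) (Finset.mem_univ 0),
    ← Finset.sum_filter]
  refine (Finset.sum_bij' (fun x _ => nu 1 rt_one x) (fun g _ => g.1 0 1) ?_ ?_ ?_ ?_ ?_).symm
  · intro x _; simp
  · intro g _; exact Finset.mem_univ _
  · intro x _; simp
  · intro g hg
    obtain ⟨h1, h2, h3⟩ := (Finset.mem_filter.mp hg).2
    exact slExt h2.symm rfl h1.symm h3.symm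
  · intro x _; rfl

/-- The characters of degree `(q + 1) / 2`. -/
def IsHalfP (f : Matrix.SpecialLinearGroup (Fin 2) F → ℂ) : Prop :=
  ∃ (ε : MulChar F ℂ) (d : ℂ), ε ^ 2 = 1 ∧ ε ≠ 1 ∧ d ^ 2 = ε (-1 : F) * (Fintype.card F : ℂ) ∧
    f = fun g => (pi ε g + d * halfFun ε 1 g) / 2

/-- The characters of degree `(q - 1) / 2`. -/
def IsHalfM (hC : IsCyclic C) (hcard : Nat.card C = Fintype.card F + 1)
    (f : Matrix.SpecialLinearGroup (Fin 2) F → ℂ) : Prop :=
  ∃ (ε : MulChar F ℂ) (θ : C →* ℂˣ) (d : ℂ), ε ^ 2 = 1 ∧ ε ≠ 1 ∧ θ ^ 2 = 1 ∧ θ ≠ 1 ∧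
    d ^ 2 = ε (-1 : F) * (Fintype.card F : ℂ) ∧
    f = fun g => (dX hC hcard θ g + d * halfFun ε (-1) g) / 2

theorem exists_data (hC : IsCyclic C) (hcard : Nat.card C = Fintype.card F + 1)
    (hodd : Odd (Fintype.card F)) :
    ∃ (ε : MulChar F ℂ) (θ : C →* ℂˣ), ε ^ 2 = 1 ∧ ε ≠ 1 ∧ θ ^ 2 = 1 ∧ θ ≠ 1 ∧
      Nonempty (Halves hC hcard ε θ) := by
  obtain ⟨ε, hε, hε1⟩ := exists_eps hodd
  obtain ⟨θ, hθ, hθ1⟩ := exists_theta0 hC hcard hodd
  exact ⟨ε, θ, hε, hε1, hθ, hθ1, exists_halves hC hcard hodd hε hε1 hθ hθ1⟩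

theorem Halves.isHalfP {hC : IsCyclic C} {hcard : Nat.card C = Fintype.card F + 1} {ε : MulChar F ℂ}
    {θ : C →* ℂˣ} (H : Halves hC hcard ε θ) (hε : ε ^ 2 = 1) (hε1 : ε ≠ 1)
    (hodd : Odd (Fintype.card F)) {χ : Cfsg.IrrCharacter SL} (h : χ = H.p1 ∨ χ = H.p2) :
    IsHalfP (χ : SL → ℂ) := by
  obtain ⟨d, hd, hD⟩ := H.diff_p hε hε1 hodd
  rcases h with rfl | rfl
  · refine ⟨ε, d, hε, hε1, hd, funext fun g => ?_⟩
    have h1 := congrFun H.eq_p g
    have h2 := congrFun hD g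
    simp only [Pi.add_apply, Pi.sub_apply, Pi.smul_apply, smul_eq_mul] at h1 h2
    linear_combination -h1 / 2 + h2 / 2
  · refine ⟨ε, -d, hε, hε1, by rw [neg_sq, hd], funext fun g => ?_⟩
    have h1 := congrFun H.eq_p g
    have h2 := congrFun hD g
    simp only [Pi.add_apply, Pi.sub_apply, Pi.smul_apply, smul_eq_mul] at h1 h2
    linear_combination -h1 / 2 - h2 / 2

theorem Halves.isHalfM {hC : IsCyclic C} {hcard : Nat.card C = Fintype.card F + 1} {ε : MulChar F ℂ}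
    {θ : C →* ℂˣ} (H : Halves hC hcard ε θ) (hε : ε ^ 2 = 1) (hε1 : ε ≠ 1) (hθ : θ ^ 2 = 1)
    (hθ1 : θ ≠ 1) (hodd : Odd (Fintype.card F)) {χ : Cfsg.IrrCharacter SL}
    (h : χ = H.m1 ∨ χ = H.m2) : IsHalfM hC hcard (χ : SL → ℂ) := by
  obtain ⟨d, hd, hD⟩ := H.diff_m hε hε1 hodd
  rcases h with rfl | rfl
  · refine ⟨ε, θ, d, hε, hε1, hθ, hθ1, hd, funext fun g => ?_⟩
    have h1 := congrFun H.eq_m g
    have h2 := congrFun hD g
    simp only [Pi.add_apply, Pi.sub_apply, Pi.smul_apply, smul_eq_mul] at h1 h2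
    linear_combination -h1 / 2 + h2 / 2
  · refine ⟨ε, θ, -d, hε, hε1, hθ, hθ1, by rw [neg_sq, hd], funext fun g => ?_⟩
    have h1 := congrFun H.eq_m g
    have h2 := congrFun hD g
    simp only [Pi.add_apply, Pi.sub_apply, Pi.smul_apply, smul_eq_mul] at h1 h2
    linear_combination -h1 / 2 - h2 / 2

/-- The classification, in either parity. -/
theorem classify (hC : IsCyclic C) (hcard : Nat.card C = Fintype.card F + 1) {χ : SL → ℂ}
    (hχ : Cfsg.IsIrrCharacter SL χ) :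
    IsBase hC hcard χ ∨ (Odd (Fintype.card F) ∧ (IsHalfP χ ∨ IsHalfM hC hcard χ)) := by
  by_cases hodd : Odd (Fintype.card F)
  · obtain ⟨ε, θ, hε, hε1, hθ, hθ1, ⟨H⟩⟩ := exists_data hC hcard hodd
    rcases H.all ⟨χ, hχ⟩ with h | h | h | h | h
    · exact Or.inl h
    · exact Or.inr ⟨hodd, Or.inl (H.isHalfP hε hε1 hodd (Or.inl h))⟩
    · exact Or.inr ⟨hodd, Or.inl (H.isHalfP hε hε1 hodd (Or.inr h))⟩
    · exact Or.inr ⟨hodd, Or.inr (H.isHalfM hε hε1 hθ hθ1 hodd (Or.inl h))⟩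
    · exact Or.inr ⟨hodd, Or.inr (H.isHalfM hε hε1 hθ hθ1 hodd (Or.inr h))⟩
  · have h0 : Fintype.card F % 2 = 0 := Nat.even_iff.mp (Nat.not_odd_iff_even.mp hodd)
    have : CharP F 2 := ringChar.of_eq (FiniteField.even_card_iff_char_two.mpr h0)
    exact Or.inl (isBase_of_card_rtT_eq_one hC hcard card_rtT_of_char_two hχ)

theorem IsBase.degree {hC : IsCyclic C} {hcard : Nat.card C = Fintype.card F + 1} {f : SL → ℂ}
    (h : IsBase hC hcard f) :
    (f 1 = 1 ∧ f = fun _ => 1) ∨ (f 1 = (Fintype.card F : ℂ) ∧ f = st) ∨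
      (f 1 = (Fintype.card F : ℂ) + 1 ∧ ∃ α : MulChar F ℂ, α ^ 2 ≠ 1 ∧ f = pi α) ∨
      (f 1 = (Fintype.card F : ℂ) - 1 ∧ ∃ θ : C →* ℂˣ, θ ^ 2 ≠ 1 ∧ f = dX hC hcard θ) := by
  rcases h with rfl | rfl | ⟨α, hα, rfl⟩ | ⟨θ, hθ, rfl⟩
  · exact Or.inl ⟨rfl, rfl⟩
  · exact Or.inr (Or.inl ⟨st_one, rfl⟩)
  · exact Or.inr (Or.inr (Or.inl ⟨pi_one α, α, hα, rfl⟩))
  · exact Or.inr (Or.inr (Or.inr ⟨dX_one hC hcard θ, θ, hθ, rfl⟩))

theorem halfFun_one (ε : MulChar F ℂ) (s : ℂ) : halfFun ε s (1 : SL) = 0 := by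
  rw [one_eq_sc, halfFun_sc]

theorem IsHalfP.degree {f : SL → ℂ} (h : IsHalfP f) : 2 * f 1 = (Fintype.card F : ℂ) + 1 := by
  obtain ⟨ε, d, -, -, -, rfl⟩ := h
  simp only [pi_one, halfFun_one]; ring

theorem IsHalfM.degree {hC : IsCyclic C} {hcard : Nat.card C = Fintype.card F + 1} {f : SL → ℂ}
    (h : IsHalfM hC hcard f) : 2 * f 1 = (Fintype.card F : ℂ) - 1 := by
  obtain ⟨ε, θ, d, -, -, -, -, -, rfl⟩ := h
  simp only [dX_one, halfFun_one]; ring

omit [DecidableEq F] in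
theorem halfP_cast (hodd : Odd (Fintype.card F)) :
    2 * (((Fintype.card F + 1) / 2 : ℕ) : ℂ) = (Fintype.card F : ℂ) + 1 := by
  obtain ⟨k, hk⟩ := hodd
  rw [hk, show (2 * k + 1 + 1) / 2 = k + 1 by omega]
  push_cast; ring

omit [DecidableEq F] in
theorem halfM_cast (hodd : Odd (Fintype.card F)) :
    2 * (((Fintype.card F - 1) / 2 : ℕ) : ℂ) = (Fintype.card F : ℂ) - 1 := by
  obtain ⟨k, hk⟩ := hodd
  rw [hk, show (2 * k + 1 - 1) / 2 = k by omega]
  push_cast; ring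

omit [DecidableEq F] in
/-- An integer linear identity in `q` read off in `ℕ`. -/
theorem q_eq_of {a b : ℕ} (h : (a : ℂ) * (Fintype.card F : ℂ) = (b : ℂ)) :
    a * Fintype.card F = b := by exact_mod_cast h

section Degrees

variable (hC : IsCyclic C) (hcard : Nat.card C = Fintype.card F + 1)
  {χ : Matrix.SpecialLinearGroup (Fin 2) F → ℂ}
  (hχ : Cfsg.IsIrrCharacter (Matrix.SpecialLinearGroup (Fin 2) F) χ)

include hC hcard hχ

theorem eq_st_of_deg (h : χ 1 = (Fintype.card F : ℂ)) : χ = st := by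
  have hq := two_le_q (F := F)
  rcases classify hC hcard hχ with hb | ⟨_, hb | hb⟩
  · rcases hb.degree with ⟨e, -⟩ | ⟨-, e⟩ | ⟨e, -⟩ | ⟨e, -⟩
    · have := q_eq_of (F := F) (a := 1) (b := 1) (by push_cast; linear_combination e - h); omega
    · exact e
    · exact absurd (by linear_combination h - e : (1 : ℂ) = 0) one_ne_zero
    · exact absurd (by linear_combination e - h : (1 : ℂ) = 0) one_ne_zero
  · have e := hb.degree
    have := q_eq_of (F := F) (a := 1) (b := 1) (by push_cast; linear_combination e - 2 * h); omega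
  · have e := hb.degree
    have := q_eq_of (F := F) (a := 1) (b := 0) (by
      have : (Fintype.card F : ℂ) + 1 = 0 := by linear_combination e - 2 * h
      exact absurd this (Nat.cast_add_one_ne_zero _))
    omega

theorem exists_pi_of_deg (h : χ 1 = (Fintype.card F : ℂ) + 1) :
    ∃ α : MulChar F ℂ, α ^ 2 ≠ 1 ∧ χ = pi α := by
  have hq := two_le_q (F := F)
  rcases classify hC hcard hχ with hb | ⟨_, hb | hb⟩
  · rcases hb.degree with ⟨e, -⟩ | ⟨e, -⟩ | ⟨-, e⟩ | ⟨e, -⟩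
    · have := q_eq_of (F := F) (a := 1) (b := 0) (by push_cast; linear_combination e - h); omega
    · exact absurd (by linear_combination e - h : (1 : ℂ) = 0) one_ne_zero
    · exact e
    · exact absurd (by linear_combination (e - h) / 2 : (1 : ℂ) = 0) one_ne_zero
  · have e := hb.degree
    exact absurd (by linear_combination e - 2 * h : (Fintype.card F : ℂ) + 1 = 0)
      (Nat.cast_add_one_ne_zero _)
  · have e := hb.degree
    exact absurd (by push_cast; linear_combination e - 2 * h : ((Fintype.card F + 3 : ℕ) : ℂ) = 0)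
      (Nat.cast_ne_zero.mpr (by omega))

theorem exists_dX_of_deg (h4 : 4 ≤ Fintype.card F) (h : χ 1 = (Fintype.card F : ℂ) - 1) :
    ∃ θ : C →* ℂˣ, θ ^ 2 ≠ 1 ∧ χ = dX hC hcard θ := by
  rcases classify hC hcard hχ with hb | ⟨_, hb | hb⟩
  · rcases hb.degree with ⟨e, -⟩ | ⟨e, -⟩ | ⟨e, -⟩ | ⟨-, e⟩
    · have := q_eq_of (F := F) (a := 1) (b := 2) (by push_cast; linear_combination e - h); omega
    · exact absurd (by linear_combination h - e : (1 : ℂ) = 0) one_ne_zero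
    · exact absurd (by linear_combination (h - e) / 2 : (1 : ℂ) = 0) one_ne_zero
    · exact e
  · have e := hb.degree
    have := q_eq_of (F := F) (a := 1) (b := 3) (by push_cast; linear_combination e - 2 * h); omega
  · have e := hb.degree
    have := q_eq_of (F := F) (a := 1) (b := 1) (by push_cast; linear_combination e - 2 * h); omega

theorem isHalfP_of_deg (hodd : Odd (Fintype.card F)) (h4 : 4 ≤ Fintype.card F)
    (h : χ 1 = (((Fintype.card F + 1) / 2 : ℕ) : ℂ)) : IsHalfP χ := by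
  have h' : 2 * χ 1 = (Fintype.card F : ℂ) + 1 := by rw [h, halfP_cast hodd]
  rcases classify hC hcard hχ with hb | ⟨_, hb | hb⟩
  · rcases hb.degree with ⟨e, -⟩ | ⟨e, -⟩ | ⟨e, -⟩ | ⟨e, -⟩
    · have := q_eq_of (F := F) (a := 1) (b := 1) (by push_cast; linear_combination 2 * e - h'); omega
    · have := q_eq_of (F := F) (a := 1) (b := 1) (by push_cast; linear_combination h' - 2 * e); omega
    · exact absurd (by linear_combination h' - 2 * e : (Fintype.card F : ℂ) + 1 = 0)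
        (Nat.cast_add_one_ne_zero _)
    · have := q_eq_of (F := F) (a := 1) (b := 3) (by push_cast; linear_combination h' - 2 * e); omega
  · exact hb
  · exact absurd (by linear_combination (hb.degree - h') / 2 : (1 : ℂ) = 0) one_ne_zero

theorem isHalfM_of_deg (hodd : Odd (Fintype.card F)) (h4 : 4 ≤ Fintype.card F)
    (h : χ 1 = (((Fintype.card F - 1) / 2 : ℕ) : ℂ)) : IsHalfM hC hcard χ := by
  have h' : 2 * χ 1 = (Fintype.card F : ℂ) - 1 := by rw [h, halfM_cast hodd]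
  rcases classify hC hcard hχ with hb | ⟨_, hb | hb⟩
  · rcases hb.degree with ⟨e, -⟩ | ⟨e, -⟩ | ⟨e, -⟩ | ⟨e, -⟩
    · have := q_eq_of (F := F) (a := 1) (b := 3) (by push_cast; linear_combination 2 * e - h'); omega
    · exact absurd (by linear_combination h' - 2 * e : (Fintype.card F : ℂ) + 1 = 0)
        (Nat.cast_add_one_ne_zero _)
    · exact absurd (by push_cast; linear_combination h' - 2 * e : ((Fintype.card F + 3 : ℕ) : ℂ) = 0)
        (Nat.cast_ne_zero.mpr (by omega))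
    · have := q_eq_of (F := F) (a := 1) (b := 1) (by push_cast; linear_combination h' - 2 * e); omega
  · exact absurd (by linear_combination (h' - hb.degree) / 2 : (1 : ℂ) = 0) one_ne_zero
  · exact hb

end Degrees

end Cfsg.Agent.Lib.SL2Chars49
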