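import Mathlib
import Cfsg.Agent.Lib.SL2Chars49.Facts

/-!
Values of the half-degree characters and unipotent sums of SL₂(q).
-/

set_option autoImplicit false
set_option linter.unusedSectionVars false

namespace Cfsg.Agent.Lib.SL2Chars49

open Cfsg.Agent.Lib.PSLTwo.Sylow
open Cfsg.Agent.Lib.SL2Tori (Regular)

variable {F : Type*} [Field F] [Fintype F] [DecidableEq F]

local notation "SL" => Matrix.SpecialLinearGroup (Fin 2) F

variable {C : Subgroup (Matrix.SpecialLinearGroup (Fin 2) F)}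

theorem eps_inv {ε : MulChar F ℂ} (hε : ε ^ 2 = 1) (a : Fˣ) :
    ε ((a⁻¹ : Fˣ) : F) = ε a := by
  have h1 : ε ((a⁻¹ : Fˣ) : F) * ε a = 1 := by
    rw [← map_mul, ← Units.val_mul, inv_mul_cancel, Units.val_one, map_one]
  calc ε ((a⁻¹ : Fˣ) : F) = ε ((a⁻¹ : Fˣ) : F) * (ε a * ε a) := by
        rw [mulChar_sq_one_apply hε, mul_one]
    _ = ε a := by rw [← mul_assoc, h1, one_mul]

theorem hom_sq_inv {θ : C →* ℂˣ} (hθ : θ ^ 2 = 1) (c : C) : θ c⁻¹ = θ c := by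
  rw [map_inv]
  exact inv_eq_of_mul_eq_one_right (DFunLike.congr_fun ((pow_two θ).symm.trans hθ) c)

theorem two_ne_zero' (hodd : Odd (Fintype.card F)) : (2 : F) ≠ 0 :=
  Cfsg.Agent.Lib.Linear.two_ne_zero_of_odd_card hodd

/-- Values of a character of degree `(q + 1) / 2`. -/
theorem IsHalfP.values (hC : IsCyclic C) (hcard : Nat.card C = Fintype.card F + 1)
    (hodd : Odd (Fintype.card F)) {f : SL → ℂ} (h : IsHalfP f) :
    ∃ (ε : MulChar F ℂ) (d : ℂ), ε ^ 2 = 1 ∧ ε ≠ 1 ∧ d ^ 2 = ε (-1 : F) * (Fintype.card F : ℂ) ∧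
      (∀ a : Fˣ, (a : F) * a ≠ 1 → f (dg a) = ε a) ∧
      (∀ c : C, NonScalar (c : SL) → f (c : SL) = 0) ∧
      (∀ x : F, x ≠ 0 → 2 * f (nu 1 rt_one x) = 1 + d * ε x) := by
  obtain ⟨ε, d, hε, hε1, hd, rfl⟩ := h
  refine ⟨ε, d, hε, hε1, hd, fun a ha => ?_, fun c hc => ?_, fun x hx => ?_⟩
  · simp only [pi_dg ε ha, halfFun_regular ε 1 ((dg_regular_iff a).mpr ha), eps_inv hε]; ring
  · obtain ⟨h1, h2, -⟩ := C_regular hC hcard c.2 hc
    simp only [pi_nonsplit ε h2, halfFun_regular ε 1 h1]; ring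
  · simp only [pi_nu ε ⟨1, rt_one⟩ hx, halfFun_nu hε (two_ne_zero' hodd) 1 ⟨1, rt_one⟩ hx, if_true,
      map_one]
    ring

/-- Values of a character of degree `(q - 1) / 2`. -/
theorem IsHalfM.values {hC : IsCyclic C} {hcard : Nat.card C = Fintype.card F + 1}
    (hodd : Odd (Fintype.card F)) {f : SL → ℂ} (h : IsHalfM hC hcard f) :
    ∃ (ε : MulChar F ℂ) (θ : C →* ℂˣ) (d : ℂ), ε ^ 2 = 1 ∧ ε ≠ 1 ∧ θ ^ 2 = 1 ∧ θ ≠ 1 ∧
      d ^ 2 = ε (-1 : F) * (Fintype.card F : ℂ) ∧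
      (∀ a : Fˣ, (a : F) * a ≠ 1 → f (dg a) = 0) ∧
      (∀ c : C, NonScalar (c : SL) → f (c : SL) = -(θ c : ℂ)) ∧
      (∀ x : F, x ≠ 0 → 2 * f (nu 1 rt_one x) = -1 + d * ε x) := by
  obtain ⟨ε, θ, d, hε, hε1, hθ, hθ1, hd, rfl⟩ := h
  refine ⟨ε, θ, d, hε, hε1, hθ, hθ1, hd, fun a ha => ?_, fun c hc => ?_, fun x hx => ?_⟩
  · simp only [dX_dg hC hcard θ ha, halfFun_regular ε (-1) ((dg_regular_iff a).mpr ha)]; ring
  · obtain ⟨h1, -, -⟩ := C_regular hC hcard c.2 hc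
    simp only [dX_C hC hcard θ c hc, halfFun_regular ε (-1) h1, hom_sq_inv hθ]; ring
  · have h1 : scC hC hcard ⟨1, rt_one⟩ = 1 := Subtype.ext nu_one_zero
    simp only [dX_nu hC hcard θ ⟨1, rt_one⟩ hx,
      halfFun_nu hε (two_ne_zero' hodd) (-1) ⟨1, rt_one⟩ hx, if_true, h1, map_one, Units.val_one]
    ring

theorem card_erase_zero :
    ((Finset.univ.erase (0 : F)).card : ℂ) = (Fintype.card F : ℂ) - 1 := by
  rw [Finset.card_erase_of_mem (Finset.mem_univ _), Finset.card_univ, Nat.cast_sub Fintype.card_pos,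
    Nat.cast_one]

theorem sum_erase_eps {ε : MulChar F ℂ} (hε1 : ε ≠ 1) :
    ∑ x ∈ Finset.univ.erase (0 : F), ε x = 0 := by
  rw [Finset.sum_erase _ (MulChar.map_nonunit ε not_isUnit_zero)]
  exact MulChar.sum_eq_zero_of_ne_one hε1

theorem eq_nu_of_coe {u : SL} (hu : (u : Matrix (Fin 2) (Fin 2) F) = !![1, 1; 0, 1]) :
    u = nu 1 rt_one 1 := by
  apply slExt <;> simp [hu]

theorem mul_self_ne_one_of_sq {a : F} (h : a ^ 2 ≠ 1) : a * a ≠ 1 := by rwa [← pow_two]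

/-- For `q = 3` the discrete series vanishes on the non-split torus off the centre. -/
theorem theta_sum_zero_of_three (hC : IsCyclic C) (hcard : Nat.card C = Fintype.card F + 1)
    (h3 : Fintype.card F = 3) {θ : C →* ℂˣ} (hθ : θ ^ 2 ≠ 1) (c : C) (hc : NonScalar (c : SL)) :
    (θ c : ℂ) + (θ c⁻¹ : ℂ) = 0 := by
  have hne : c⁻¹ ≠ c := fun e => inv_ne_self_of_regular (C_regular hC hcard c.2 hc).1
    (congrArg Subtype.val e)
  have h4 : Nat.card C = 2 ^ 2 := by rw [hcard, h3]; norm_num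
  have hord : orderOf c = 4 := by
    obtain ⟨k, hk, hk'⟩ := (Nat.dvd_prime_pow Nat.prime_two).mp (h4 ▸ orderOf_dvd_natCard c)
    have h2 : c ^ 2 ≠ 1 := fun e => hne (inv_eq_of_mul_eq_one_right ((pow_two c).symm.trans e))
    rcases Nat.lt_or_ge k 2 with hlt | hge
    · exact absurd (orderOf_dvd_iff_pow_eq_one.mp (hk' ▸ (pow_dvd_pow 2 (by omega : k ≤ 1)))) h2
    · rw [hk', le_antisymm hk hge]; norm_num
  have hsq : (θ c : ℂ) * θ c ≠ 1 := by
    intro e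
    apply hθ
    have hgen : ∀ x : C, x ∈ Subgroup.zpowers c := fun x => by
      rw [Subgroup.eq_top_of_card_eq (Subgroup.zpowers c) (by
        rw [Nat.card_zpowers, hord, h4]; norm_num)]
      exact Subgroup.mem_top x
    have hu : θ c * θ c = 1 := Units.ext (by rw [Units.val_mul, e, Units.val_one])
    refine MonoidHom.ext fun x => ?_
    obtain ⟨n, rfl⟩ := Subgroup.mem_zpowers_iff.mp (hgen x)
    show (θ ^ 2) (c ^ n) = 1
    have hh : (θ ^ 2) c = 1 := by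
      show θ c ^ 2 = 1
      rw [pow_two, hu]
    rw [map_zpow, hh, one_zpow]
  have h4' : ((θ c : ℂ) * θ c) * ((θ c : ℂ) * θ c) = 1 := by
    have : (θ c : ℂ) ^ 4 = 1 := by
      rw [← Units.val_pow_eq_pow_val, ← map_pow,
        show c ^ 4 = 1 by rw [← hord]; exact pow_orderOf_eq_one c, map_one, Units.val_one]
    linear_combination this
  have hm := (mul_self_eq_one_iff.mp h4').resolve_left hsq
  have hinv : (θ c⁻¹ : ℂ) = -(θ c : ℂ) := by
    rw [map_inv, Units.val_inv_eq_inv_val]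
    refine inv_eq_of_mul_eq_one_right ?_
    linear_combination -hm
  rw [hinv, add_neg_cancel]

theorem sq_ne_one_three (h3 : Fintype.card F = 3) (a : Fˣ) : (a : F) * a = 1 := by
  have := FiniteField.pow_card_sub_one_eq_one (a : F) a.ne_zero
  rwa [h3, pow_two] at this

end Cfsg.Agent.Lib.SL2Chars49
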