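import Mathlib
import Cfsg.Agent.Lib.SL2Chars49.Values

/-!
Numbers of irreducible characters of SL₂(q) of each degree.
-/

set_option autoImplicit false
set_option linter.unusedSectionVars false

namespace Cfsg.Agent.Lib.SL2Chars49

open Cfsg.Agent.Lib.PSLTwo.Sylow

variable {F : Type*} [Field F] [Fintype F] [DecidableEq F]

local notation "SL" => Matrix.SpecialLinearGroup (Fin 2) F

variable {C : Subgroup (Matrix.SpecialLinearGroup (Fin 2) F)}

theorem card_irr_eq_card {d : ℂ} (S : Finset (SL → ℂ))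
    (hS : ∀ f, f ∈ S ↔ Cfsg.IsIrrCharacter SL f ∧ f 1 = d) :
    Nat.card {χ : Cfsg.IrrCharacter SL // (χ : SL → ℂ) 1 = d} = S.card := by
  rw [← Nat.card_eq_finsetCard]
  exact Nat.card_congr
    { toFun := fun χ => ⟨χ.1.1, (hS _).mpr ⟨χ.1.2, χ.2⟩⟩
      invFun := fun f => ⟨⟨f.1, ((hS _).mp f.2).1⟩, ((hS _).mp f.2).2⟩
      left_inv := fun _ => rfl
      right_inv := fun _ => rfl }

theorem card_deg_one (h4 : 4 ≤ Fintype.card F) :
    Nat.card {χ : Cfsg.IrrCharacter SL // (χ : SL → ℂ) 1 = 1} = 1 := by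
  classical
  obtain ⟨C, hC, hcard⟩ := exists_C (F := F)
  rw [card_irr_eq_card {fun _ => 1}, Finset.card_singleton]
  intro f
  rw [Finset.mem_singleton]
  refine ⟨fun e => e ▸ ⟨(Characters.Basic.oneChar SL).2, rfl⟩, fun ⟨hf, h⟩ => ?_⟩
  rcases classify hC hcard hf with hb | ⟨_, hb | hb⟩
  · rcases hb.degree with ⟨-, e⟩ | ⟨e, -⟩ | ⟨e, -⟩ | ⟨e, -⟩
    · exact e
    · have := q_eq_of (F := F) (a := 1) (b := 1) (by push_cast; linear_combination h - e); omega
    · have := q_eq_of (F := F) (a := 1) (b := 0) (by push_cast; linear_combination h - e); omega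
    · have := q_eq_of (F := F) (a := 1) (b := 2) (by push_cast; linear_combination h - e); omega
  · have e := hb.degree
    have := q_eq_of (F := F) (a := 1) (b := 1) (by push_cast; linear_combination 2 * h - e); omega
  · have e := hb.degree
    have := q_eq_of (F := F) (a := 1) (b := 3) (by push_cast; linear_combination 2 * h - e); omega

theorem card_deg_q :
    Nat.card {χ : Cfsg.IrrCharacter SL // (χ : SL → ℂ) 1 = (Fintype.card F : ℂ)} = 1 := by
  classical
  obtain ⟨C, hC, hcard⟩ := exists_C (F := F)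
  rw [card_irr_eq_card {st}, Finset.card_singleton]
  intro f
  rw [Finset.mem_singleton]
  exact ⟨fun e => e ▸ ⟨isIrr_st, st_one⟩, fun ⟨hf, h⟩ => eq_st_of_deg hC hcard hf h⟩

theorem card_deg_succ :
    2 * Nat.card {χ : Cfsg.IrrCharacter SL // (χ : SL → ℂ) 1 = (Fintype.card F : ℂ) + 1} +
      Fintype.card (RtT F) + 1 = Fintype.card F := by
  classical
  obtain ⟨C, hC, hcard⟩ := exists_C (F := F)
  rw [card_irr_eq_card ((pSet F).image pi)]
  · rw [two_mul_card_image (pSet F) pi (fun a ha => ?_) (fun a ha => ?_)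
      (fun a ha b _ => pi_eq_iff (mem_pSet.mp ha))]
    · have := card_pSet (F := F)
      have := two_le_q (F := F)
      omega
    · rw [mem_pSet] at ha ⊢; rwa [inv_pow, Ne, inv_eq_one]
    · rw [mem_pSet, pow_two] at ha; exact ha
  · intro f
    rw [Finset.mem_image]
    constructor
    · rintro ⟨α, hα, rfl⟩
      exact ⟨isIrr_pi (mem_pSet.mp hα), pi_one α⟩
    · rintro ⟨hf, h⟩
      obtain ⟨α, hα, rfl⟩ := exists_pi_of_deg hC hcard hf h
      exact ⟨α, mem_pSet.mpr hα, rfl⟩

theorem card_deg_pred (h4 : 4 ≤ Fintype.card F) :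
    2 * Nat.card {χ : Cfsg.IrrCharacter SL // (χ : SL → ℂ) 1 = (Fintype.card F : ℂ) - 1} +
      Fintype.card (RtT F) = Fintype.card F + 1 := by
  classical
  obtain ⟨C, hC, hcard⟩ := exists_C (F := F)
  rw [card_irr_eq_card ((xSet C).image (dX hC hcard))]
  · rw [two_mul_card_image (xSet C) (dX hC hcard) (fun a ha => ?_) (fun a ha => ?_)
      (fun a ha b _ => dX_eq_iff hC hcard (mem_xSet.mp ha))]
    · have := card_xSet hC hcard
      omega
    · rw [mem_xSet] at ha ⊢; rwa [inv_pow, Ne, inv_eq_one]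
    · rw [mem_xSet, pow_two] at ha; exact ha
  · intro f
    rw [Finset.mem_image]
    constructor
    · rintro ⟨α, hα, rfl⟩
      exact ⟨isIrr_dX hC hcard (mem_xSet.mp hα), dX_one hC hcard α⟩
    · rintro ⟨hf, h⟩
      obtain ⟨α, hα, rfl⟩ := exists_dX_of_deg hC hcard hf h4 h
      exact ⟨α, mem_xSet.mpr hα, rfl⟩

/-- A character of degree `(q + 1) / 2` is one of the two constituents. -/
theorem Halves.mem_p {hC : IsCyclic C} {hcard : Nat.card C = Fintype.card F + 1} {ε : MulChar F ℂ}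
    {θ : C →* ℂˣ} (H : Halves hC hcard ε θ) (hodd : Odd (Fintype.card F)) (h4 : 4 ≤ Fintype.card F)
    {f : SL → ℂ} (hf : Cfsg.IsIrrCharacter SL f) (h : f 1 = (((Fintype.card F + 1) / 2 : ℕ) : ℂ)) :
    f = (H.p1 : SL → ℂ) ∨ f = (H.p2 : SL → ℂ) := by
  have h' : 2 * f 1 = (Fintype.card F : ℂ) + 1 := by rw [h, halfP_cast hodd]
  rcases H.all ⟨f, hf⟩ with hb | e | e | e | e
  · rcases IsBase.degree (hC := hC) (hcard := hcard) hb with ⟨e, -⟩ | ⟨e, -⟩ | ⟨e, -⟩ | ⟨e, -⟩ <;>
      change f 1 = _ at e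
    · have := q_eq_of (F := F) (a := 1) (b := 1) (by push_cast; linear_combination 2 * e - h'); omega
    · have := q_eq_of (F := F) (a := 1) (b := 1) (by push_cast; linear_combination h' - 2 * e); omega
    · exact absurd (by linear_combination h' - 2 * e : (Fintype.card F : ℂ) + 1 = 0)
        (Nat.cast_add_one_ne_zero _)
    · have := q_eq_of (F := F) (a := 1) (b := 3) (by push_cast; linear_combination h' - 2 * e); omega
  · exact Or.inl (congrArg Subtype.val e)
  · exact Or.inr (congrArg Subtype.val e)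
  · have e' : f = (H.m1 : SL → ℂ) := congrArg Subtype.val e
    rw [e'] at h'
    exact absurd (by linear_combination (H.deg_m1 - h') / 2 : (1 : ℂ) = 0) one_ne_zero
  · have e' : f = (H.m2 : SL → ℂ) := congrArg Subtype.val e
    rw [e'] at h'
    exact absurd (by linear_combination (H.deg_m2 - h') / 2 : (1 : ℂ) = 0) one_ne_zero

/-- A character of degree `(q - 1) / 2` is one of the two constituents. -/
theorem Halves.mem_m {hC : IsCyclic C} {hcard : Nat.card C = Fintype.card F + 1} {ε : MulChar F ℂ}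
    {θ : C →* ℂˣ} (H : Halves hC hcard ε θ) (hodd : Odd (Fintype.card F)) (h4 : 4 ≤ Fintype.card F)
    {f : SL → ℂ} (hf : Cfsg.IsIrrCharacter SL f) (h : f 1 = (((Fintype.card F - 1) / 2 : ℕ) : ℂ)) :
    f = (H.m1 : SL → ℂ) ∨ f = (H.m2 : SL → ℂ) := by
  have h' : 2 * f 1 = (Fintype.card F : ℂ) - 1 := by rw [h, halfM_cast hodd]
  rcases H.all ⟨f, hf⟩ with hb | e | e | e | e
  · rcases IsBase.degree (hC := hC) (hcard := hcard) hb with ⟨e, -⟩ | ⟨e, -⟩ | ⟨e, -⟩ | ⟨e, -⟩ <;>
      change f 1 = _ at e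
    · have := q_eq_of (F := F) (a := 1) (b := 3) (by push_cast; linear_combination 2 * e - h'); omega
    · exact absurd (by linear_combination h' - 2 * e : (Fintype.card F : ℂ) + 1 = 0)
        (Nat.cast_add_one_ne_zero _)
    · exact absurd (by push_cast; linear_combination h' - 2 * e : ((Fintype.card F + 3 : ℕ) : ℂ) = 0)
        (Nat.cast_ne_zero.mpr (by omega))
    · have := q_eq_of (F := F) (a := 1) (b := 1) (by push_cast; linear_combination h' - 2 * e); omega
  · have e' : f = (H.p1 : SL → ℂ) := congrArg Subtype.val e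
    rw [e'] at h'
    exact absurd (by linear_combination (h' - H.deg_p1) / 2 : (1 : ℂ) = 0) one_ne_zero
  · have e' : f = (H.p2 : SL → ℂ) := congrArg Subtype.val e
    rw [e'] at h'
    exact absurd (by linear_combination (h' - H.deg_p2) / 2 : (1 : ℂ) = 0) one_ne_zero
  · exact Or.inl (congrArg Subtype.val e)
  · exact Or.inr (congrArg Subtype.val e)

theorem card_deg_halfP (hodd : Odd (Fintype.card F)) (h4 : 4 ≤ Fintype.card F) :
    Nat.card {χ : Cfsg.IrrCharacter SL //
      (χ : SL → ℂ) 1 = (((Fintype.card F + 1) / 2 : ℕ) : ℂ)} = 2 := by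
  classical
  obtain ⟨C, hC, hcard⟩ := exists_C (F := F)
  obtain ⟨ε, θ, -, -, -, -, ⟨H⟩⟩ := exists_data hC hcard hodd
  rw [card_irr_eq_card {(H.p1 : SL → ℂ), (H.p2 : SL → ℂ)},
    Finset.card_pair fun e => H.ne_p (Subtype.ext e)]
  intro f
  simp only [Finset.mem_insert, Finset.mem_singleton]
  refine ⟨fun h => ?_, fun h => H.mem_p hodd h4 h.1 h.2⟩
  have := halfP_cast hodd
  rcases h with rfl | rfl
  · exact ⟨H.p1.2, by linear_combination (H.deg_p1 - this) / 2⟩
  · exact ⟨H.p2.2, by linear_combination (H.deg_p2 - this) / 2⟩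

theorem card_deg_halfM (hodd : Odd (Fintype.card F)) (h4 : 4 ≤ Fintype.card F) :
    Nat.card {χ : Cfsg.IrrCharacter SL //
      (χ : SL → ℂ) 1 = (((Fintype.card F - 1) / 2 : ℕ) : ℂ)} = 2 := by
  classical
  obtain ⟨C, hC, hcard⟩ := exists_C (F := F)
  obtain ⟨ε, θ, -, -, -, -, ⟨H⟩⟩ := exists_data hC hcard hodd
  rw [card_irr_eq_card {(H.m1 : SL → ℂ), (H.m2 : SL → ℂ)},
    Finset.card_pair fun e => H.ne_m (Subtype.ext e)]
  intro f
  simp only [Finset.mem_insert, Finset.mem_singleton]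
  refine ⟨fun h => ?_, fun h => H.mem_m hodd h4 h.1 h.2⟩
  have := halfM_cast hodd
  rcases h with rfl | rfl
  · exact ⟨H.m1.2, by linear_combination (H.deg_m1 - this) / 2⟩
  · exact ⟨H.m2.2, by linear_combination (H.deg_m2 - this) / 2⟩

end Cfsg.Agent.Lib.SL2Chars49
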