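import Mathlib
import Cfsg.Prelude.Def_Blocks
import Cfsg.Agent.Lib.Characters.Kernel
import Cfsg.Agent.Lib.Characters.Complete
import Cfsg.Agent.Lib.Characters.Linear
import Cfsg.Agent.Lib.Characters.Degree
import Cfsg.Agent.Lib.Induced.DegreeIndex
import Cfsg.Agent.Lib.BC78.CoprimeFix
import Cfsg.Agent.Lib.BC78.Clifford
import Cfsg.Agent.Lib.Glauberman.PGroup
import Cfsg.Agent.Lib.Chars82.PGroupChars

/-!
Counting characters of degree prime to `ℓ` in groups with a normal subgroup of index prime to `ℓ`.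
-/

set_option autoImplicit false

namespace Cfsg.Agent.Lib.SL2Chars49.McKay

open Cfsg.Agent.Lib.Characters Cfsg.Agent.Lib

universe u

variable {G : Type u} [Group G]

theorem charDegree_of_eq {χ : G → ℂ} {d : ℕ} (h : χ 1 = d) : Cfsg.charDegree χ = d := by
  rw [Cfsg.charDegree, h, Complex.natCast_re, Nat.floor_natCast]

theorem apply_one (χ : Cfsg.IrrCharacter G) :
    (χ : G → ℂ) 1 = (Cfsg.charDegree (χ : G → ℂ) : ℂ) := by
  obtain ⟨d, -, hd⟩ := Basic.exists_degree_pos χ
  rw [charDegree_of_eq hd, hd]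

theorem card_congr_degree {H : Type*} [Group H] (e : G ≃* H) (P : ℕ → Prop) :
    Nat.card {χ : Cfsg.IrrCharacter G // P (Cfsg.charDegree (χ : G → ℂ))} =
      Nat.card {χ : Cfsg.IrrCharacter H // P (Cfsg.charDegree (χ : H → ℂ))} := by
  refine Nat.card_congr
    { toFun := fun χ => ⟨⟨(χ.1 : G → ℂ) ∘ e.symm,
        Basic.isIrrCharacter_comp e.symm.toMonoidHom e.symm.surjective χ.1.2⟩, ?_⟩
      invFun := fun χ => ⟨⟨(χ.1 : H → ℂ) ∘ e,
        Basic.isIrrCharacter_comp e.toMonoidHom e.surjective χ.1.2⟩, ?_⟩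
      left_inv := fun χ => ?_
      right_inv := fun χ => ?_ }
  · simpa [Cfsg.charDegree] using χ.2
  · simpa [Cfsg.charDegree] using χ.2
  · exact Subtype.ext (Subtype.ext (funext fun g => by simp))
  · exact Subtype.ext (Subtype.ext (funext fun g => by simp))

variable [Finite G]

/-- Ito, on charDegree. -/
theorem degree_dvd_index (A : Subgroup G) [A.Normal] (hA : ∀ a ∈ A, ∀ b ∈ A, a * b = b * a)
    (χ : Cfsg.IrrCharacter G) : Cfsg.charDegree (χ : G → ℂ) ∣ A.index := by
  obtain ⟨n, ρ, hρ, h⟩ := χ.2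
  rw [charDegree_of_eq (d := Module.finrank ℂ (Fin n → ℂ)) (by rw [← h, ρ.char_one])]
  exact Induced.DegreeIndex.finrank_dvd_index_of_abelian_normal ρ A hA

/-- With an abelian normal subgroup of index prime to `ℓ` every degree is prime to `ℓ`. -/
theorem card_of_abelian_normal (A : Subgroup G) [A.Normal] (hA : ∀ a ∈ A, ∀ b ∈ A, a * b = b * a)
    {ℓ : ℕ} (hℓ : ¬ ℓ ∣ A.index) :
    Nat.card {χ : Cfsg.IrrCharacter G // ¬ ℓ ∣ Cfsg.charDegree (χ : G → ℂ)} =
      Nat.card (ConjClasses G) := by
  rw [← Complete.card_irr_eq_card_conjClasses]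
  exact Nat.card_congr (Equiv.subtypeUnivEquiv fun χ h => hℓ (h.trans (degree_dvd_index A hA χ)))

variable (V : Subgroup G) [V.Normal]

/-- For a normal 2-subgroup `V` of odd index, the odd degree characters are those trivial on `V'`. -/
theorem odd_degree_iff (hV : IsPGroup 2 V) (hidx : ¬ 2 ∣ V.index) (χ : Cfsg.IrrCharacter G) :
    ¬ 2 ∣ Cfsg.charDegree (χ : G → ℂ) ↔ ∀ g ∈ ⁅V, V⁆, (χ : G → ℂ) g = (χ : G → ℂ) 1 := by
  classical
  haveI := Fintype.ofFinite G
  haveI := Fintype.ofFinite V
  haveI := Fintype.ofFinite (Cfsg.IrrCharacter V)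
  constructor
  · intro hd g hg
    rw [← Subgroup.map_subtype_commutator] at hg
    obtain ⟨c, hc, rfl⟩ := hg
    have hcoe : (fun v : V => (χ : G → ℂ) v) = (χ : G → ℂ) ∘ V.subtype := rfl
    obtain ⟨θ, hθ, hθd⟩ := BC78.CoprimeFix.exists_constituent_not_dvd
      (Basic.isCharacter_comp V.subtype (Basic.isCharacter_irr χ))
      (p := 2) (n := Cfsg.charDegree (χ : G → ℂ)) (by simp [← apply_one χ]) hd
    have hlin : ∀ β : Cfsg.IrrCharacter V,
        Cfsg.classInner (fun v : V => (χ : G → ℂ) v) (β : V → ℂ) ≠ 0 → (β : V → ℂ) 1 = 1 := by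
      intro β hβ
      obtain ⟨x, hx⟩ := BC78.Clifford.exists_conj_eq V χ θ β (by rw [hcoe]; exact hθ) hβ
      obtain ⟨d, -, hdvd, hdeg⟩ := Characters.Degree.exists_degree_dvd θ
      obtain ⟨k, hk⟩ := IsPGroup.iff_card.mp hV
      rw [hk, Nat.dvd_prime_pow Nat.prime_two] at hdvd
      obtain ⟨j, -, rfl⟩ := hdvd
      have hj : j = 0 := by
        by_contra hj
        refine hθd ?_
        have : BC78.CoprimeFix.deg θ = 2 ^ j := by
          have := BC78.CoprimeFix.apply_one_eq_deg θ
          rw [hdeg] at this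
          exact_mod_cast this.symm
        rw [this]; exact dvd_pow_self 2 hj
      have h1 : (θ : V → ℂ) 1 = 1 := by rw [hdeg, hj]; norm_num
      rw [← hx, ← h1]
      show (θ : V → ℂ) ⟨x * ((1 : V) : G) * x⁻¹, _⟩ = (θ : V → ℂ) 1
      exact congrArg _ (Subtype.ext (by simp))
    have key := fun v : V => Glauberman.restrict_eq_sum V.subtype χ v
    have h0 := key 1
    rw [map_one] at h0
    rw [key c, h0]
    refine Finset.sum_congr rfl fun β _ => ?_
    by_cases hm : Glauberman.mult V.subtype χ β = 0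
    · simp [hm]
    · have hne : Cfsg.classInner (fun v : V => (χ : G → ℂ) v) (β : V → ℂ) ≠ 0 := by
        have := Glauberman.coe_mult V.subtype χ β
        intro e
        rw [show (fun v : V => (χ : G → ℂ) (V.subtype v)) = fun v : V => (χ : G → ℂ) v from rfl,
          e] at this
        exact hm (by exact_mod_cast this.symm)
      have h1 := hlin β hne
      rw [Chars82.PGroupChars.linear_commutator (Basic.isCharacter_irr β) h1 hc, h1]
  · intro h
    obtain ⟨φ, hφ⟩ : ∃ φ : Cfsg.IrrCharacter (G ⧸ ⁅V, V⁆), (Kernel.inflateEquiv ⁅V, V⁆ φ).1 = χ :=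
      ⟨(Kernel.inflateEquiv ⁅V, V⁆).symm ⟨χ, h⟩, by rw [Equiv.apply_symm_apply]⟩
    have hdeg : Cfsg.charDegree (χ : G → ℂ) = Cfsg.charDegree (φ : G ⧸ ⁅V, V⁆ → ℂ) := by
      rw [← hφ, Cfsg.charDegree, Kernel.inflateEquiv_apply, QuotientGroup.mk_one]; rfl
    have : (V.map (QuotientGroup.mk' ⁅V, V⁆)).Normal :=
      Subgroup.Normal.map inferInstance _ (QuotientGroup.mk'_surjective _)
    rw [hdeg]
    intro h2
    refine hidx (h2.trans ((degree_dvd_index (V.map (QuotientGroup.mk' ⁅V, V⁆)) ?_ φ).trans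
      (V.index_map_dvd (QuotientGroup.mk'_surjective _))))
    rintro _ ⟨a, ha, rfl⟩ _ ⟨b, hb, rfl⟩
    rw [← map_mul, ← map_mul, QuotientGroup.mk'_apply, QuotientGroup.mk'_apply, QuotientGroup.eq]
    have := Subgroup.commutator_mem_commutator (V.inv_mem hb) (V.inv_mem ha)
    simpa [commutatorElement_def, mul_assoc] using this

theorem card_odd_degree (hV : IsPGroup 2 V) (hidx : ¬ 2 ∣ V.index) :
    Nat.card {χ : Cfsg.IrrCharacter G // ¬ 2 ∣ Cfsg.charDegree (χ : G → ℂ)} =
      Nat.card (ConjClasses (G ⧸ ⁅V, V⁆)) := by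
  rw [← Complete.card_irr_eq_card_conjClasses, Nat.card_congr (Kernel.inflateEquiv ⁅V, V⁆)]
  exact Nat.card_congr (Equiv.subtypeEquivRight fun χ => odd_degree_iff V hV hidx χ)

/-- A group with an odd-index self-centralising normal subgroup of order four has four classes. -/
theorem card_conjClasses_of_four {W : Type*} [Group W] [Finite W] (A : Subgroup W) [A.Normal]
    (hA : Nat.card A = 4) (hcomm : ∀ a ∈ A, ∀ b ∈ A, a * b = b * a) (hidx : ¬ 2 ∣ A.index)
    (hC : ∀ w : W, (∀ a ∈ A, w * a = a * w) → w ∈ A) : Nat.card (ConjClasses W) = 4 := by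
  classical
  have hker : (MulAut.conjNormal : W →* MulAut A).ker = A := by
    refine le_antisymm (fun w hw => hC w fun a ha => ?_) fun w hw => MulEquiv.ext fun a => ?_
    · have h1 := congrArg Subtype.val (DFunLike.congr_fun (MonoidHom.mem_ker.mp hw) ⟨a, ha⟩)
      rw [MulAut.conjNormal_apply] at h1
      exact mul_inv_eq_iff_eq_mul.mp h1
    · exact Subtype.ext (by rw [MulAut.conjNormal_apply, hcomm w hw a a.2]; simp)
  let f : MulAut A →* Equiv.Perm A :=
    { toFun := fun e => e.toEquiv, map_one' := rfl, map_mul' := fun _ _ => rfl }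
  have hker2 : (f.comp (MulAut.conjNormal : W →* MulAut A)).ker = A := by
    rw [MonoidHom.ker_comp_of_injective _ _ (fun a b h => MulEquiv.toEquiv_injective h), hker]
  haveI := Fintype.ofFinite A
  have h24 : A.index ∣ 24 := by
    conv_lhs => rw [← hker2, Subgroup.index_ker]
    refine (Subgroup.card_subgroup_dvd_card _).trans ?_
    rw [Nat.card_eq_fintype_card (α := Equiv.Perm A), Fintype.card_perm,
      ← Nat.card_eq_fintype_card, hA]
    decide
  have h13 : A.index = 1 ∨ A.index = 3 := by
    have := Nat.le_of_dvd (by norm_num) h24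
    generalize A.index = n at *
    interval_cases n <;> omega
  rw [← Complete.card_irr_eq_card_conjClasses]
  rcases h13 with h1 | h3
  · have hW : ∀ a b : W, a * b = b * a := fun a b => by
      rw [Subgroup.index_eq_one] at h1
      exact hcomm a (h1 ▸ trivial) b (h1 ▸ trivial)
    have hcard : Nat.card W = 4 := by rw [← A.card_mul_index, hA, h1]
    haveI := Fintype.ofFinite (Cfsg.IrrCharacter W)
    have := Complete.finsum_degree_sq (G := W)
    rw [finsum_eq_sum_of_fintype] at this
    simp only [Linear.degree_eq_one_of_comm hW, one_pow, Finset.sum_const, Finset.card_univ,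
      nsmul_eq_mul, mul_one, hcard] at this
    rw [Nat.card_eq_fintype_card]
    exact_mod_cast this
  · have hcard : Nat.card W = 12 := by rw [← A.card_mul_index, hA, h3]
    haveI := Fintype.ofFinite (Cfsg.IrrCharacter W)
    have hdeg : ∀ χ : Cfsg.IrrCharacter W, (χ : W → ℂ) 1 = 1 ∨ (χ : W → ℂ) 1 = 3 := fun χ => by
      have := degree_dvd_index A hcomm χ
      rw [h3, Nat.dvd_prime Nat.prime_three] at this
      rw [apply_one χ]
      rcases this with h | h <;> rw [h] <;> norm_num
    let s := Finset.univ.filter fun χ : Cfsg.IrrCharacter W => (χ : W → ℂ) 1 = 1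
    let t := Finset.univ.filter fun χ : Cfsg.IrrCharacter W => ¬ (χ : W → ℂ) 1 = 1
    have hst : s.card + t.card = Nat.card (Cfsg.IrrCharacter W) := by
      rw [Nat.card_eq_fintype_card]
      exact Finset.card_filter_add_card_filter_not _
    have hsq : s.card + 9 * t.card = 12 := by
      have := Complete.finsum_degree_sq (G := W)
      rw [finsum_eq_sum_of_fintype, ← Finset.sum_filter_add_sum_filter_not _
        (fun χ : Cfsg.IrrCharacter W => (χ : W → ℂ) 1 = 1), hcard] at this
      have e1 : ∑ χ ∈ s, (χ : W → ℂ) 1 ^ 2 = (s.card : ℂ) := by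
        rw [Finset.cast_card]
        exact Finset.sum_congr rfl fun χ hχ => by rw [(Finset.mem_filter.mp hχ).2, one_pow]
      have e2 : ∑ χ ∈ t, (χ : W → ℂ) 1 ^ 2 = 9 * (t.card : ℂ) := by
        rw [Finset.cast_card, Finset.mul_sum]
        refine Finset.sum_congr rfl fun χ hχ => ?_
        rw [(hdeg χ).resolve_left (Finset.mem_filter.mp hχ).2]; norm_num
      rw [e1, e2] at this
      exact_mod_cast this
    have hne : s.card ≠ 12 := by
      intro h
      have h1 : (commutator W).index = 12 := by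
        rw [← Linear.card_linear, Nat.card_eq_fintype_card, Fintype.card_subtype]; exact h
      have h2 : commutator W = ⊥ := by
        rw [← Subgroup.card_eq_one]
        have := (commutator W).card_mul_index
        rw [h1, hcard] at this
        omega
      have hW : ∀ a b : W, a * b = b * a := fun a b => by
        have := Subgroup.commutator_mem_commutator (Subgroup.mem_top a) (Subgroup.mem_top b)
        rw [← _root_.commutator_def, h2, Subgroup.mem_bot] at this
        exact commutatorElement_eq_one_iff_commute.mp this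
      have : A = ⊤ := eq_top_iff.mpr fun w _ => hC w fun a _ => hW w a
      rw [← Subgroup.index_eq_one, h3] at this
      omega
    omega

end Cfsg.Agent.Lib.SL2Chars49.McKay
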