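import Mathlib
import Cfsg.Agent.Lib.SL2Chars49.Sum
import Cfsg.Agent.Lib.SL2Chars49.McKayTools
import Cfsg.Agent.Lib.Linear.Unipotent
import Cfsg.Agent.Lib.Linear.SL2Sylow2
import Cfsg.Agent.Lib.QuatSylow.Basic
import Cfsg.Agent.Lib.Coprime.Commutator
import Cfsg.Agent.Lib.PGroups.Frattini

/-!
The local side of the McKay equality for SL₂(q), `q` odd, at every prime dividing the group order.
-/

set_option autoImplicit false
set_option linter.unusedSectionVars false

namespace Cfsg.Agent.Lib.SL2Chars49.McKay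

open Cfsg.Agent.Lib.PSLTwo.Sylow Cfsg.Agent.Lib.SL2Chars49
open Cfsg.Agent.Lib.SL2Tori (Regular torus mem_torus torus_comm self_mem_torus)
open Cfsg.Agent.Lib.SL2Tori.Borel (borel mem_borel mkB borelEquiv card_borel)

variable {F : Type*} [Field F] [Fintype F] [DecidableEq F]

local notation "SL" => Matrix.SpecialLinearGroup (Fin 2) F
local notation "NS" S:max =>
  Subgroup.normalizer ((S : Subgroup (Matrix.SpecialLinearGroup (Fin 2) F)) : Set (Matrix.SpecialLinearGroup (Fin 2) F))

theorem card_torus_cases {g : SL} (hg : Regular g) :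
    Nat.card (torus g) = Fintype.card F - 1 ∨ Nat.card (torus g) = Fintype.card F + 1 := by
  by_cases hs : Split g
  · exact Or.inl (card_torus_split' hg hs)
  · obtain ⟨C, hC, hcard⟩ := exists_C (F := F)
    obtain ⟨c, hc, P, rfl⟩ := exists_conj_C hC hcard hg hs
    rw [SL2Tori.card_torus_conj, (C_regular hC hcard (mem_cNS.mp hc).1 (mem_cNS.mp hc).2).2.2]
    exact Or.inr hcard

theorem mem_range_uSL {g : SL} :
    g ∈ (Linear.uSL (F := F)).range ↔ ∃ x, g = nu 1 rt_one x := by
  have h : ∀ x : F, Linear.uSL (Multiplicative.ofAdd x) = nu 1 rt_one x := fun x =>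
    Subtype.ext (by rw [Linear.coe_uSL]; rfl)
  constructor
  · rintro ⟨t, rfl⟩; exact ⟨t.toAdd, h t.toAdd⟩
  · rintro ⟨x, rfl⟩; exact ⟨_, h x⟩

theorem nu_one_pow (n : ℕ) (x : F) : nu 1 rt_one x ^ n = nu 1 rt_one (n * x) := by
  induction n with
  | zero => simp [nu_one_zero]
  | succ n ih =>
    rw [pow_succ, ih, nu_mul 1 1 rt_one rt_one _ _ (by rw [one_mul]; exact rt_one)]
    apply slExt <;> simp; ring

/-- A non-scalar element of prime order other than 2 and the characteristic is regular. -/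
theorem regular_of_pow {p ℓ : ℕ} [CharP F p] [Fact p.Prime] (hℓ : ℓ.Prime) (h2 : ℓ ≠ 2) (hp : ℓ ≠ p)
    {z : SL} (hz : NonScalar z) (hord : z ^ ℓ = 1) : Regular z := by
  by_contra hr
  obtain ⟨w, hw, x, P, -, hP⟩ := exists_conj_nu hz (not_not.mp hr)
  have h1 : nu w hw x ^ 2 = nu 1 rt_one (w * x + x * w) := by
    rw [sq, nu_mul w w hw hw x x (by rw [hw]; exact rt_one)]
    exact nu_congr hw _ _ _
  have h2p : z ^ (2 * p) = 1 := by
    rw [← hP, conj_pow, pow_mul, h1, nu_one_pow, CharP.cast_eq_zero, zero_mul, nu_one_zero]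
    group
  have hcop : Nat.Coprime ℓ (2 * p) :=
    Nat.Coprime.mul_right ((Nat.coprime_primes hℓ Nat.prime_two).mpr h2)
      ((Nat.coprime_primes hℓ Fact.out).mpr hp)
  have h3 : z ^ ℓ.gcd (2 * p) = 1 := pow_gcd_eq_one.mpr ⟨hord, h2p⟩
  rw [hcop.gcd_eq_one, pow_one] at h3
  rw [h3, ← nu_one_zero] at hz
  exact not_nonScalar_nu_zero _ _ hz

theorem card_conjClasses_borel (hodd : Odd (Fintype.card F)) :
    Nat.card (ConjClasses (borel : Subgroup SL)) = Fintype.card F + 3 := by
  classical
  let T := (Fˣ × F) × (Fˣ × F)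
  have hcomm : ∀ p r : Fˣ × F, Commute (mkB p.1 p.2) (mkB r.1 r.2) ↔
      r.2 * ((p.1 : F) - ((p.1⁻¹ : Fˣ) : F)) = p.2 * ((r.1 : F) - ((r.1⁻¹ : Fˣ) : F)) := by
    intro p r
    constructor
    · intro h
      have := congrArg (fun z : (borel : Subgroup SL) => z.1.1 0 1) h.eq
      simp [mkB, mul_apply'] at this
      simp only [Units.val_inv_eq_inv_val]
      linear_combination this
    · intro h
      simp only [Units.val_inv_eq_inv_val] at h
      refine Subtype.ext (slExt ?_ ?_ ?_ ?_) <;> simp [mkB, mul_apply'] <;>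
        first | linear_combination h | ring
  have h2 : (2 : F) ≠ 0 := Cfsg.Agent.Lib.Linear.two_ne_zero_of_odd_card hodd
  let d : Fˣ → F := fun a => (a : F) - ((a⁻¹ : Fˣ) : F)
  have hd : ∀ a : Fˣ, d a = 0 ↔ a = 1 ∨ a = -1 := fun a => by
    have h1 : d a = 0 ↔ (a : F) * a = 1 := by
      simp only [d, sub_eq_zero]
      refine ⟨fun h => by nth_rewrite 2 [h]; exact a.mul_inv, fun h => ?_⟩
      rw [Units.val_inv_eq_inv_val]
      exact eq_inv_of_mul_eq_one_left h
    rw [h1, mul_self_eq_one_iff, Units.ext_iff, Units.ext_iff, Units.val_one, Units.val_neg,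
      Units.val_one]
  have hfib : ∀ p : Fˣ × F, (Finset.univ.filter fun r : Fˣ × F => r.2 * d p.1 = p.2 * d r.1).card =
      if d p.1 = 0 then (if p.2 = 0 then (Fintype.card F - 1) * Fintype.card F else 2 * Fintype.card F)
      else Fintype.card F - 1 := by
    intro p
    split_ifs with h h'
    · rw [h, h', Finset.filter_true_of_mem fun r _ => by simp]
      rw [Finset.card_univ, Fintype.card_prod, Fintype.card_units]
    · have : (Finset.univ.filter fun r : Fˣ × F => r.2 * d p.1 = p.2 * d r.1) =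
          ({1, -1} : Finset Fˣ) ×ˢ Finset.univ := by
        ext r
        simp [h, h', hd]
      rw [this, Finset.card_product, Finset.card_univ, Finset.card_pair fun e => h2 ?_]
      have e' : (1 : F) = -1 := by simpa using congrArg Units.val e
      linear_combination e'
    · rw [← Fintype.card_units, ← Finset.card_univ]
      refine Finset.card_bij' (fun r _ => r.1) (fun c _ => (c, p.2 * d c / d p.1))
        (fun _ _ => Finset.mem_univ _) (fun c _ => ?_) (fun r hr => ?_) (fun c _ => rfl)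
      · simp [div_mul_cancel₀ _ h]
      · refine Prod.ext rfl ?_
        rw [← (Finset.mem_filter.mp hr).2]
        exact mul_div_cancel_right₀ _ h
  have hpairs : Nat.card {x : ↥(borel : Subgroup SL) × ↥(borel : Subgroup SL) // Commute x.1 x.2} =
      ∑ p : Fˣ × F, (if d p.1 = 0 then
        (if p.2 = 0 then (Fintype.card F - 1) * Fintype.card F else 2 * Fintype.card F)
      else Fintype.card F - 1) := by
    rw [← Finset.sum_congr rfl fun p _ => hfib p]
    rw [← Nat.card_congr (((borelEquiv (F := F)).prodCongr borelEquiv).subtypeEquiv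
      (p := fun x => Commute (mkB x.1.1 x.1.2) (mkB x.2.1 x.2.2)) fun x => Iff.rfl),
      Nat.card_eq_fintype_card, Fintype.card_subtype, Finset.card_filter, Fintype.sum_prod_type]
    refine Finset.sum_congr rfl fun p _ => ?_
    rw [Finset.card_filter]
    exact Finset.sum_congr rfl fun r _ => if_congr (hcomm p r) rfl rfl
  rw [card_comm_eq_card_conjClasses_mul_card, card_borel, Fintype.sum_prod_type] at hpairs
  obtain ⟨k, hk⟩ := hodd
  have hq2 := two_le_q (F := F)
  have hin : ∀ a : Fˣ, (∑ b : F, if d a = 0 then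
        (if b = 0 then (Fintype.card F - 1) * Fintype.card F else 2 * Fintype.card F)
      else Fintype.card F - 1) =
      if d a = 0 then 3 * ((Fintype.card F - 1) * Fintype.card F)
      else Fintype.card F * (Fintype.card F - 1) := by
    intro a
    by_cases h : d a = 0
    · simp only [h, if_true]
      rw [← Finset.add_sum_erase _ _ (Finset.mem_univ (0 : F)), if_pos rfl,
        Finset.sum_congr rfl (g := fun _ => 2 * Fintype.card F)
          (fun b hb => if_neg (Finset.mem_erase.mp hb).1), Finset.sum_const,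
        Finset.card_erase_of_mem (Finset.mem_univ _), Finset.card_univ, smul_eq_mul]
      ring
    · simp [h, Finset.card_univ]
  simp only [hin] at hpairs
  have hroots : (Finset.univ.filter fun a : Fˣ => d a = 0) = ({1, -1} : Finset Fˣ) := by
    ext a; simp [hd]
  rw [Finset.sum_ite, hroots, Finset.sum_const, Finset.sum_const, smul_eq_mul, smul_eq_mul,
    Finset.card_pair fun e => h2 (by
      have e' : (1 : F) = -1 := by simpa using congrArg Units.val e
      linear_combination e'), Finset.filter_not, Finset.card_univ_sdiff, hroots,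
    Finset.card_pair fun e => h2 (by
      have e' : (1 : F) = -1 := by simpa using congrArg Units.val e
      linear_combination e'), Fintype.card_units] at hpairs
  rw [hk] at hpairs ⊢
  obtain ⟨m, rfl⟩ : ∃ m, k = m + 1 := ⟨k - 1, by omega⟩
  rw [show 2 * (m + 1) + 1 - 1 = 2 * m + 2 by omega, show 2 * m + 2 - 2 = 2 * m by omega] at hpairs
  refine Nat.eq_of_mul_eq_mul_right (m := (2 * m + 2) * (2 * (m + 1) + 1)) (by positivity) ?_
  rw [hpairs]; ring

theorem normalizer_uSL : NS (Linear.uSL (F := F)).range = (borel : Subgroup SL) := by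
  refine le_antisymm (fun g hg => ?_) fun g hg => ?_
  · obtain ⟨x, hx⟩ := mem_range_uSL.mp ((Subgroup.mem_normalizer_iff.mp hg (nu 1 rt_one 1)).mp
      (mem_range_uSL.mpr ⟨1, rfl⟩))
    exact mem_borel.mpr (conj_nu_eq rt_one rt_one one_ne_zero hx).2.1
  · refine mem_normalizer_of_conj_mem fun u hu => ?_
    obtain ⟨x, rfl⟩ := mem_range_uSL.mp hu
    have hd := SL2Tori.Borel.det_borel hg
    refine mem_range_uSL.mpr ⟨g.1 0 0 * g.1 0 0 * x, ?_⟩
    rw [mul_inv_eq_iff_eq_mul]
    apply slExt <;> simp [mul_apply', mem_borel.mp hg]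
    linear_combination g.1 0 0 * x * (-hd)

theorem not_dvd_index_subgroupOf {ℓ : ℕ} [Fact ℓ.Prime] (S : Sylow ℓ SL) :
    ¬ ℓ ∣ ((S : Subgroup SL).subgroupOf (NS (S : Subgroup SL))).index := fun h =>
  S.not_dvd_index (h.trans (Dvd.intro _
    (Subgroup.relIndex_mul_index (Subgroup.le_normalizer (H := (S : Subgroup SL))))))

/-- `ℓ = p`. -/
theorem card_local_p (hodd : Odd (Fintype.card F)) {p : ℕ} [Fact p.Prime] [CharP F p] (S : Sylow p SL) :
    Nat.card {ψ : Cfsg.IrrCharacter (NS (S : Subgroup SL)) //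
      ¬ p ∣ Cfsg.charDegree (ψ : NS (S : Subgroup SL) → ℂ)} = Fintype.card F + 3 := by
  obtain ⟨g, hg⟩ := Linear.exists_sylow_eq_conj_SL p S
  have hA : ∀ a ∈ (S : Subgroup SL).subgroupOf (NS (S : Subgroup SL)),
      ∀ b ∈ (S : Subgroup SL).subgroupOf (NS (S : Subgroup SL)), a * b = b * a := by
    intro a ha b hb
    obtain ⟨_, ⟨s, rfl⟩, hs⟩ := (SetLike.ext_iff.mp hg _).mp (Subgroup.mem_subgroupOf.mp ha)
    obtain ⟨_, ⟨t, rfl⟩, ht⟩ := (SetLike.ext_iff.mp hg _).mp (Subgroup.mem_subgroupOf.mp hb)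
    refine Subtype.ext ?_
    simp only [Subgroup.coe_mul, ← hs, ← ht]
    exact (((Commute.all s t).map Linear.uSL).map
      ((MulDistribMulAction.toMonoidEnd (MulAut SL) SL) (MulAut.conj g) : SL →* SL)).eq
  rw [card_of_abelian_normal _ hA (not_dvd_index_subgroupOf S), ← card_conjClasses_borel hodd]
  let e : SL ≃* SL := MulAut.conj g
  have hN : NS (S : Subgroup SL) = (borel : Subgroup SL).map e.toMonoidHom := by
    rw [← normalizer_uSL, Subgroup.map_equiv_normalizer_eq, hg]; rfl
  let f := ((borel : Subgroup SL).equivMapOfInjective e.toMonoidHom e.injective).trans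
    (MulEquiv.subgroupCongr hN.symm)
  exact le_antisymm (Nat.card_le_card_of_surjective _ (ConjClasses.map_surjective
    (f := f.toMonoidHom) f.surjective)) (Nat.card_le_card_of_surjective _ (ConjClasses.map_surjective
    (f := f.symm.toMonoidHom) f.symm.surjective))

/-- `ℓ` odd and different from `p`. -/
theorem card_local_odd (hodd : Odd (Fintype.card F)) {p ℓ : ℕ} [Fact p.Prime] [CharP F p]
    [hℓ : Fact ℓ.Prime] (h2 : ℓ ≠ 2) (hp : ℓ ≠ p) (hdvd : ℓ ∣ Nat.card SL) (S : Sylow ℓ SL) :
    ∃ t, (t = Fintype.card F - 1 ∨ t = Fintype.card F + 1) ∧ ℓ ∣ t ∧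
      2 * Nat.card {ψ : Cfsg.IrrCharacter (NS (S : Subgroup SL)) //
        ¬ ℓ ∣ Cfsg.charDegree (ψ : NS (S : Subgroup SL) → ℂ)} = t + 6 := by
  have hne : (S : Subgroup SL) ≠ ⊥ := S.ne_bot_of_dvd_card hdvd
  have : Nontrivial (S : Subgroup SL) := (Subgroup.nontrivial_iff_ne_bot _).mpr hne
  have hdS : ℓ ∣ Nat.card (Subgroup.center (S : Subgroup SL)) := by
    have := S.isPGroup'.center_nontrivial
    obtain ⟨n, hn⟩ := IsPGroup.iff_card.mp (S.isPGroup'.to_subgroup (Subgroup.center _))
    rw [hn]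
    refine dvd_pow_self ℓ fun h0 => ?_
    rw [h0, pow_zero] at hn
    exact absurd hn (ne_of_gt Finite.one_lt_card)
  obtain ⟨⟨⟨z, hzS⟩, hzc⟩, hord⟩ := exists_prime_orderOf_dvd_card' ℓ hdS
  have hord' : orderOf z = ℓ := by rwa [Subgroup.orderOf_mk, Subgroup.orderOf_mk] at hord
  have hz1 : z ^ ℓ = 1 := by rw [← hord', pow_orderOf_eq_one]
  have hns : NonScalar z := by
    by_contra h
    rcases scalar_cases h with rfl | rfl
    · rw [orderOf_one] at hord'; exact hℓ.out.ne_one hord'.symm
    · have : orderOf (negOne : SL) ∣ 2 := orderOf_dvd_of_pow_eq_one (by rw [sq, negOne_sq])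
      rw [hord'] at this
      exact h2 ((Nat.prime_dvd_prime_iff_eq hℓ.out Nat.prime_two).mp this)
  have hreg := regular_of_pow (p := p) hℓ.out h2 hp hns hz1
  have hST : (S : Subgroup SL) ≤ torus z := fun s hs => mem_torus.mpr
    (congrArg Subtype.val (Subgroup.mem_center_iff.mp hzc ⟨s, hs⟩))
  have hF : (2 : F) ≠ 0 := Cfsg.Agent.Lib.Linear.two_ne_zero_of_odd_card hodd
  have hN : NS (S : Subgroup SL) = NS (torus z) := by
    refine le_antisymm (fun g hg => ?_) fun g hg => ?_
    · refine mem_normalizer_of_conj_mem fun a ha => ?_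
      have hmem : g * z * g⁻¹ ∈ torus z := hST ((Subgroup.mem_normalizer_iff.mp hg z).mp hzS)
      rw [← SL2Tori.torus_eq_of_mem hreg hmem (nonScalar_conj hns g), SL2Tori.torus_conj]
      exact ⟨a, ha, rfl⟩
    · refine mem_normalizer_of_conj_mem fun a ha => ?_
      by_cases hgT : g ∈ torus z
      · rw [torus_comm hreg hgT (hST ha), mul_inv_cancel_right]; exact ha
      · rw [SL2Tori.conj_eq_inv_of_mem_normalizer hF hreg hg hgT (hST ha)]
        exact inv_mem ha
  have ht := card_torus_cases hreg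
  refine ⟨_, ht, hord' ▸ ?_, ?_⟩
  · rw [← Nat.card_zpowers]
    exact Subgroup.card_dvd_of_le (Subgroup.zpowers_le.mpr (self_mem_torus z))
  · rw [hN, ← SL2Tori.card_conjClasses_normalizer_torus hodd hreg]
    congr 1
    refine card_of_abelian_normal ((torus z).subgroupOf (NS (torus z)))
      (fun a ha b hb => Subtype.ext (torus_comm hreg ha hb)) ?_
    have hcard := ((torus z).subgroupOf (NS (torus z))).card_mul_index
    rw [Nat.card_congr (Subgroup.subgroupOfEquivOfLe Subgroup.le_normalizer).toEquiv,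
      SL2Tori.card_normalizer_torus hodd hreg, mul_comm 2] at hcard
    rw [Nat.eq_of_mul_eq_mul_left Nat.card_pos hcard]
    exact fun h => h2 ((Nat.prime_dvd_prime_iff_eq hℓ.out Nat.prime_two).mp h)

/-- `ℓ = 2`. -/
theorem card_local_two (hodd : Odd (Fintype.card F)) (S : Sylow 2 SL) :
    Nat.card {ψ : Cfsg.IrrCharacter (NS (S : Subgroup SL)) //
      ¬ 2 ∣ Cfsg.charDegree (ψ : NS (S : Subgroup SL) → ℂ)} = 4 := by
  classical
  let N := NS (S : Subgroup SL)
  let V : Subgroup N := (S : Subgroup SL).subgroupOf N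
  let eV : V ≃* (S : Subgroup SL) := Subgroup.subgroupOfEquivOfLe Subgroup.le_normalizer
  have hV : IsPGroup 2 V := S.isPGroup'.of_equiv eV.symm
  have hidx : ¬ 2 ∣ V.index := not_dvd_index_subgroupOf S
  obtain ⟨k, hk, ⟨eQ⟩⟩ := Linear.sylow_two_SL2_quaternion hodd S
  haveI : NeZero (2 ^ k) := ⟨by positivity⟩
  have hcV : Nat.card V = 4 * 2 ^ k := by
    rw [Nat.card_congr (eV.trans eQ).toEquiv, Nat.card_eq_fintype_card, QuaternionGroup.card]
  have hcD : Nat.card (commutator V) = 2 ^ k := by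
    have h : (commutator V).map (eV.trans eQ).toMonoidHom = commutator (QuaternionGroup (2 ^ k)) := by
      rw [commutator_def, commutator_def, Subgroup.map_commutator,
        Subgroup.map_top_of_surjective _ (eV.trans eQ).surjective]
    rw [Nat.card_congr ((commutator V).equivMapOfInjective (eV.trans eQ).toMonoidHom
      (eV.trans eQ).injective).toEquiv, h, QuatSylow.commutator_eq, Nat.card_zpowers,
      QuatSylow.orderOf_a_two]
  have hD : Nat.card (⁅V, V⁆ : Subgroup N) = 2 ^ k := by
    rw [← Subgroup.map_subtype_commutator, ← hcD]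
    exact (Nat.card_congr ((commutator V).equivMapOfInjective V.subtype V.subtype_injective).toEquiv).symm
  have hfr : ∀ x ∈ (⁅V, V⁆ : Subgroup N),
      (x : SL) ∈ (frattini (S : Subgroup SL)).map (S : Subgroup SL).subtype := by
    intro x hx
    rw [← Subgroup.map_subtype_commutator] at hx
    obtain ⟨v, hv, rfl⟩ := hx
    refine ⟨eV v, PGroups.commutator_le_frattini S.isPGroup' ?_, rfl⟩
    have h : (commutator V).map eV.toMonoidHom = commutator (S : Subgroup SL) := by
      rw [commutator_def, commutator_def, Subgroup.map_commutator,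
        Subgroup.map_top_of_surjective _ eV.surjective]
    rw [← h]
    exact ⟨v, hv, rfl⟩
  rw [card_odd_degree V hV hidx]
  let π := QuotientGroup.mk' (⁅V, V⁆ : Subgroup N)
  have hDV : (⁅V, V⁆ : Subgroup N) ≤ V := Subgroup.commutator_le_left V V
  have hiA : (V.map π).index = V.index :=
    V.index_map_eq (QuotientGroup.mk'_surjective _) (by rwa [QuotientGroup.ker_mk'])
  have hcA : Nat.card (V.map π) = 4 := by
    have h1 := (V.map π).card_mul_index
    have h2 := (⁅V, V⁆ : Subgroup N).card_mul_index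
    have h3 := V.card_mul_index
    rw [hiA] at h1
    rw [hD, Subgroup.index_eq_card, ← h1, ← h3, hcV] at h2
    exact Nat.eq_of_mul_eq_mul_left (n := 2 ^ k * V.index) (Nat.mul_pos (by positivity)
      (Nat.pos_of_ne_zero Subgroup.index_ne_zero_of_finite)) (by linarith)
  have : (V.map π).Normal := Subgroup.Normal.map inferInstance _ (QuotientGroup.mk'_surjective _)
  refine card_conjClasses_of_four (V.map π) hcA ?_ (hiA ▸ hidx) fun w hw => ?_
  · rintro _ ⟨a, ha, rfl⟩ _ ⟨b, hb, rfl⟩
    rw [← map_mul, ← map_mul, QuotientGroup.mk'_apply, QuotientGroup.mk'_apply, QuotientGroup.eq]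
    have := Subgroup.commutator_mem_commutator (V.inv_mem hb) (V.inv_mem ha)
    simpa [commutatorElement_def, mul_assoc] using this
  obtain ⟨g, rfl⟩ := QuotientGroup.mk'_surjective _ w
  refine ⟨g, ?_, rfl⟩
  obtain ⟨a, m, hm, hgo⟩ := Nat.exists_eq_two_pow_mul_odd (orderOf_pos g).ne'
  have ho : orderOf (((g ^ 2 ^ a : N)) : SL) = m := by
    rw [Subgroup.orderOf_coe, orderOf_pow' _ (by positivity), hgo, Nat.gcd_mul_right_left,
      Nat.mul_div_cancel_left _ (by positivity)]
  obtain ⟨j, hj⟩ := IsPGroup.iff_card.mp (S.isPGroup'.to_subgroup (frattini (S : Subgroup SL)))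
  have hle := Coprime.le_centralizer_of_frattini (K := (S : Subgroup SL))
    (A := Subgroup.zpowers ((g ^ 2 ^ a : N) : SL)) (Subgroup.zpowers_le.mpr (g ^ 2 ^ a).2)
    (by rw [Nat.card_zpowers, ho, hj]; exact Nat.Coprime.pow_right _ (Nat.coprime_two_right.mpr hm))
    (by
      rintro _ ⟨i, rfl⟩ s hs
      have hsN : s ∈ N := Subgroup.le_normalizer hs
      have hc : Commute (π g) (π ⟨s, hsN⟩) := hw _ ⟨⟨s, hsN⟩, hs, rfl⟩
      have hc' := ((hc.pow_left (2 ^ a)).zpow_left i).eq
      rw [← map_pow, ← map_zpow, ← map_mul, ← map_mul, QuotientGroup.mk'_apply,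
        QuotientGroup.mk'_apply, eq_comm, QuotientGroup.eq_iff_div_mem] at hc'
      have := hfr _ (inv_mem hc')
      simpa [div_eq_mul_inv, mul_assoc] using this)
  have hc : ∀ s ∈ (S : Subgroup SL), s * ((g ^ 2 ^ a : N) : SL) = ((g ^ 2 ^ a : N) : SL) * s :=
    fun s hs => (Subgroup.mem_centralizer_iff.mp (hle (Subgroup.mem_zpowers _)) s hs)
  have hscal : ¬ NonScalar ((g ^ 2 ^ a : N) : SL) := by
    intro hns
    have hab : ∀ s t : (S : Subgroup SL), s * t = t * s := fun s t =>
      Subtype.ext (commute_of_commute hns (hc s s.2) (hc t t.2))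
    have hbot : commutator V = ⊥ := by
      rw [commutator_def, Subgroup.commutator_eq_bot_iff_le_centralizer]
      exact fun v _ => Subgroup.mem_centralizer_iff.mpr fun u _ => eV.injective (by
        rw [map_mul, map_mul, hab])
    rw [hbot, Subgroup.card_bot] at hcD
    have : 1 < 2 ^ k := Nat.one_lt_two_pow (by omega)
    omega
  have hm1 : m = 1 := by
    rw [← ho]
    rcases scalar_cases hscal with h | h
    · rw [h, orderOf_one]
    · have : orderOf (negOne : SL) ∣ 2 := orderOf_dvd_of_pow_eq_one (by rw [sq, negOne_sq])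
      rw [← h, ho] at this
      rw [ho]
      rcases (Nat.dvd_prime Nat.prime_two).mp this with h1 | h1
      · exact h1
      · rw [h1] at hm; exact absurd hm (by decide)
  rw [hm1, mul_one] at hgo
  refine (QuotientGroup.eq_one_iff (N := V) g).mp ?_
  have h1 : (g : N ⧸ V) ^ 2 ^ a = 1 := by
    rw [← hgo, ← QuotientGroup.mk_pow, pow_orderOf_eq_one, QuotientGroup.mk_one]
  have h2 : (g : N ⧸ V) ^ V.index = 1 := by
    rw [Subgroup.index_eq_card]; exact pow_card_eq_one'
  have h3 : (g : N ⧸ V) ^ (2 ^ a).gcd V.index = 1 := pow_gcd_eq_one.mpr ⟨h1, h2⟩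
  rwa [Nat.Coprime.gcd_eq_one (Nat.Coprime.pow_left a
    (Nat.prime_two.coprime_iff_not_dvd.mpr hidx)), pow_one] at h3

end Cfsg.Agent.Lib.SL2Chars49.McKay
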