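import Mathlib
import Cfsg.Agent.Lib.SL2Chars49.Counts
import Cfsg.Agent.Lib.SL2Chars49.McKayTools

/-!
The number of irreducible characters of SL₂(q), `q` odd, with a given property of the degree.
-/

set_option autoImplicit false
set_option linter.unusedSectionVars false

namespace Cfsg.Agent.Lib.SL2Chars49.McKay

open Cfsg.Agent.Lib.SL2Chars49

variable {F : Type*} [Field F] [Fintype F] [DecidableEq F]

local notation "SL" => Matrix.SpecialLinearGroup (Fin 2) F

theorem card_by_degree (hodd : Odd (Fintype.card F)) (P : ℕ → Prop) [DecidablePred P] :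
    Nat.card {χ : Cfsg.IrrCharacter SL // P (Cfsg.charDegree (χ : SL → ℂ))} =
      (if P 1 then 1 else 0) + (if P (Fintype.card F) then 1 else 0)
      + (if P (Fintype.card F + 1) then (Fintype.card F - 3) / 2 else 0)
      + (if P (Fintype.card F - 1) then (Fintype.card F - 1) / 2 else 0)
      + (if P ((Fintype.card F + 1) / 2) then 2 else 0)
      + (if P ((Fintype.card F - 1) / 2) then 2 else 0) := by
  classical
  obtain ⟨C, hC, hcard⟩ := exists_C (F := F)
  obtain ⟨ε, θ, -, -, -, -, ⟨H⟩⟩ := exists_data hC hcard hodd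
  haveI := Fintype.ofFinite (Cfsg.IrrCharacter SL)
  let q := Fintype.card F
  have hq2 := two_le_q (F := F)
  have hq : 3 ≤ q := by rcases hodd with ⟨k, hk⟩; omega
  let D : Cfsg.IrrCharacter SL → ℕ := fun χ => Cfsg.charDegree (χ : SL → ℂ)
  let one : Cfsg.IrrCharacter SL := ⟨fun _ => 1, (Characters.Basic.oneChar SL).2⟩
  let stI : Cfsg.IrrCharacter SL := ⟨st, isIrr_st⟩
  let E3 := (pSet F).attach.image fun α => (⟨pi α.1, isIrr_pi (mem_pSet.mp α.2)⟩ : Cfsg.IrrCharacter SL)
  let E4 := (xSet C).attach.image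
    fun θ => (⟨dX hC hcard θ.1, isIrr_dX hC hcard (mem_xSet.mp θ.2)⟩ : Cfsg.IrrCharacter SL)
  let E5 : Finset (Cfsg.IrrCharacter SL) := {H.p1, H.p2}
  let E6 : Finset (Cfsg.IrrCharacter SL) := {H.m1, H.m2}
  have d1 : D one = 1 := charDegree_of_eq (by simp [one])
  have d2 : D stI = q := charDegree_of_eq (by simp [stI, q, st_one])
  have d3 : ∀ χ ∈ E3, D χ = q + 1 := by
    intro χ h; obtain ⟨α, -, rfl⟩ := Finset.mem_image.mp h
    exact charDegree_of_eq (by simp [q, pi_one])
  have d4 : ∀ χ ∈ E4, D χ = q - 1 := by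
    intro χ h; obtain ⟨α, -, rfl⟩ := Finset.mem_image.mp h
    refine charDegree_of_eq ?_
    rw [Nat.cast_sub (by omega), Nat.cast_one]
    exact dX_one hC hcard α.1
  have d5 : ∀ χ ∈ E5, D χ = (q + 1) / 2 := by
    intro χ h
    simp only [E5, Finset.mem_insert, Finset.mem_singleton] at h
    have := halfP_cast hodd
    rcases h with rfl | rfl
    · exact charDegree_of_eq (by linear_combination (H.deg_p1 - this) / 2)
    · exact charDegree_of_eq (by linear_combination (H.deg_p2 - this) / 2)
  have d6 : ∀ χ ∈ E6, D χ = (q - 1) / 2 := by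
    intro χ h
    simp only [E6, Finset.mem_insert, Finset.mem_singleton] at h
    have := halfM_cast hodd
    rcases h with rfl | rfl
    · exact charDegree_of_eq (by linear_combination (H.deg_m1 - this) / 2)
    · exact charDegree_of_eq (by linear_combination (H.deg_m2 - this) / 2)
  have hRt := card_rtT_of_odd (F := F) hodd
  have c3 : E3.card = (q - 3) / 2 := by
    have h1 : E3.image Subtype.val = (pSet F).image pi := by
      rw [Finset.image_image]
      conv_rhs => rw [← Finset.attach_image_val (s := pSet F), Finset.image_image]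
      rfl
    have h2 := two_mul_card_image (pSet F) pi (fun a ha => ?_) (fun a ha => ?_)
      (fun a ha b _ => pi_eq_iff (mem_pSet.mp ha))
    · rw [← h1, Finset.card_image_of_injective _ Subtype.val_injective] at h2
      have := card_pSet (F := F)
      omega
    · rw [mem_pSet] at ha ⊢; rwa [inv_pow, Ne, inv_eq_one]
    · rw [mem_pSet, pow_two] at ha; exact ha
  have c4 : E4.card = (q - 1) / 2 := by
    have h1 : E4.image Subtype.val = (xSet C).image (dX hC hcard) := by
      rw [Finset.image_image]
      conv_rhs => rw [← Finset.attach_image_val (s := xSet C), Finset.image_image]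
      rfl
    have h2 := two_mul_card_image (xSet C) (dX hC hcard) (fun a ha => ?_) (fun a ha => ?_)
      (fun a ha b _ => dX_eq_iff hC hcard (mem_xSet.mp ha))
    · rw [← h1, Finset.card_image_of_injective _ Subtype.val_injective] at h2
      have := card_xSet hC hcard
      omega
    · rw [mem_xSet] at ha ⊢; rwa [inv_pow, Ne, inv_eq_one]
    · rw [mem_xSet, pow_two] at ha; exact ha
  have hbase : ∀ χ ∈ ({one} ∪ {stI} ∪ E3 ∪ E4 : Finset _),
      IsBase hC hcard ((χ : Cfsg.IrrCharacter SL) : SL → ℂ) := by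
    intro χ h
    simp only [Finset.mem_union, Finset.mem_singleton] at h
    rcases h with ((rfl | rfl) | h) | h
    · exact Or.inl rfl
    · exact Or.inr (Or.inl rfl)
    · obtain ⟨α, -, rfl⟩ := Finset.mem_image.mp h
      exact Or.inr (Or.inr (Or.inl ⟨α.1, mem_pSet.mp α.2, rfl⟩))
    · obtain ⟨α, -, rfl⟩ := Finset.mem_image.mp h
      exact Or.inr (Or.inr (Or.inr ⟨α.1, mem_xSet.mp α.2, rfl⟩))
  have hnb : ∀ χ ∈ E5 ∪ E6, ¬ IsBase hC hcard ((χ : Cfsg.IrrCharacter SL) : SL → ℂ) := by
    intro χ h
    refine H.not_base χ ?_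
    simp only [E5, E6, Finset.mem_union, Finset.mem_insert, Finset.mem_singleton] at h
    simp only [List.mem_cons, List.not_mem_nil, or_false]
    tauto
  have huniv : (Finset.univ : Finset (Cfsg.IrrCharacter SL)) =
      (({one} ∪ {stI} ∪ E3 ∪ E4) ∪ (E5 ∪ E6)) := by
    refine (Finset.eq_univ_of_forall fun χ => ?_).symm
    simp only [E5, E6, Finset.mem_union, Finset.mem_insert, Finset.mem_singleton]
    rcases H.all χ with h | h | h | h | h
    · rcases h with h | h | ⟨α, hα, h⟩ | ⟨α, hα, h⟩
      · exact Or.inl (Or.inl (Or.inl (Or.inl (Subtype.ext h))))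
      · exact Or.inl (Or.inl (Or.inl (Or.inr (Subtype.ext h))))
      · exact Or.inl (Or.inl (Or.inr (Finset.mem_image.mpr
          ⟨⟨α, mem_pSet.mpr hα⟩, Finset.mem_attach _ _, Subtype.ext h.symm⟩)))
      · exact Or.inl (Or.inr (Finset.mem_image.mpr
          ⟨⟨α, mem_xSet.mpr hα⟩, Finset.mem_attach _ _, Subtype.ext h.symm⟩))
    all_goals tauto
  have j12 : Disjoint ({one} : Finset (Cfsg.IrrCharacter SL)) {stI} := by
    rw [Finset.disjoint_singleton]
    intro e; have := congrArg D e; omega
  have j3 : Disjoint ({one} ∪ {stI} : Finset _) E3 := Finset.disjoint_left.mpr fun χ h h3 => by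
    have := d3 χ h3
    simp only [Finset.mem_union, Finset.mem_singleton] at h
    rcases h with rfl | rfl <;> omega
  have j4 : Disjoint ({one} ∪ {stI} ∪ E3 : Finset _) E4 := Finset.disjoint_left.mpr fun χ h h4 => by
    have := d4 χ h4
    simp only [Finset.mem_union, Finset.mem_singleton] at h
    rcases h with (rfl | rfl) | h
    · omega
    · omega
    · have := d3 χ h; omega
  have j56 : Disjoint E5 E6 := Finset.disjoint_left.mpr fun χ h h' => by
    simp only [E5, E6, Finset.mem_insert, Finset.mem_singleton] at h h'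
    obtain ⟨n1, n2, n3, n4⟩ := H.ne_pm
    rcases h with rfl | rfl <;> rcases h' with h' | h' <;> contradiction
  have j : Disjoint ({one} ∪ {stI} ∪ E3 ∪ E4 : Finset _) (E5 ∪ E6) :=
    Finset.disjoint_left.mpr fun χ h h' => hnb χ h' (hbase χ h)
  rw [Nat.card_eq_fintype_card, Fintype.card_subtype, Finset.card_filter, huniv,
    Finset.sum_union j, Finset.sum_union j4, Finset.sum_union j3, Finset.sum_union j12,
    Finset.sum_union j56, Finset.sum_singleton, Finset.sum_singleton]
  have hsum : ∀ (s : Finset (Cfsg.IrrCharacter SL)) (d : ℕ), (∀ χ ∈ s, D χ = d) →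
      (∑ χ ∈ s, if P (D χ) then 1 else 0) = if P d then s.card else 0 := by
    intro s d h
    rw [Finset.sum_congr rfl (g := fun _ => if P d then 1 else 0) fun χ hχ => by rw [h χ hχ]]
    split_ifs <;> simp
  rw [hsum E3 _ d3, hsum E4 _ d4, hsum E5 _ d5, hsum E6 _ d6, c3, c4,
    show E5.card = 2 from Finset.card_pair H.ne_p, show E6.card = 2 from Finset.card_pair H.ne_m]
  simp only [D] at d1 d2
  rw [d1, d2]
  ring

end Cfsg.Agent.Lib.SL2Chars49.McKay
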